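import Mathlib

/-!
# Pointwise stabilizers in alternating groups

Generation of a pointwise stabilizer by three-cycles, and the existence of even permutations with
prescribed values at a few points.
-/

set_option autoImplicit false

namespace CfsgLib.PGroup.AltDeg

open Equiv Equiv.Perm

variable {r : ℕ}

/-- The alternating group on `r` points. -/
abbrev Alt (r : ℕ) : Type := ↥(alternatingGroup (Fin r))

/-- The product of two transpositions, as an even permutation. -/
def alt2 (a b c d : Fin r) : Alt r :=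
  if h : a ≠ b ∧ c ≠ d then
    ⟨swap a b * swap c d, by
      rw [mem_alternatingGroup, map_mul, sign_swap h.1, sign_swap h.2]; rfl⟩
  else 1

theorem coe_alt2 {a b c d : Fin r} (h₁ : a ≠ b) (h₂ : c ≠ d) :
    (alt2 a b c d : Perm (Fin r)) = swap a b * swap c d := by
  rw [alt2, dif_pos ⟨h₁, h₂⟩]

/-- The cycle `a → b → c → a`. -/
def cyc (a b c : Fin r) : Alt r := alt2 a b b c

theorem coe_cyc {a b c : Fin r} (h₁ : a ≠ b) (h₂ : b ≠ c) :
    (cyc a b c : Perm (Fin r)) = swap a b * swap b c := coe_alt2 h₁ h₂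

theorem cyc_fst {a b c : Fin r} (hab : a ≠ b) (hbc : b ≠ c) (hac : a ≠ c) :
    (cyc a b c : Perm (Fin r)) a = b := by
  rw [coe_cyc hab hbc, Perm.mul_apply, swap_apply_of_ne_of_ne hab hac, swap_apply_left]

theorem cyc_snd {a b c : Fin r} (hab : a ≠ b) (hbc : b ≠ c) (hac : a ≠ c) :
    (cyc a b c : Perm (Fin r)) b = c := by
  rw [coe_cyc hab hbc, Perm.mul_apply, swap_apply_left, swap_apply_of_ne_of_ne hac.symm hbc.symm]

theorem cyc_trd {a b c : Fin r} (hab : a ≠ b) (hbc : b ≠ c) :
    (cyc a b c : Perm (Fin r)) c = a := by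
  rw [coe_cyc hab hbc, Perm.mul_apply, swap_apply_right, swap_apply_right]

theorem alt2_fix {a b c d x : Fin r} (ha : x ≠ a) (hb : x ≠ b) (hc : x ≠ c) (hd : x ≠ d) :
    (alt2 a b c d : Perm (Fin r)) x = x := by
  unfold alt2; split_ifs with h
  · show (swap a b * swap c d) x = x
    rw [Perm.mul_apply, swap_apply_of_ne_of_ne hc hd, swap_apply_of_ne_of_ne ha hb]
  · rfl

theorem cyc_fix {a b c x : Fin r} (ha : x ≠ a) (hb : x ≠ b) (hc : x ≠ c) :
    (cyc a b c : Perm (Fin r)) x = x := alt2_fix ha hb hb hc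

theorem conj_alt2 (g : Alt r) (a b c d : Fin r) (h₁ : a ≠ b) (h₂ : c ≠ d) :
    g * alt2 a b c d * g⁻¹ =
      alt2 ((g : Perm (Fin r)) a) ((g : Perm (Fin r)) b) ((g : Perm (Fin r)) c)
        ((g : Perm (Fin r)) d) := by
  apply Subtype.ext
  simp only [Subgroup.coe_mul, Subgroup.coe_inv, coe_alt2 h₁ h₂,
    coe_alt2 ((g : Perm (Fin r)).injective.ne h₁) ((g : Perm (Fin r)).injective.ne h₂)]
  rw [Equiv.swap_apply_apply, Equiv.swap_apply_apply]
  group

theorem conj_cyc (g : Alt r) (a b c : Fin r) (h₁ : a ≠ b) (h₂ : b ≠ c) :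
    g * cyc a b c * g⁻¹ =
      cyc ((g : Perm (Fin r)) a) ((g : Perm (Fin r)) b) ((g : Perm (Fin r)) c) :=
  conj_alt2 g a b b c h₁ h₂

/-- The subgroup fixing the points of `S`. -/
def fixS (S : Set (Fin r)) : Subgroup (Alt r) where
  carrier := {g | ∀ x ∈ S, (g : Perm (Fin r)) x = x}
  one_mem' := fun _ _ => rfl
  mul_mem' := fun {g h} hg hh x hx => by
    show (g : Perm (Fin r)) ((h : Perm (Fin r)) x) = x
    rw [hh x hx, hg x hx]
  inv_mem' := fun {g} hg x hx => by
    show (g : Perm (Fin r))⁻¹ x = x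
    rw [Perm.inv_eq_iff_eq]; exact (hg x hx).symm

theorem mem_fixS {S : Set (Fin r)} {g : Alt r} :
    g ∈ fixS S ↔ ∀ x ∈ S, (g : Perm (Fin r)) x = x := Iff.rfl

theorem fixS_anti {S T : Set (Fin r)} (h : S ⊆ T) : fixS T ≤ fixS S :=
  fun _ hg x hx => hg x (h hx)

theorem alt2_mem_fixS {S : Set (Fin r)} {a b c d : Fin r} (ha : a ∉ S) (hb : b ∉ S) (hc : c ∉ S)
    (hd : d ∉ S) : alt2 a b c d ∈ fixS S := fun x hx =>
  alt2_fix (fun h => ha (h ▸ hx)) (fun h => hb (h ▸ hx)) (fun h => hc (h ▸ hx))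
    (fun h => hd (h ▸ hx))

theorem cyc_mem_fixS {S : Set (Fin r)} {a b c : Fin r} (ha : a ∉ S) (hb : b ∉ S) (hc : c ∉ S) :
    cyc a b c ∈ fixS S := alt2_mem_fixS ha hb hb hc

theorem conj_mem_fixS {S : Set (Fin r)} {h g : Alt r} (hg : g ∈ fixS S) :
    h * g * h⁻¹ ∈ fixS ((h : Perm (Fin r)) '' S) := by
  rintro _ ⟨x, hx, rfl⟩
  show (h : Perm (Fin r)) ((g : Perm (Fin r)) ((h : Perm (Fin r))⁻¹ ((h : Perm (Fin r)) x))) = _
  rw [show (h : Perm (Fin r))⁻¹ ((h : Perm (Fin r)) x) = x from Equiv.symm_apply_apply _ x, hg x hx]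

/-- A pointwise stabilizer lies in every subgroup containing its three-cycles. -/
theorem fixS_le {S : Set (Fin r)} (K : Subgroup (Alt r))
    (h : ∀ a b c : Fin r, a ∉ S → b ∉ S → c ∉ S → a ≠ b → b ≠ c → a ≠ c → cyc a b c ∈ K) :
    fixS S ≤ K := by
  classical
  suffices H : ∀ n, ∀ g : Alt r, (g : Perm (Fin r)).support.card = n → g ∈ fixS S → g ∈ K from
    fun g hg => H _ g rfl hg
  intro n
  induction n using Nat.strong_induction_on with
  | _ n ih =>
    intro g hn hg
    by_cases h1 : (g : Perm (Fin r)) = 1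
    · rw [show g = 1 from Subtype.ext h1]; exact one_mem _
    obtain ⟨x, hx⟩ : ∃ x, (g : Perm (Fin r)) x ≠ x := by
      by_contra hc
      push Not at hc
      exact h1 (Perm.ext hc)
    obtain ⟨y, hy⟩ : ∃ y, y = (g : Perm (Fin r)) x := ⟨_, rfl⟩
    have hyy : (g : Perm (Fin r)) y ≠ y := fun e => hx ((g : Perm (Fin r)).injective (hy ▸ e))
    have hyx : y ≠ x := hy ▸ hx
    obtain ⟨z, hz, hzx, hzy⟩ : ∃ z, (g : Perm (Fin r)) z ≠ z ∧ z ≠ x ∧ z ≠ y := by
      by_contra hc
      push Not at hc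
      have hs : (g : Perm (Fin r)).support ⊆ {x, y} := fun z hz => by
        rw [Perm.mem_support] at hz
        simp only [Finset.mem_insert, Finset.mem_singleton]
        by_cases e : z = x
        · exact Or.inl e
        · exact Or.inr (hc z hz e)
      have h2 : (g : Perm (Fin r)).support.card = 2 := by
        have := Finset.card_le_card hs
        have := Perm.two_le_card_support_of_ne_one h1
        have := Finset.card_le_two (a := x) (b := y)
        omega
      have := (Perm.card_support_eq_two.1 h2).sign_eq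
      rw [(mem_alternatingGroup.1 g.2)] at this
      exact absurd this (by decide)
    have hnS : ∀ w, (g : Perm (Fin r)) w ≠ w → w ∉ S := fun w hw hS => hw (hg w hS)
    have hτ : cyc y x z ∈ K := h y x z (hnS y hyy) (hnS x hx) (hnS z hz) hyx hzx.symm hzy.symm
    have hτS : cyc y x z ∈ fixS S := cyc_mem_fixS (hnS y hyy) (hnS x hx) (hnS z hz)
    have hlt : ((cyc y x z * g : Alt r) : Perm (Fin r)).support.card < n := by
      refine hn ▸ Finset.card_lt_card ((Finset.ssubset_iff_of_subset ?_).2 ⟨x, Perm.mem_support.2 hx, ?_⟩)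
      · intro w hw
        rw [Perm.mem_support] at hw ⊢
        intro e
        apply hw
        show (cyc y x z : Perm (Fin r)) ((g : Perm (Fin r)) w) = w
        rw [e]
        exact alt2_fix (fun h => hyy (h ▸ e)) (fun h => hx (h ▸ e)) (fun h => hx (h ▸ e))
          (fun h => hz (h ▸ e))
      · rw [Perm.notMem_support]
        show (cyc y x z : Perm (Fin r)) ((g : Perm (Fin r)) x) = x
        rw [← hy]
        exact cyc_fst hyx hzx.symm hzy.symm
    have := K.mul_mem (K.inv_mem hτ) (ih _ hlt (cyc y x z * g) rfl ((fixS S).mul_mem hτS hg))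
    simpa using this

theorem exists_two_outside {m : ℕ} (t : Fin m → Fin r) (h : m + 2 ≤ r) :
    ∃ a b : Fin r, a ≠ b ∧ (∀ i, t i ≠ a) ∧ ∀ i, t i ≠ b := by
  classical
  have hc : 1 < ((Finset.univ.image t)ᶜ).card := by
    rw [Finset.card_compl, Fintype.card_fin]
    have : (Finset.univ.image t).card ≤ m :=
      Finset.card_image_le.trans (le_of_eq (Finset.card_fin m))
    omega
  obtain ⟨a, ha, b, hb, hab⟩ := Finset.one_lt_card.1 hc
  simp only [Finset.mem_compl, Finset.mem_image, Finset.mem_univ, true_and, not_exists] at ha hb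
  exact ⟨a, b, hab, ha, hb⟩

/-- An even permutation with prescribed values at a few points. -/
theorem exists_alt_map {m : ℕ} (s t : Fin m → Fin r) (hs : Function.Injective s)
    (ht : Function.Injective t) (h : m + 2 ≤ r) :
    ∃ g : Alt r, ∀ i, (g : Perm (Fin r)) (s i) = t i := by
  classical
  obtain ⟨π, hπ⟩ : ∃ π : Perm (Fin r), ∀ i, π (s i) = t i := by
    let e : {x // x ∈ Set.range s} ≃ {x // x ∈ Set.range t} :=
      (Equiv.ofInjective s hs).symm.trans (Equiv.ofInjective t ht)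
    refine ⟨e.extendSubtype, fun i => ?_⟩
    rw [Equiv.extendSubtype_apply_of_mem e (s i) ⟨i, rfl⟩]
    show ((Equiv.ofInjective t ht) ((Equiv.ofInjective s hs).symm ⟨s i, _⟩) : Fin r) = t i
    rw [Equiv.ofInjective_symm_apply hs i]
    rfl
  rcases Int.units_eq_one_or (Perm.sign π) with hπs | hπs
  · exact ⟨⟨π, mem_alternatingGroup.2 hπs⟩, hπ⟩
  · obtain ⟨a, b, hab, ha, hb⟩ := exists_two_outside t h
    refine ⟨⟨swap a b * π, mem_alternatingGroup.2 (by rw [map_mul, sign_swap hab, hπs]; rfl)⟩,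
      fun i => ?_⟩
    show swap a b (π (s i)) = t i
    rw [hπ, swap_apply_of_ne_of_ne (ha i) (hb i)]

/-- Injectivity of a tuple of four points. -/
theorem inj_four {a b c d : Fin r} (hab : a ≠ b) (hac : a ≠ c) (had : a ≠ d) (hbc : b ≠ c)
    (hbd : b ≠ d) (hcd : c ≠ d) : Function.Injective ![a, b, c, d] := by
  intro i j
  fin_cases i <;> fin_cases j <;> simp_all [Ne.symm]

/-- Injectivity of a tuple of three points. -/
theorem inj_three {a b c : Fin r} (hab : a ≠ b) (hac : a ≠ c) (hbc : b ≠ c) :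
    Function.Injective ![a, b, c] := by
  intro i j
  fin_cases i <;> fin_cases j <;> simp_all [Ne.symm]

theorem exists_alt_map₂ {a b a' b' : Fin r} (hr : 4 ≤ r) (h : a ≠ b) (h' : a' ≠ b') :
    ∃ g : Alt r, (g : Perm (Fin r)) a = a' ∧ (g : Perm (Fin r)) b = b' := by
  obtain ⟨g, hg⟩ := exists_alt_map ![a, b] ![a', b']
    (fun i j => by fin_cases i <;> fin_cases j <;> simp_all [Ne.symm])
    (fun i j => by fin_cases i <;> fin_cases j <;> simp_all [Ne.symm]) hr
  exact ⟨g, by simpa using hg 0, by simpa using hg 1⟩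

theorem exists_alt_map₃ {a b c a' b' c' : Fin r} (hr : 5 ≤ r) (h : Function.Injective ![a, b, c])
    (h' : Function.Injective ![a', b', c']) :
    ∃ g : Alt r, (g : Perm (Fin r)) a = a' ∧ (g : Perm (Fin r)) b = b' ∧
      (g : Perm (Fin r)) c = c' := by
  obtain ⟨g, hg⟩ := exists_alt_map ![a, b, c] ![a', b', c'] h h' hr
  exact ⟨g, by simpa using hg 0, by simpa using hg 1, by simpa using hg 2⟩

/-- A subgroup normalized by a pointwise stabilizer that contains one of its three-cycles contains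
all of it. -/
theorem fixS_le_of_normalized {m : ℕ} (s : Fin m → Fin r) (hs : Function.Injective s)
    (hm : m + 5 ≤ r) (K : Subgroup (Alt r))
    (hK : ∀ h ∈ fixS (Set.range s), ∀ g ∈ K, h * g * h⁻¹ ∈ K) {a b c : Fin r}
    (ha : a ∉ Set.range s) (hb : b ∉ Set.range s) (hc : c ∉ Set.range s) (hab : a ≠ b) (hbc : b ≠ c)
    (hac : a ≠ c) (h : cyc a b c ∈ K) : fixS (Set.range s) ≤ K := by
  refine fixS_le K fun x y z hx hy hz hxy hyz hxz => ?_
  have inj : ∀ {u v w : Fin r}, u ∉ Set.range s → v ∉ Set.range s → w ∉ Set.range s →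
      Function.Injective ![u, v, w] → Function.Injective (Fin.append s ![u, v, w]) := by
    intro u v w hu hv hw h3 i j
    refine Fin.addCases (fun i => ?_) (fun i => ?_) i <;>
      refine Fin.addCases (fun j => ?_) (fun j => ?_) j <;>
      simp only [Fin.append_left, Fin.append_right]
    · intro e; rw [hs e]
    · intro e
      exfalso
      fin_cases j
      exacts [hu ⟨i, e⟩, hv ⟨i, e⟩, hw ⟨i, e⟩]
    · intro e
      exfalso
      fin_cases i
      exacts [hu ⟨j, e.symm⟩, hv ⟨j, e.symm⟩, hw ⟨j, e.symm⟩]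
    · intro e; rw [h3 e]
  obtain ⟨g, hg⟩ := exists_alt_map _ _ (inj ha hb hc (inj_three hab hac hbc))
    (inj hx hy hz (inj_three hxy hxz hyz)) (by omega)
  have hgS : g ∈ fixS (Set.range s) := by
    rintro _ ⟨i, rfl⟩
    simpa [Fin.append_left] using hg (Fin.castAdd 3 i)
  have e : ∀ i : Fin 3, (g : Perm (Fin r)) (![a, b, c] i) = ![x, y, z] i := fun i => by
    simpa [Fin.append_right] using hg (Fin.natAdd m i)
  have := hK g hgS _ h
  rw [conj_cyc g a b c hab hbc] at this
  convert this using 2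
  exacts [(e 0).symm, (e 1).symm, (e 2).symm]

end CfsgLib.PGroup.AltDeg
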