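import Mathlib
import Cfsg.Agent.S0714
import Cfsg.Agent.Lib.PGroup.AltDeg.Basic

/-!
# The permutation module inside a representation of an alternating group

If small even permutations move vectors only inside the fixed space of the alternating group on the
remaining points, the heart of the permutation module maps nontrivially into the representation.
-/

set_option autoImplicit false

universe u v

namespace CfsgLib.PGroup.AltDeg

open Equiv Equiv.Perm

variable {r : ℕ} {k : Type u} [Field k] {V : Type v} [AddCommGroup V] [Module k V]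

/-- The elements fixing a vector. -/
def stabV (ρ : Representation k (Alt r) V) (w : V) : Subgroup (Alt r) where
  carrier := {g | ρ g w = w}
  one_mem' := by simp
  mul_mem' := fun {g h} hg hh => by
    show ρ (g * h) w = w
    rw [map_mul, Module.End.mul_apply, hh, hg]
  inv_mem' := fun {g} hg => by
    show ρ g⁻¹ w = w
    conv_lhs => rw [← (hg : ρ g w = w), ← Module.End.mul_apply, ← map_mul, inv_mul_cancel, map_one]
    rfl

theorem mem_stabV {ρ : Representation k (Alt r) V} {w : V} {g : Alt r} :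
    g ∈ stabV ρ w ↔ ρ g w = w := Iff.rfl

theorem stabV_apply {ρ : Representation k (Alt r) V} (g h : Alt r) (w : V) :
    ρ g (ρ h w) = ρ (g * h) w := by rw [map_mul, Module.End.mul_apply]

/-- Elements agreeing at a point act equally on a vector fixed by the stabilizer of that point. -/
theorem apply_eq_of_point {ρ : Representation k (Alt r) V} {w : V} {H : Subgroup (Alt r)} {e : Fin r}
    (hw : ∀ g ∈ H, (g : Perm (Fin r)) e = e → ρ g w = w) {g h : Alt r} (hg : g ∈ H) (hh : h ∈ H)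
    (he : (g : Perm (Fin r)) e = (h : Perm (Fin r)) e) : ρ g w = ρ h w := by
  have h1 : ρ (h⁻¹ * g) w = w := hw _ (H.mul_mem (H.inv_mem hh) hg) (by
    show (h : Perm (Fin r))⁻¹ ((g : Perm (Fin r)) e) = e
    rw [he]; exact Equiv.symm_apply_apply _ e)
  calc ρ g w = ρ h (ρ (h⁻¹ * g) w) := by rw [stabV_apply, mul_inv_cancel_left]
    _ = ρ h w := by rw [h1]

/-- A vector on which five points act as on a coordinate vector. -/
theorem exists_point_vector (ρ : Representation k (Alt r) V)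
    (hfix : ∀ v : V, (∀ g, ρ g v = v) → v = 0) {w : V} (hw0 : w ≠ 0) {a b c d : Fin r}
    (hinj : Function.Injective ![a, b, c, d])
    (hw : fixS ({a, b, c, d} : Set (Fin r))ᶜ ≤ stabV ρ w) (hr : 9 ≤ r) :
    ∃ x, x ∉ ({a, b, c, d} : Set (Fin r)) ∧
      ¬ fixS ({a, b, c, d, x} : Set (Fin r))ᶜ ≤ stabV ρ w := by
  by_contra hc
  push Not at hc
  apply hw0
  apply hfix
  intro g
  have hab : a ≠ b := fun e => absurd (hinj (show ![a, b, c, d] 0 = ![a, b, c, d] 1 from e)) (by decide)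
  have key : ∀ x, x ≠ a → x ≠ b → cyc a b x ∈ stabV ρ w := by
    intro x hxa hxb
    by_cases hx : x ∈ ({a, b, c, d} : Set (Fin r))
    · exact hw (cyc_mem_fixS (by simp) (by simp) (fun h => h hx))
    · exact hc x hx (cyc_mem_fixS (by simp) (by simp) (by simp))
  have htop : fixS (∅ : Set (Fin r)) ≤ stabV ρ w := by
    have hr' : 5 ≤ r := by omega
    obtain ⟨x, y, hxy, hxa, hyb⟩ := exists_two_outside ![a, b] (by omega)
    have hx1 : x ≠ a := (hxa 0).symm
    have hx2 : x ≠ b := (hxa 1).symm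
    have hy1 : y ≠ a := (hyb 0).symm
    have hy2 : y ≠ b := (hyb 1).symm
    refine fixS_le _ fun u v t _ _ _ huv hvt hut => ?_
    -- two points can be moved anywhere inside the stabilizer
    have hconj : ∀ z z', z ≠ a → z ≠ b → z' ≠ a → z' ≠ b → z ≠ z' →
        cyc b z z' ∈ stabV ρ w := by
      intro z z' h1 h2 h3 h4 h5
      have h : cyc a b z * cyc a b z' * (cyc a b z)⁻¹ ∈ stabV ρ w :=
        mul_mem (mul_mem (key z h1 h2) (key z' h3 h4)) (inv_mem (key z h1 h2))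
      rw [conj_cyc _ _ _ _ hab h4.symm, cyc_fst hab h2.symm h1.symm, cyc_snd hab h2.symm h1.symm,
        cyc_fix h3 h4 h5.symm] at h
      exact h
    have hto : ∀ z, ∃ s ∈ stabV ρ w, (s : Perm (Fin r)) z = a := by
      intro z
      by_cases h1 : z = a
      · exact ⟨1, one_mem _, h1⟩
      by_cases h2 : z = b
      · refine ⟨(cyc a b x)⁻¹, inv_mem (key x hx1 hx2), ?_⟩
        show (cyc a b x : Perm (Fin r))⁻¹ z = a
        rw [Perm.inv_eq_iff_eq, cyc_fst hab hx2.symm hx1.symm, h2]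
      · exact ⟨cyc a b z, key z h1 h2, cyc_trd hab (Ne.symm h2)⟩
    have hto2 : ∀ z, z ≠ a → ∃ s ∈ stabV ρ w, (s : Perm (Fin r)) a = a ∧ (s : Perm (Fin r)) z = b := by
      intro z h1
      by_cases h2 : z = b
      · exact ⟨1, one_mem _, rfl, h2⟩
      obtain ⟨z', hz1, hz2, hz3⟩ : ∃ z', z' ≠ a ∧ z' ≠ b ∧ z' ≠ z := by
        by_cases h : x = z
        · exact ⟨y, hy1, hy2, h ▸ hxy.symm⟩
        · exact ⟨x, hx1, hx2, h⟩
      exact ⟨cyc b z' z, hconj z' z hz1 hz2 h1 h2 hz3,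
        alt2_fix hab hz1.symm hz1.symm (Ne.symm h1),
        cyc_trd hz2.symm hz3⟩
    obtain ⟨s₁, hs₁, hu⟩ := hto u
    obtain ⟨s₂, hs₂, h2a, hv⟩ := hto2 ((s₁ : Perm (Fin r)) v)
      (hu ▸ (s₁ : Perm (Fin r)).injective.ne huv.symm)
    have hsu : ((s₂ * s₁ : Alt r) : Perm (Fin r)) u = a := by
      show (s₂ : Perm (Fin r)) ((s₁ : Perm (Fin r)) u) = a
      rw [hu, h2a]
    have hsv : ((s₂ * s₁ : Alt r) : Perm (Fin r)) v = b := hv
    have hs : s₂ * s₁ ∈ stabV ρ w := mul_mem hs₂ hs₁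
    have ht : cyc a b (((s₂ * s₁ : Alt r) : Perm (Fin r)) t) ∈ stabV ρ w :=
      key _ (hsu ▸ (_ : Perm (Fin r)).injective.ne hut.symm)
        (hsv ▸ (_ : Perm (Fin r)).injective.ne hvt.symm)
    have h := mul_mem (mul_mem (inv_mem hs) ht) hs
    have e : (s₂ * s₁)⁻¹ * cyc a b (((s₂ * s₁ : Alt r) : Perm (Fin r)) t) * (s₂ * s₁) = cyc u v t := by
      have e0 : (s₂ * s₁) * cyc u v t * (s₂ * s₁)⁻¹ =
          cyc a b (((s₂ * s₁ : Alt r) : Perm (Fin r)) t) := by rw [conj_cyc _ _ _ _ huv hvt, hsu, hsv]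
      rw [← e0]
      group
    rwa [e] at h
  exact htop (fun _ h => h.elim)

/-- The lower bound for a representation in which small permutations move vectors only inside the
fixed space of the alternating group on the other points. -/
theorem core_bound [FiniteDimensional k V] (p : ℕ) [CharP k p] (hr : 9 ≤ r)
    (ρ : Representation k (Alt r) V) (hfix : ∀ v : V, (∀ g, ρ g v = v) → v = 0)
    (hS : ∀ x y z u : Fin r, Function.Injective ![x, y, z, u] →
      ∃ g ∈ fixS ({x, y, z, u} : Set (Fin r))ᶜ, (g : Perm (Fin r)) x = y ∧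
        ∀ h ∈ fixS ({x, y, z, u} : Set (Fin r)), ∀ v, ρ h (ρ g v - v) = ρ g v - v)
    {w : V} (hw0 : w ≠ 0) {q₁ q₂ q₃ q₄ : Fin r} (hinj : Function.Injective ![q₁, q₂, q₃, q₄])
    (hw : fixS ({q₁, q₂, q₃, q₄} : Set (Fin r))ᶜ ≤ stabV ρ w) :
    r - 1 - (if p ∣ r then 1 else 0) ≤ Module.finrank k V := by
  classical
  obtain ⟨e, he, hM⟩ := exists_point_vector ρ hfix hw0 hinj hw hr
  simp only [Set.mem_insert_iff, Set.mem_singleton_iff, not_or] at he
  obtain ⟨he1, he2, he3, he4⟩ := he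
  have hne : ∀ i j, i ≠ j → ![q₁, q₂, q₃, q₄] i ≠ ![q₁, q₂, q₃, q₄] j := fun i j h h' => h (hinj h')
  have q12 : q₁ ≠ q₂ := hne 0 1 (by decide)
  have q13 : q₁ ≠ q₃ := hne 0 2 (by decide)
  have q14 : q₁ ≠ q₄ := hne 0 3 (by decide)
  have q23 : q₂ ≠ q₃ := hne 1 2 (by decide)
  have q24 : q₂ ≠ q₄ := hne 1 3 (by decide)
  have q34 : q₃ ≠ q₄ := hne 2 3 (by decide)
  -- the five points
  let H : Subgroup (Alt r) := fixS ({q₁, q₂, q₃, q₄, e} : Set (Fin r))ᶜ
  have hwe : ∀ g ∈ H, (g : Perm (Fin r)) e = e → ρ g w = w := fun g hg he' => hw (fun x hx => by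
    by_cases hxe : x = e
    · rw [hxe, he']
    · exact hg x (fun h => by
        simp only [Set.mem_insert_iff, Set.mem_singleton_iff] at h
        simp only [Set.mem_compl_iff, Set.mem_insert_iff, Set.mem_singleton_iff] at hx
        tauto))
  obtain ⟨g, hgq, hge, hgfix⟩ := hS e q₁ q₂ q₃ (inj_four he1 he2 he3 q12 q13 q23)
  have hgH : g ∈ H := fixS_anti (Set.compl_subset_compl.2 (by
    intro x; simp only [Set.mem_insert_iff, Set.mem_singleton_iff]; tauto)) hgq
  obtain ⟨v, hv⟩ : ∃ v, v = ρ g w - w := ⟨_, rfl⟩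
  -- it does not vanish
  have hv0 : v ≠ 0 := by
    rw [hv, sub_ne_zero]
    intro hgw
    apply hM
    intro h hh
    show ρ h w = w
    obtain ⟨j, hj⟩ : ∃ j, j = (h : Perm (Fin r)) e := ⟨_, rfl⟩
    have hjmem : j = e ∨ j = q₁ ∨ j = q₂ ∨ j = q₃ ∨ j = q₄ := by
      by_contra hcon
      have h1 := hh j (by simpa [Set.mem_insert_iff] using (by tauto))
      exact (show j ≠ e by tauto) ((h : Perm (Fin r)).injective (h1.trans hj))
    have hmove : ∀ s ∈ H, (s : Perm (Fin r)) e = e → ρ (s * g) w = w := fun s hs hse => by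
      rw [← stabV_apply, hgw, hwe s hs hse]
    obtain ⟨s, hs, hse⟩ : ∃ s ∈ H, (s : Perm (Fin r)) e = j ∧ ρ s w = w := by
      have hc : ∀ x y z : Fin r, x ∈ ({q₁, q₂, q₃, q₄, e} : Set (Fin r)) →
          y ∈ ({q₁, q₂, q₃, q₄, e} : Set (Fin r)) → z ∈ ({q₁, q₂, q₃, q₄, e} : Set (Fin r)) →
          cyc x y z ∈ H := fun x y z hx hy hz =>
        cyc_mem_fixS (fun h => h hx) (fun h => h hy) (fun h => h hz)
      rcases hjmem with hj' | hj' | hj' | hj' | hj' <;> rw [hj']
      · exact ⟨1, one_mem _, rfl, by simp⟩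
      · exact ⟨g, hgH, hge, hgw⟩
      · refine ⟨cyc q₁ q₂ q₃ * g, mul_mem (hc _ _ _ (by simp) (by simp) (by simp)) hgH, ?_,
          hmove _ (hc _ _ _ (by simp) (by simp) (by simp)) (alt2_fix he1 he2 he2 he3)⟩
        show (cyc q₁ q₂ q₃ : Perm (Fin r)) ((g : Perm (Fin r)) e) = q₂
        rw [hge, cyc_fst q12 q23 q13]
      · refine ⟨cyc q₁ q₃ q₂ * g, mul_mem (hc _ _ _ (by simp) (by simp) (by simp)) hgH, ?_,
          hmove _ (hc _ _ _ (by simp) (by simp) (by simp)) (alt2_fix he1 he3 he3 he2)⟩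
        show (cyc q₁ q₃ q₂ : Perm (Fin r)) ((g : Perm (Fin r)) e) = q₃
        rw [hge, cyc_fst q13 q23.symm q12]
      · refine ⟨cyc q₁ q₄ q₂ * g, mul_mem (hc _ _ _ (by simp) (by simp) (by simp)) hgH, ?_,
          hmove _ (hc _ _ _ (by simp) (by simp) (by simp)) (alt2_fix he1 he4 he4 he2)⟩
        show (cyc q₁ q₄ q₂ : Perm (Fin r)) ((g : Perm (Fin r)) e) = q₄
        rw [hge, cyc_fst q14 q24.symm q12]
    exact (apply_eq_of_point hwe hh hs (hj ▸ hse.1.symm)).trans hse.2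
  -- it is fixed by the stabilizer of the two points
  have hvfix : fixS ({e, q₁} : Set (Fin r)) ≤ stabV ρ v := by
    have hsmall : fixS ({e, q₁, q₂, q₃} : Set (Fin r)) ≤ stabV ρ v := fun h hh => by
      show ρ h v = v; rw [hv]; exact hgfix h hh w
    have hσH : cyc q₂ q₃ q₄ ∈ H := cyc_mem_fixS (by simp) (by simp) (by simp)
    have hσe : (cyc q₂ q₃ q₄ : Perm (Fin r)) e = e := alt2_fix he2 he3 he3 he4
    have hσ : cyc q₂ q₃ q₄ ∈ stabV ρ v := by
      show ρ _ v = v
      rw [hv, map_sub, hwe _ hσH hσe, stabV_apply,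
        apply_eq_of_point hwe (H.mul_mem hσH hgH) hgH]
      show (cyc q₂ q₃ q₄ : Perm (Fin r)) ((g : Perm (Fin r)) e) = (g : Perm (Fin r)) e
      rw [hge]; exact alt2_fix q12 q13 q13 q14
    have key : ∀ x, x ≠ e → x ≠ q₁ → x ≠ q₂ → x ≠ q₃ → cyc q₂ q₃ x ∈ stabV ρ v := by
      intro x h1 h2 h3 h4
      by_cases hx : x = q₄
      · rw [hx]; exact hσ
      obtain ⟨y, z, hyz, hy, hz⟩ := exists_two_outside ![e, q₁, q₂, q₃, q₄, x] (by omega)
      have y0 : y ≠ e := Ne.symm (hy 0)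
      have y1 : y ≠ q₁ := Ne.symm (hy 1)
      have y2 : y ≠ q₂ := Ne.symm (hy 2)
      have y3 : y ≠ q₃ := Ne.symm (hy 3)
      have hh : cyc q₄ x y ∈ stabV ρ v := hsmall (cyc_mem_fixS
        (by simp [Ne.symm he4, q14.symm, q24.symm, q34.symm]) (by simp [h1, h2, h3, h4])
        (by simp [y0, y1, y2, y3]))
      have h := mul_mem (mul_mem hh hσ) (inv_mem hh)
      have hxy : x ≠ y := hy 5
      have h4y : q₄ ≠ y := hy 4
      have q₂x : q₂ ≠ x := Ne.symm h3
      rwa [conj_cyc _ _ _ _ q23 q34, cyc_fix q24 q₂x (hy 2),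
        cyc_fix q34 (Ne.symm h4) (hy 3), cyc_fst (Ne.symm hx) hxy h4y] at h
    refine fixS_le _ fun x y z hx hy hz hxy hyz hxz => ?_
    simp only [Set.mem_insert_iff, Set.mem_singleton_iff, not_or] at hx hy hz
    obtain ⟨u, u', huu, hu, hu'⟩ := exists_two_outside ![e, q₁, q₂, q₃] (by omega)
    -- the stabilizer moves two points anywhere
    have hto : ∀ x, x ≠ e → x ≠ q₁ → ∃ s ∈ stabV ρ v, (s : Perm (Fin r)) e = e ∧
        (s : Perm (Fin r)) q₁ = q₁ ∧ (s : Perm (Fin r)) x = q₂ := by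
      intro x h1 h2
      have hcyc : ∀ x, x ≠ e → x ≠ q₁ → x ≠ q₂ → x ≠ q₃ →
          (cyc q₂ q₃ x : Perm (Fin r)) e = e ∧ (cyc q₂ q₃ x : Perm (Fin r)) q₁ = q₁ :=
        fun x h1 h2 h3 h4 => ⟨alt2_fix he2 he3 he3 (Ne.symm h1), alt2_fix q12 q13 q13 (Ne.symm h2)⟩
      by_cases h3 : x = q₂
      · exact ⟨1, one_mem _, rfl, rfl, h3⟩
      by_cases h4 : x = q₃
      · obtain ⟨c1, c2⟩ := hcyc u (hu 0).symm (hu 1).symm (hu 2).symm (hu 3).symm
        refine ⟨(cyc q₂ q₃ u)⁻¹, inv_mem (key u (hu 0).symm (hu 1).symm (hu 2).symm (hu 3).symm),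
          ?_, ?_, ?_⟩
        · show (cyc q₂ q₃ u : Perm (Fin r))⁻¹ e = e
          rw [Perm.inv_eq_iff_eq, c1]
        · show (cyc q₂ q₃ u : Perm (Fin r))⁻¹ q₁ = q₁
          rw [Perm.inv_eq_iff_eq, c2]
        · show (cyc q₂ q₃ u : Perm (Fin r))⁻¹ x = q₂
          rw [Perm.inv_eq_iff_eq, cyc_fst q23 (hu 3) (hu 2), h4]
      obtain ⟨c1, c2⟩ := hcyc x h1 h2 h3 h4
      exact ⟨cyc q₂ q₃ x, key x h1 h2 h3 h4, c1, c2, cyc_trd q23 (Ne.symm h4)⟩
    have hto2 : ∀ x, x ≠ e → x ≠ q₁ → x ≠ q₂ → ∃ s ∈ stabV ρ v, (s : Perm (Fin r)) e = e ∧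
        (s : Perm (Fin r)) q₁ = q₁ ∧ (s : Perm (Fin r)) q₂ = q₂ ∧ (s : Perm (Fin r)) x = q₃ := by
      intro x h1 h2 h3
      by_cases h4 : x = q₃
      · exact ⟨1, one_mem _, rfl, rfl, rfl, h4⟩
      obtain ⟨w', h5, h6, h7, h8, h9⟩ :
          ∃ w', w' ≠ e ∧ w' ≠ q₁ ∧ w' ≠ q₂ ∧ w' ≠ q₃ ∧ w' ≠ x := by
        by_cases h : u = x
        · exact ⟨u', (hu' 0).symm, (hu' 1).symm, (hu' 2).symm, (hu' 3).symm, h ▸ huu.symm⟩
        · exact ⟨u, (hu 0).symm, (hu 1).symm, (hu 2).symm, (hu 3).symm, h⟩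
      have hc : cyc q₃ w' x ∈ stabV ρ v := by
        have hk := key w' h5 h6 h7 h8
        have h := mul_mem (mul_mem hk (key x h1 h2 h3 h4)) (inv_mem hk)
        rwa [conj_cyc _ _ _ _ q23 (Ne.symm h4), cyc_fst q23 h8.symm h7.symm,
          cyc_snd q23 h8.symm h7.symm, cyc_fix h3 h4 h9.symm] at h
      exact ⟨cyc q₃ w' x, hc, alt2_fix he3 h5.symm h5.symm (Ne.symm h1),
        alt2_fix q13 h6.symm h6.symm (Ne.symm h2), alt2_fix q23 h7.symm h7.symm (Ne.symm h3),
        cyc_trd h8.symm h9⟩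
    obtain ⟨s₁, hs₁, a1, a2, a3⟩ := hto x hx.1 hx.2
    obtain ⟨s₂, hs₂, b1, b2, b3, b4⟩ := hto2 ((s₁ : Perm (Fin r)) y)
      (a1 ▸ (s₁ : Perm (Fin r)).injective.ne hy.1) (a2 ▸ (s₁ : Perm (Fin r)).injective.ne hy.2)
      (a3 ▸ (s₁ : Perm (Fin r)).injective.ne hxy.symm)
    obtain ⟨s, hsdef⟩ : ∃ s, s = s₂ * s₁ := ⟨_, rfl⟩
    have hs : s ∈ stabV ρ v := hsdef ▸ mul_mem hs₂ hs₁
    have hse : (s : Perm (Fin r)) e = e := by
      rw [hsdef]; show (s₂ : Perm (Fin r)) ((s₁ : Perm (Fin r)) e) = e; rw [a1, b1]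
    have hs1 : (s : Perm (Fin r)) q₁ = q₁ := by
      rw [hsdef]; show (s₂ : Perm (Fin r)) ((s₁ : Perm (Fin r)) q₁) = q₁; rw [a2, b2]
    have hsx : (s : Perm (Fin r)) x = q₂ := by
      rw [hsdef]; show (s₂ : Perm (Fin r)) ((s₁ : Perm (Fin r)) x) = q₂; rw [a3, b3]
    have hsy : (s : Perm (Fin r)) y = q₃ := hsdef ▸ b4
    have ht := key ((s : Perm (Fin r)) z) (hse ▸ (s : Perm (Fin r)).injective.ne hz.1)
      (hs1 ▸ (s : Perm (Fin r)).injective.ne hz.2)
      (hsx ▸ (s : Perm (Fin r)).injective.ne hxz.symm) (hsy ▸ (s : Perm (Fin r)).injective.ne hyz.symm)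
    have h := mul_mem (mul_mem (inv_mem hs) ht) hs
    have e' : s⁻¹ * cyc q₂ q₃ ((s : Perm (Fin r)) z) * s = cyc x y z := by
      have e0 : s * cyc x y z * s⁻¹ = cyc q₂ q₃ ((s : Perm (Fin r)) z) := by
        rw [conj_cyc _ _ _ _ hxy hyz, hsx, hsy]
      rw [← e0]
      group
    rwa [e'] at h
  -- the vectors of ordered pairs
  have hwd : ∀ {h h' : Alt r}, (h : Perm (Fin r)) e = (h' : Perm (Fin r)) e →
      (h : Perm (Fin r)) q₁ = (h' : Perm (Fin r)) q₁ → ρ h v = ρ h' v := by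
    intro h h' h1 h2
    have hm : h'⁻¹ * h ∈ stabV ρ v := hvfix fun x hx => by
      show (h' : Perm (Fin r))⁻¹ ((h : Perm (Fin r)) x) = x
      rcases hx with rfl | hx
      · rw [h1]; exact Equiv.symm_apply_apply _ _
      · rw [Set.mem_singleton_iff] at hx; subst hx; rw [h2]; exact Equiv.symm_apply_apply _ _
    calc ρ h v = ρ h' (ρ (h'⁻¹ * h) v) := by rw [stabV_apply, mul_inv_cancel_left]
      _ = ρ h' v := by rw [mem_stabV.1 hm]
  have hex : ∀ i j : Fin r, i ≠ j → ∃ h : Alt r,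
      (h : Perm (Fin r)) e = i ∧ (h : Perm (Fin r)) q₁ = j :=
    fun i j hij => exists_alt_map₂ (by omega) he1 hij
  obtain ⟨P, hP, hPd⟩ : ∃ P : Fin r → Fin r → V, (∀ h : Alt r,
      P ((h : Perm (Fin r)) e) ((h : Perm (Fin r)) q₁) = ρ h v) ∧ ∀ i, P i i = 0 := by
    refine ⟨fun i j => if hij : i = j then 0 else ρ (hex i j hij).choose v, fun h => ?_, fun i => ?_⟩
    · have hne : (h : Perm (Fin r)) e ≠ (h : Perm (Fin r)) q₁ := (h : Perm (Fin r)).injective.ne he1
      simp only [dif_neg hne]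
      exact hwd (hex _ _ hne).choose_spec.1 (hex _ _ hne).choose_spec.2
    · simp only [dif_pos]
  have hPg : ∀ (h : Alt r) i j, ρ h (P i j) = P ((h : Perm (Fin r)) i) ((h : Perm (Fin r)) j) := by
    intro h i j
    by_cases hij : i = j
    · rw [hij, hPd, hPd, map_zero]
    obtain ⟨s, rfl, rfl⟩ := hex i j hij
    rw [hP, stabV_apply, ← hP]
    rfl
  -- antisymmetry and the cocycle identity
  have hanti : ∀ i j, P j i = - P i j := by
    intro i j
    by_cases hij : i = j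
    · rw [hij, hPd, neg_zero]
    obtain ⟨s, rfl, rfl⟩ := hex i j hij
    obtain ⟨t, ht⟩ : ∃ t, t = alt2 e q₁ q₂ q₃ := ⟨_, rfl⟩
    have htc : (t : Perm (Fin r)) = swap e q₁ * swap q₂ q₃ := ht ▸ coe_alt2 he1 q23
    have hte : (t : Perm (Fin r)) e = q₁ := by
      rw [htc, Perm.mul_apply, swap_apply_of_ne_of_ne he2 he3, swap_apply_left]
    have ht1 : (t : Perm (Fin r)) q₁ = e := by
      rw [htc, Perm.mul_apply, swap_apply_of_ne_of_ne q12 q13, swap_apply_right]
    have htH : t ∈ H := ht ▸ alt2_mem_fixS (by simp) (by simp) (by simp) (by simp)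
    have htv : ρ t v = -v := by
      rw [hv, map_sub, stabV_apply, neg_sub]
      congr 1
      · refine hwe _ (H.mul_mem htH hgH) ?_
        show (t : Perm (Fin r)) ((g : Perm (Fin r)) e) = e
        rw [hge, ht1]
      · exact apply_eq_of_point hwe htH hgH (hte.trans hge.symm)
    have h1 := hP (s * t)
    rw [map_mul, Module.End.mul_apply, htv, map_neg, ← hP s] at h1
    rw [← h1]
    show P _ _ = P ((s : Perm (Fin r)) ((t : Perm (Fin r)) e)) ((s : Perm (Fin r)) ((t : Perm (Fin r)) q₁))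
    rw [hte, ht1]
  have hcoc : ∀ i j l, P i j + P j l + P l i = 0 := by
    intro i j l
    by_cases hij : i = j
    · rw [hij, hPd, zero_add, hanti j l]; exact add_neg_cancel _
    by_cases hjl : j = l
    · rw [hjl, hPd, add_zero, hanti i l]; exact add_neg_cancel _
    by_cases hil : i = l
    · rw [hil, hPd, add_zero, hanti l j]; exact add_neg_cancel _
    obtain ⟨s, rfl, rfl, rfl⟩ := exists_alt_map₃ (r := r) (by omega) (inj_three he1 he2 q12)
      (inj_three hij hil hjl)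
    obtain ⟨c, hc⟩ : ∃ c, c = cyc e q₁ q₂ := ⟨_, rfl⟩
    have hce : (c : Perm (Fin r)) e = q₁ := hc ▸ cyc_fst he1 q12 he2
    have hc1 : (c : Perm (Fin r)) q₁ = q₂ := hc ▸ cyc_snd he1 q12 he2
    have hc2 : (c : Perm (Fin r)) q₂ = e := hc ▸ cyc_trd he1 q12
    have hcH : c ∈ H := hc ▸ cyc_mem_fixS (by simp) (by simp) (by simp)
    have hcw : ρ c w = ρ g w := apply_eq_of_point hwe hcH hgH (hce.trans hge.symm)
    have hccc : ρ c (ρ c (ρ c w)) = w := by
      rw [stabV_apply, stabV_apply]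
      refine hwe _ (H.mul_mem (H.mul_mem hcH hcH) hcH) ?_
      show (c : Perm (Fin r)) ((c : Perm (Fin r)) ((c : Perm (Fin r)) e)) = e
      rw [hce, hc1, hc2]
    have h0 : v + ρ c v + ρ c (ρ c v) = 0 := by
      rw [hv, ← hcw, map_sub, map_sub, hccc]
      abel
    have e0 : P e q₁ + P q₁ q₂ + P q₂ e = 0 := by
      have hv' : P e q₁ = v := by simpa using hP 1
      have h1 : P q₁ q₂ = ρ c v := by
        have := hP c; rwa [hce, hc1] at this
      have h2 : P q₂ e = ρ c (ρ c v) := by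
        rw [← h1, hPg, hc1, hc2]
      rw [hv', h1, h2]; exact h0
    have := congrArg (ρ s) e0
    simpa [map_add, hPg] using this
  -- the map from the functions with vanishing sum
  let Φ : (Fin r → k) →ₗ[k] V :=
    { toFun := fun f => ∑ i, f i • P i e
      map_add' := fun f f' => by simp [add_smul, Finset.sum_add_distrib]
      map_smul' := fun c f => by simp [Finset.smul_sum, smul_smul] }
  have hΦ : ∀ f : Fin r → k, ∑ i, f i = 0 → ∀ h : Alt r,
      ρ h (Φ f) = Φ (fun i => f ((h : Perm (Fin r))⁻¹ i)) := by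
    intro f hf h
    show ρ h (∑ i, f i • P i e) = ∑ i, f ((h : Perm (Fin r))⁻¹ i) • P i e
    rw [map_sum, ← Equiv.sum_comp (h : Perm (Fin r)) (fun i => f ((h : Perm (Fin r))⁻¹ i) • P i e)]
    have e1 : ∀ i, ρ h (f i • P i e) = f i • P ((h : Perm (Fin r)) i) e -
        f i • P ((h : Perm (Fin r)) e) e := fun i => by
      rw [map_smul, hPg, ← smul_sub]
      congr 1
      rw [eq_sub_iff_add_eq]
      have := hcoc ((h : Perm (Fin r)) i) ((h : Perm (Fin r)) e) e
      rw [hanti ((h : Perm (Fin r)) i) e] at this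
      exact sub_eq_zero.1 (by rw [sub_eq_add_neg]; exact this)
    simp only [e1, Finset.sum_sub_distrib, ← Finset.sum_smul, hf, zero_smul, sub_zero]
    exact Finset.sum_congr rfl fun i _ => by
      rw [show (h : Perm (Fin r))⁻¹ ((h : Perm (Fin r)) i) = i from Equiv.symm_apply_apply _ i]
  let SZ : Submodule k (Fin r → k) :=
    (Cfsg.permSumZero k (alternatingGroup (Fin r)) (Fin r)).toSubmodule
  let W : Subrepresentation (Cfsg.permRep k (alternatingGroup (Fin r)) (Fin r)) :=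
    { toSubmodule := SZ ⊓ LinearMap.ker Φ
      apply_mem_toSubmodule := fun h f hf => by
        obtain ⟨hf1, hf2⟩ := hf
        refine ⟨(Cfsg.permSumZero k _ _).apply_mem_toSubmodule h hf1, ?_⟩
        show Φ (fun i => f ((h : Perm (Fin r))⁻¹ i)) = 0
        rw [← hΦ f hf1 h, LinearMap.mem_ker.1 hf2, map_zero] }
  obtain ⟨f₀, hf₀⟩ : ∃ f₀ : Fin r → k, f₀ = Pi.single q₁ 1 - Pi.single e 1 := ⟨_, rfl⟩
  have hf₀Z : f₀ ∈ SZ := by
    show ∑ i, f₀ i = 0
    rw [hf₀]; simp [Finset.sum_sub_distrib]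
  have hf₀W : f₀ ∉ W.toSubmodule := by
    intro hmem
    have h1 : Φ f₀ = P q₁ e := by
      show ∑ i, f₀ i • P i e = _
      rw [hf₀]
      simp [sub_smul, Finset.sum_sub_distrib, Pi.single_apply, ite_smul, hPd]
    have h2 : P q₁ e = - v := by
      rw [hanti e q₁]; congr 1; simpa using hP 1
    exact hv0 (neg_eq_zero.1 (h2 ▸ h1 ▸ LinearMap.mem_ker.1 hmem.2))
  have hWle : W.toSubmodule ≤ SZ := inf_le_left
  have hZ : r ≤ Module.finrank k SZ + 1 := by
    let T : (Fin r → k) →ₗ[k] k :=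
      { toFun := fun f => ∑ i, f i
        map_add' := fun f f' => Finset.sum_add_distrib
        map_smul' := fun c f => by simp [Finset.mul_sum] }
    have hker : LinearMap.ker T = SZ := by ext f; rfl
    have h := LinearMap.finrank_range_add_finrank_ker T
    rw [hker, Module.finrank_fin_fun] at h
    have hle := Submodule.finrank_le (LinearMap.range T)
    rw [Module.finrank_self] at hle
    omega
  have hW : Module.finrank k W.toSubmodule ≤ if p ∣ r then 1 else 0 := by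
    rcases Cfsg.Agent.S0714.result (α := Fin r) (by rw [Fintype.card_fin]; omega) W with h | h | h | h
    · rw [h, finrank_bot]; exact Nat.zero_le _
    · have hc : W.toSubmodule ≤ Submodule.span k {fun _ => (1 : k)} := le_of_eq (congrArg (·.toSubmodule) h)
      split_ifs with hp
      · exact (Submodule.finrank_mono hc).trans
          ((finrank_span_le_card _).trans (by simp))
      · exfalso
        have hmem : (fun _ : Fin r => (1 : k)) ∈ SZ := hWle (by rw [h]; exact Submodule.mem_span_singleton_self _)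
        have : (r : k) = 0 := by
          have h1 : ∑ _i : Fin r, (1 : k) = 0 := hmem
          simpa using h1
        exact hp ((CharP.cast_eq_zero_iff k p r).1 this)
    · exact absurd (by rw [h]; exact hf₀Z) hf₀W
    · exact absurd (by rw [h]; trivial) hf₀W
  let Ψ : SZ →ₗ[k] V := Φ.comp SZ.subtype
  have hrn := LinearMap.finrank_range_add_finrank_ker Ψ
  have hk : Module.finrank k (LinearMap.ker Ψ) = Module.finrank k W.toSubmodule := by
    have e : LinearMap.ker Ψ = W.toSubmodule.comap SZ.subtype := by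
      ext x
      exact ⟨fun hx => ⟨x.2, hx⟩, fun hx => hx.2⟩
    rw [e]
    exact (Submodule.comapSubtypeEquivOfLe hWle).finrank_eq
  have := Submodule.finrank_le (LinearMap.range Ψ)
  omega

end CfsgLib.PGroup.AltDeg
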