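import Mathlib
import Cfsg.Agent.Lib.PGroup.AltDeg.Basic

/-!
# Weights of products of small commuting blocks in alternating groups
-/

set_option autoImplicit false

universe u v

namespace CfsgLib.PGroup.AltDeg

open Equiv Equiv.Perm

variable {r kk b : ℕ}

/-- An even permutation of the blocks, moved to the points by an embedding. -/
noncomputable def up (β : Fin kk × Fin b ↪ Fin r) : ↥(alternatingGroup (Fin kk × Fin b)) →* Alt r :=
  ((viaEmbeddingHom β).comp (alternatingGroup (Fin kk × Fin b)).subtype).codRestrict _ fun σ => by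
    rw [mem_alternatingGroup, MonoidHom.comp_apply, viaEmbeddingHom_apply, viaEmbedding,
      sign_extendDomain]
    exact σ.2

theorem up_apply (β : Fin kk × Fin b ↪ Fin r) (g : ↥(alternatingGroup (Fin kk × Fin b)))
    (x : Fin kk × Fin b) : (up β g : Perm (Fin r)) (β x) = β ((g : Perm (Fin kk × Fin b)) x) :=
  viaEmbedding_apply _ _ _

theorem up_fix (β : Fin kk × Fin b ↪ Fin r) (g : ↥(alternatingGroup (Fin kk × Fin b))) {y : Fin r}
    (hy : y ∉ Set.range β) : (up β g : Perm (Fin r)) y = y :=
  viaEmbedding_apply_of_notMem _ _ _ hy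

/-- The blocks permuted by `σ` after acting inside each by `f`. -/
def wr (σ : Perm (Fin kk)) (f : Fin kk → Perm (Fin b)) : Perm (Fin kk × Fin b) :=
  prodCongrLeft (fun _ => σ) * prodCongrRight f

theorem wr_apply (σ : Perm (Fin kk)) (f : Fin kk → Perm (Fin b)) (j : Fin kk) (i : Fin b) :
    wr σ f (j, i) = (σ j, f j i) := rfl

theorem sign_wr (σ : Perm (Fin kk)) (f : Fin kk → Perm (Fin b)) :
    sign (wr σ f) = sign σ ^ b * ∏ j, sign (f j) := by
  rw [wr, map_mul, sign_prodCongrLeft, sign_prodCongrRight, Finset.prod_const, Finset.card_univ,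
    Fintype.card_fin]

/-- A permutation inside one block. -/
def blk (j : Fin kk) (π : Perm (Fin b)) : Perm (Fin kk × Fin b) := prodExtendRight j π

theorem blk_apply (j j' : Fin kk) (π : Perm (Fin b)) (i : Fin b) :
    blk j π (j', i) = (j', if j' = j then π i else i) := by
  by_cases h : j' = j
  · subst h; rw [if_pos rfl]; exact prodExtendRight_apply_eq _ _ _
  · rw [if_neg h]; exact prodExtendRight_apply_ne _ h _

theorem sign_blk (j : Fin kk) (π : Perm (Fin b)) : sign (blk j π) = sign π := sign_prodExtendRight j π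

theorem blk_mul (j : Fin kk) (π π' : Perm (Fin b)) : blk j (π * π') = blk j π * blk j π' := by
  apply Perm.ext; rintro ⟨j', i⟩
  simp only [Perm.mul_apply, blk_apply]
  by_cases h : j' = j <;> simp [h]

theorem blk_one (j : Fin kk) : blk j (1 : Perm (Fin b)) = 1 := by
  apply Perm.ext; rintro ⟨j', i⟩
  simp [blk_apply]

theorem blk_comm {j l : Fin kk} {π π' : Perm (Fin b)} (h : j = l → π * π' = π' * π) :
    blk j π * blk l π' = blk l π' * blk j π := by
  by_cases e : j = l
  · rw [← e, ← blk_mul, ← blk_mul, h e]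
  apply Perm.ext; rintro ⟨j', i⟩
  simp only [Perm.mul_apply, blk_apply]
  by_cases h1 : j' = j
  · have h2 : j' ≠ l := fun h2 => e (h1.symm.trans h2)
    simp [h2]
  · simp [h1]

theorem blk_mul_wr (σ : Perm (Fin kk)) (f : Fin kk → Perm (Fin b)) (j : Fin kk) {π π' : Perm (Fin b)}
    (h : π * f j = f j * π') : blk (σ j) π * wr σ f = wr σ f * blk j π' := by
  apply Perm.ext; rintro ⟨j', i⟩
  simp only [Perm.mul_apply, blk_apply, wr_apply]
  by_cases h1 : j' = j
  · subst h1
    simpa using Perm.congr_fun h i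
  · simp [h1]

/-- A single block permutation, moved to the points. -/
noncomputable def op (β : Fin kk × Fin b ↪ Fin r) (j : Fin kk) (π : ↥(alternatingGroup (Fin b))) : Alt r :=
  up β ⟨blk j π, by rw [mem_alternatingGroup, sign_blk]; exact π.2⟩

theorem op_mul (β : Fin kk × Fin b ↪ Fin r) (j : Fin kk) (π π' : ↥(alternatingGroup (Fin b))) :
    op β j (π * π') = op β j π * op β j π' := by
  rw [op, op, op, ← map_mul]
  congr 1
  exact Subtype.ext (blk_mul j _ _)

theorem op_one (β : Fin kk × Fin b ↪ Fin r) (j : Fin kk) : op β j 1 = 1 := by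
  rw [op]
  exact (congrArg (up β) (Subtype.ext (blk_one j))).trans (map_one _)

theorem op_pow (β : Fin kk × Fin b ↪ Fin r) (j : Fin kk) (π : ↥(alternatingGroup (Fin b))) (m : ℕ) :
    op β j π ^ m = op β j (π ^ m) := by
  induction m with
  | zero => rw [pow_zero, pow_zero, op_one]
  | succ m ih => rw [pow_succ, pow_succ, op_mul, ih]

section Linear

variable {k : Type u} [Field k] {V : Type v} [AddCommGroup V] [Module k V]

/-- A vector moved by an element of order invertible in the field is not fixed by it. -/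
theorem eq_zero_of_moved_fixed {T : Module.End k V} {m : ℕ} (hm : (m : k) ≠ 0) (hT : T ^ m = 1)
    {u w : V} (hw : w = T u - u) (hfix : T w = w) : w = 0 := by
  have h : ∀ i : ℕ, (T ^ i) u = u + (i : k) • w := by
    intro i
    induction i with
    | zero => simp
    | succ i ih =>
      rw [pow_succ', Module.End.mul_apply, ih, map_add, map_smul, hfix,
        show T u = u + w by rw [hw]; abel, Nat.cast_succ, add_smul, one_smul]
      abel
  have := h m
  rw [hT, Module.End.one_apply, left_eq_add] at this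
  exact (smul_eq_zero.1 this).resolve_left hm

/-- A common eigenvector of commuting operators inside an invariant subspace. -/
theorem exists_eig [IsAlgClosed k] [FiniteDimensional k V] {ι : Type*} [Finite ι]
    (T : ι → Module.End k V) (hc : ∀ i j, T i * T j = T j * T i) (W : Submodule k V) (hW : W ≠ ⊥)
    (hinv : ∀ i, ∀ w ∈ W, T i w ∈ W) :
    ∃ v ∈ W, v ≠ 0 ∧ ∀ i, ∃ μ : k, T i v = μ • v := by
  classical
  have := Fintype.ofFinite ι
  suffices H : ∀ s : Finset ι, ∃ W' : Submodule k V, W' ≤ W ∧ W' ≠ ⊥ ∧ (∀ i, ∀ w ∈ W', T i w ∈ W') ∧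
      ∀ i ∈ s, ∃ μ : k, ∀ w ∈ W', T i w = μ • w by
    obtain ⟨W', h1, h2, -, h4⟩ := H Finset.univ
    obtain ⟨v, hv, hv0⟩ := Submodule.exists_mem_ne_zero_of_ne_bot h2
    exact ⟨v, h1 hv, hv0, fun i => (h4 i (Finset.mem_univ i)).imp fun μ h => h v hv⟩
  intro s
  induction s using Finset.induction_on with
  | empty => exact ⟨W, le_rfl, hW, hinv, by simp⟩
  | insert a s _ ih =>
    obtain ⟨W', h1, h2, h3, h4⟩ := ih
    have : Nontrivial W' := Submodule.nontrivial_iff_ne_bot.2 h2
    obtain ⟨μ, hμ⟩ := Module.End.exists_eigenvalue ((T a).restrict (h3 a))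
    obtain ⟨v, hv⟩ := hμ.exists_hasEigenvector
    have hv1 : T a (v : V) = μ • (v : V) := congrArg Subtype.val hv.apply_eq_smul
    refine ⟨W' ⊓ Module.End.eigenspace (T a) μ, inf_le_left.trans h1, ?_, ?_, ?_⟩
    · intro hbot
      have : (v : V) ∈ W' ⊓ Module.End.eigenspace (T a) μ := ⟨v.2, Module.End.mem_eigenspace_iff.2 hv1⟩
      rw [hbot, Submodule.mem_bot] at this
      exact hv.2 (Subtype.ext this)
    · rintro i w ⟨hw1, hw2⟩
      refine ⟨h3 i w hw1, Module.End.mem_eigenspace_iff.2 ?_⟩
      rw [← Module.End.mul_apply, hc a i, Module.End.mul_apply, Module.End.mem_eigenspace_iff.1 hw2,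
        map_smul]
    · intro i hi
      rcases Finset.mem_insert.1 hi with rfl | hi
      · exact ⟨μ, fun w hw => Module.End.mem_eigenspace_iff.1 hw.2⟩
      · obtain ⟨ν, hν⟩ := h4 i hi
        exact ⟨ν, fun w hw => hν w hw.1⟩

/-- Eigenvectors with distinct families of eigenvalues are independent. -/
theorem eig_independent {ι κ : Type*} (T : κ → Module.End k V) (lam : ι → κ → k)
    (hinj : Function.Injective lam) (v : ι → V) (hv : ∀ i, v i ≠ 0)
    (heig : ∀ i l, T l (v i) = lam i l • v i) : LinearIndependent k v := by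
  classical
  rw [linearIndependent_iff']
  intro s
  induction s using Finset.induction_on with
  | empty => simp
  | insert i s his ih =>
    intro g hg
    have hzero : ∀ j ∈ s, g j = 0 := by
      intro j hj
      obtain ⟨l, hl⟩ := Function.ne_iff.mp (fun e => his (hinj e ▸ hj) : lam j ≠ lam i)
      have h1 := congrArg (T l) hg
      rw [map_sum, map_zero] at h1
      have h2 : ∑ n ∈ insert i s, (g n * lam n l - lam i l * g n) • v n = 0 := by
        simp only [sub_smul, Finset.sum_sub_distrib, mul_smul, ← Finset.smul_sum, hg, smul_zero, sub_zero]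
        rw [← h1]
        exact Finset.sum_congr rfl fun n _ => by rw [map_smul, heig]
      rw [Finset.sum_insert his, mul_comm (lam i l), sub_self, zero_smul, zero_add] at h2
      have h3 := ih _ h2 j hj
      rw [mul_comm (lam i l), ← mul_sub, mul_eq_zero] at h3
      exact h3.resolve_right (sub_ne_zero.mpr hl)
    intro j hj
    rcases Finset.mem_insert.mp hj with rfl | hj
    · rw [Finset.sum_insert his, Finset.sum_eq_zero (fun n hn => by rw [hzero n hn, zero_smul]),
        add_zero] at hg
      exact (smul_eq_zero.mp hg).resolve_right (hv j)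
    · exact hzero j hj

/-- Local data: even permutations of one block with the possible families of their eigenvalues. -/
structure Loc (k : Type u) [Field k] (b s : ℕ) (τ : Type) where
  gen : Fin s → ↥(alternatingGroup (Fin b))
  comm : ∀ l l', gen l * gen l' = gen l' * gen l
  val : τ → Fin s → k
  inj : Function.Injective val
  zero : τ
  zero_val : ∀ l, val zero l = 1
  cover : ∀ μ : ↥(Subgroup.closure (Set.range gen)) →* k,
    ∃ t, ∀ l, μ ⟨gen l, Subgroup.subset_closure ⟨l, rfl⟩⟩ = val t l

variable {s : ℕ} {τ : Type} (L : Loc k b s τ)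

/-- A permutation of one block normalizing the family, with its effect on eigenvalues. -/
structure Loc.Move where
  f : Perm (Fin b)
  ψ : Fin s → Fin s
  F : τ → τ
  conj : ∀ l, (L.gen l : Perm (Fin b)) * f = f * (L.gen (ψ l) : Perm (Fin b))
  val_eq : ∀ t l, L.val (F t) l = L.val t (ψ l)

variable (β : Fin kk × Fin b ↪ Fin r) (ρ : Representation k (Alt r) V)

/-- The weights. -/
def wts : Set (Fin kk → τ) :=
  {χ | ∃ w : V, w ≠ 0 ∧ ∀ j l, ρ (op β j (L.gen l)) w = L.val (χ j) l • w}

theorem op_comm (j l : Fin kk) (x y : Fin s) :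
    ρ (op β j (L.gen x)) * ρ (op β l (L.gen y)) = ρ (op β l (L.gen y)) * ρ (op β j (L.gen x)) := by
  rw [← map_mul, ← map_mul, op, op, ← map_mul, ← map_mul]
  congr 2
  exact Subtype.ext (blk_comm fun _ => congrArg Subtype.val (L.comm x y))

theorem wts_move (σ : Perm (Fin kk)) (m : Fin kk → L.Move)
    (hsign : sign σ ^ b * ∏ j, sign (m j).f = 1) {χ : Fin kk → τ} (hχ : χ ∈ wts L β ρ) :
    (fun j => (m (σ.symm j)).F (χ (σ.symm j))) ∈ wts L β ρ := by
  obtain ⟨w, hw0, hw⟩ := hχ
  obtain ⟨g, hg⟩ : ∃ g : Alt r, g = up β ⟨wr σ fun j => (m j).f,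
      by rw [mem_alternatingGroup, sign_wr]; exact hsign⟩ := ⟨_, rfl⟩
  refine ⟨ρ g w, fun h => hw0 ?_, fun j l => ?_⟩
  · have := congrArg (ρ g⁻¹) h
    rwa [← Module.End.mul_apply, ← map_mul, inv_mul_cancel, map_one, map_zero] at this
  · obtain ⟨i, rfl⟩ : ∃ i, σ i = j := ⟨σ.symm j, σ.apply_symm_apply j⟩
    simp only [Equiv.symm_apply_apply]
    have e : op β (σ i) (L.gen l) * g = g * op β i (L.gen ((m i).ψ l)) := by
      rw [hg, op, op, ← map_mul, ← map_mul]
      congr 1
      exact Subtype.ext (blk_mul_wr σ _ i ((m i).conj l))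
    rw [← Module.End.mul_apply, ← map_mul, e, map_mul, Module.End.mul_apply, hw, map_smul,
      (m i).val_eq]

/-- Either two blocks move vectors independently, or two of their weights are nontrivial. -/
theorem exists_wts [IsAlgClosed k] [FiniteDimensional k V] {j₀ j₁ : Fin kk} {l₀ : Fin s} {m : ℕ}
    (hm : (m : k) ≠ 0) (hord : L.gen l₀ ^ m = 1)
    (h : (ρ (op β j₀ (L.gen l₀)) - 1) * (ρ (op β j₁ (L.gen l₀)) - 1) ≠ 0) :
    ∃ χ ∈ wts L β ρ, L.val (χ j₀) l₀ ≠ 1 ∧ L.val (χ j₁) l₀ ≠ 1 := by
  let A := ρ (op β j₀ (L.gen l₀)) - 1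
  let B := ρ (op β j₁ (L.gen l₀)) - 1
  let W : Submodule k V := LinearMap.range (A * B)
  have hT : ∀ j l, ρ (op β j (L.gen l)) * (A * B) = A * B * ρ (op β j (L.gen l)) := by
    intro j l
    have hA : Commute (ρ (op β j (L.gen l))) A :=
      Commute.sub_right (op_comm L β ρ j j₀ l l₀) (Commute.one_right _)
    have hB : Commute (ρ (op β j (L.gen l))) B :=
      Commute.sub_right (op_comm L β ρ j j₁ l l₀) (Commute.one_right _)
    exact (hA.mul_right hB).eq
  obtain ⟨w, hwW, hw0, hw⟩ := exists_eig (fun i : Fin kk × Fin s => ρ (op β i.1 (L.gen i.2)))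
    (fun i j => op_comm L β ρ i.1 j.1 i.2 j.2) W (fun e => h (LinearMap.range_eq_bot.1 e))
    (fun i w hw => by
      obtain ⟨u, rfl⟩ := hw
      exact ⟨ρ (op β i.1 (L.gen i.2)) u, by
        rw [← Module.End.mul_apply, ← Module.End.mul_apply, hT]⟩)
  have hloc : ∀ j, ∃ t, ∀ l, ρ (op β j (L.gen l)) w = L.val t l • w := by
    intro j
    have hex : ∀ g : ↥(Subgroup.closure (Set.range L.gen)), ∃ μ : k,
        ρ (op β j (g : ↥(alternatingGroup (Fin b)))) w = μ • w := by
      rintro ⟨g, hg⟩
      induction hg using Subgroup.closure_induction with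
      | mem y hy =>
        obtain ⟨l, rfl⟩ := hy
        exact hw (j, l)
      | one => exact ⟨1, by rw [op_one, map_one, one_smul]; rfl⟩
      | mul y z _ _ ihy ihz =>
        obtain ⟨μ, hμ⟩ := ihy
        obtain ⟨ν, hν⟩ := ihz
        exact ⟨ν * μ, by rw [op_mul, map_mul, Module.End.mul_apply, hν, map_smul, hμ, smul_smul]⟩
      | inv y _ ih =>
        obtain ⟨μ, hμ⟩ := ih
        have h1 : ρ (op β j y⁻¹) (ρ (op β j y) w) = w := by
          rw [← Module.End.mul_apply, ← map_mul, ← op_mul, inv_mul_cancel, op_one, map_one]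
          rfl
        rw [hμ, map_smul] at h1
        refine ⟨μ⁻¹, ?_⟩
        have hμ0 : μ ≠ 0 := by
          intro e; rw [e, zero_smul] at h1; exact hw0 h1.symm
        rw [← inv_smul_smul₀ hμ0 (ρ (op β j y⁻¹) w), h1]
    choose μ hμ using hex
    let φ : ↥(Subgroup.closure (Set.range L.gen)) →* k :=
      { toFun := μ
        map_one' := smul_left_injective k hw0 (by
          show μ 1 • w = (1 : k) • w
          rw [← hμ, OneMemClass.coe_one, op_one, map_one, one_smul]; rfl)
        map_mul' := fun g g' => smul_left_injective k hw0 (by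
          show μ (g * g') • w = (μ g * μ g') • w
          rw [← hμ, Subgroup.coe_mul, op_mul, map_mul, Module.End.mul_apply, hμ g', map_smul, hμ g,
            smul_smul, mul_comm]) }
    obtain ⟨t, ht⟩ := L.cover φ
    refine ⟨t, fun l => ?_⟩
    have h1 := hμ ⟨L.gen l, Subgroup.subset_closure ⟨l, rfl⟩⟩
    have h2 : μ ⟨L.gen l, Subgroup.subset_closure ⟨l, rfl⟩⟩ = L.val t l := ht l
    rw [h2] at h1
    exact h1
  choose χ hχ using hloc
  obtain ⟨u, hu⟩ := hwW
  refine ⟨χ, ⟨w, hw0, hχ⟩, fun e => hw0 ?_, fun e => hw0 ?_⟩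
  · refine eq_zero_of_moved_fixed (T := ρ (op β j₀ (L.gen l₀))) (u := B u) hm ?_ ?_ ?_
    · rw [← map_pow, op_pow, hord, op_one, map_one]
    · rw [← hu]; rfl
    · rw [hχ, e, one_smul]
  · refine eq_zero_of_moved_fixed (T := ρ (op β j₁ (L.gen l₀))) (u := A u) hm ?_ ?_ ?_
    · rw [← map_pow, op_pow, hord, op_one, map_one]
    · have hAB : A * B = B * A := (Commute.sub_left
        (Commute.sub_right (op_comm L β ρ j₀ j₁ l₀ l₀) (Commute.one_right _))
        (Commute.one_left _)).eq
      rw [← hu, hAB]; rfl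
    · rw [hχ, e, one_smul]

theorem wts_independent {ι : Type*} {χ : ι → Fin kk → τ} (hinj : Function.Injective χ) {w : ι → V}
    (hw0 : ∀ i, w i ≠ 0) (hw : ∀ i j l, ρ (op β j (L.gen l)) (w i) = L.val (χ i j) l • w i) :
    LinearIndependent k w := by
  refine eig_independent (fun n : Fin kk × Fin s => ρ (op β n.1 (L.gen n.2)))
    (fun i n => L.val (χ i n.1) n.2) (fun i i' e => hinj ?_) w hw0 (fun i n => hw i n.1 n.2)
  funext j
  exact L.inj (funext fun l => congrFun e (j, l))

theorem card_le_finrank [FiniteDimensional k V] [DecidableEq τ] (O : Finset (Fin kk → τ))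
    (hO : ∀ χ ∈ O, χ ∈ wts L β ρ) : O.card ≤ Module.finrank k V := by
  choose w hw0 hw using hO
  have hli := wts_independent L β ρ (ι := O) (χ := fun i => (i : Fin kk → τ))
    Subtype.val_injective (w := fun i => w i.1 i.2) (fun i => hw0 i.1 i.2) fun i => hw i.1 i.2
  have := hli.fintype_card_le_finrank
  rwa [Fintype.card_coe] at this

end Linear

section Count

variable {τ : Type} [Fintype τ] [DecidableEq τ]

/-- A family closed under permutations of the coordinates and changes of one coordinate among the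
nontrivial values contains all functions with the same number of nontrivial values. -/
theorem mem_of_closed {o : τ} {O : Set (Fin kk → τ)}
    (hperm : ∀ χ ∈ O, ∀ σ : Perm (Fin kk), χ ∘ σ ∈ O)
    (hloc : ∀ χ ∈ O, ∀ i t, χ i ≠ o → t ≠ o → Function.update χ i t ∈ O) {χ χ' : Fin kk → τ}
    (hχ : χ ∈ O)
    (hc : (Finset.univ.filter fun i => χ' i ≠ o).card = (Finset.univ.filter fun i => χ i ≠ o).card) :
    χ' ∈ O := by
  classical
  let e : {i // χ' i ≠ o} ≃ {i // χ i ≠ o} := Fintype.equivOfCardEq (by
    rw [Fintype.card_subtype, Fintype.card_subtype]; exact hc)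
  have h1 := hperm χ hχ e.extendSubtype
  have hsupp : ∀ i, χ (e.extendSubtype i) ≠ o ↔ χ' i ≠ o := fun i => by
    by_cases hi : χ' i ≠ o
    · exact iff_of_true (Equiv.extendSubtype_mem e i hi) hi
    · exact iff_of_false (Equiv.extendSubtype_not_mem e i hi) hi
  have key : ∀ s : Finset (Fin kk), (fun i => if i ∈ s then χ' i else χ (e.extendSubtype i)) ∈ O := by
    intro s
    induction s using Finset.induction_on with
    | empty => simpa [Function.comp_def] using h1
    | insert a s ha ih =>
      by_cases hao : χ' a ≠ o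
      · convert hloc _ ih a (χ' a) (by rw [if_neg ha]; exact (hsupp a).2 hao) hao using 1
        funext i
        by_cases hia : i = a
        · subst hia; simp
        · simp [Function.update_of_ne hia, hia]
      · convert ih using 1
        funext i
        by_cases hia : i = a
        · subst hia
          rw [if_neg ha, if_pos (Finset.mem_insert_self i s)]
          have h2 : ¬ χ (e.extendSubtype i) ≠ o := fun h => hao ((hsupp i).1 h)
          rw [not_not.1 hao, not_not.1 h2]
        · simp [hia]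
  simpa using key Finset.univ

omit [Fintype τ] [DecidableEq τ] in
theorem le_choose : ∀ n m : ℕ, 1 ≤ m → m < n → n ≤ n.choose m := by
  intro n
  induction n with
  | zero => intro m h h'; omega
  | succ n ih =>
    intro m h1 h2
    obtain ⟨m, rfl⟩ : ∃ m', m = m' + 1 := ⟨m - 1, by omega⟩
    rw [Nat.choose_succ_succ]
    rcases Nat.eq_zero_or_pos m with rfl | hm
    · simp [Nat.choose_one_right]
    · have := ih m hm (by omega)
      have : 0 < n.choose (m + 1) := Nat.choose_pos (by omega)
      show n + 1 ≤ n.choose m + n.choose (m + 1)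
      omega

theorem choose_mul_le_card {o : τ} {O : Set (Fin kk → τ)}
    (hperm : ∀ χ ∈ O, ∀ σ : Perm (Fin kk), χ ∘ σ ∈ O)
    (hloc : ∀ χ ∈ O, ∀ i t, χ i ≠ o → t ≠ o → Function.update χ i t ∈ O) {χ : Fin kk → τ}
    (hχ : χ ∈ O) :
    ∃ A : Finset (Fin kk → τ), (∀ f ∈ A, f ∈ O) ∧
      (∀ f ∈ A, (Finset.univ.filter fun i => f i ≠ o).card =
        (Finset.univ.filter fun i => χ i ≠ o).card) ∧
      kk.choose (Finset.univ.filter fun i => χ i ≠ o).card *
        (Fintype.card τ - 1) ^ (Finset.univ.filter fun i => χ i ≠ o).card ≤ A.card := by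
  classical
  obtain ⟨m, hm⟩ : ∃ m, m = (Finset.univ.filter fun i => χ i ≠ o).card := ⟨_, rfl⟩
  rw [← hm]
  let F : Finset (Fin kk) → Finset (Fin kk → τ) := fun S =>
    Fintype.piFinset fun j => if j ∈ S then (Finset.univ.erase o) else {o}
  have hF : ∀ S, ∀ f ∈ F S, (Finset.univ.filter fun i => f i ≠ o) = S := fun S f hf => by
    ext i
    have := Fintype.mem_piFinset.1 hf i
    by_cases hi : i ∈ S <;> simp [hi] at this ⊢ <;> exact this
  refine ⟨(Finset.powersetCard m Finset.univ).biUnion F, ?_, ?_, ?_⟩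
  · intro f hf
    obtain ⟨S, hS, hfS⟩ := Finset.mem_biUnion.1 hf
    exact mem_of_closed hperm hloc hχ (by rw [hF S f hfS, (Finset.mem_powersetCard.1 hS).2, hm])
  · intro f hf
    obtain ⟨S, hS, hfS⟩ := Finset.mem_biUnion.1 hf
    rw [hF S f hfS, (Finset.mem_powersetCard.1 hS).2]
  · rw [Finset.card_biUnion]
    · refine le_of_eq ?_
      rw [Finset.sum_congr rfl (g := fun _ => (Fintype.card τ - 1) ^ m)]
      · simp
      intro S hS
      rw [Fintype.card_piFinset, ← (Finset.mem_powersetCard.1 hS).2]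
      simp [apply_ite Finset.card, Finset.prod_ite, Finset.card_erase_of_mem]
    · intro S _ T _ hST
      rw [Function.onFun, Finset.disjoint_left]
      exact fun f h1 h2 => hST ((hF S f h1).symm.trans (hF T f h2))

end Count

end CfsgLib.PGroup.AltDeg
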