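import Mathlib
import Cfsg.Agent.Lib.PGroup.AltDeg.Core
import Cfsg.Agent.Lib.PGroup.AltDeg.Weights

/-!
# The blocks used for the weights: four groups and cycles of length three and five
-/

set_option autoImplicit false

universe u v

namespace CfsgLib.PGroup.AltDeg

open Equiv Equiv.Perm

variable {k : Type u} [Field k] {b s : ℕ} {τ : Type}

/-- The identity move. -/
def idMove (L : Loc k b s τ) : L.Move where
  f := 1
  ψ := id
  F := id
  conj l := by simp
  val_eq _ _ := rfl

/-- The three involutions of a four group on one block. -/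
def fourGen : Fin 3 → ↥(alternatingGroup (Fin 4)) :=
  ![⟨swap 0 1 * swap 2 3, mem_alternatingGroup.2 (by decide +kernel)⟩,
    ⟨swap 0 2 * swap 1 3, mem_alternatingGroup.2 (by decide +kernel)⟩,
    ⟨swap 0 3 * swap 1 2, mem_alternatingGroup.2 (by decide +kernel)⟩]

/-- Whether an involution acts trivially on the weight. -/
def fourTriv (t : Fin 4) (l : Fin 3) : Prop := t = 0 ∨ t.val = l.val + 1

instance (t : Fin 4) (l : Fin 3) : Decidable (fourTriv t l) := by unfold fourTriv; infer_instance

theorem fourTriv_inj : ∀ t t' : Fin 4, (∀ l, fourTriv t l ↔ fourTriv t' l) → t = t' := by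
  decide +kernel

theorem fourGen_conj : ∀ l, (fourGen l : Perm (Fin 4)) * (swap 0 1 * swap 1 2) =
    swap 0 1 * swap 1 2 * (fourGen ((![1, 2, 0] : Fin 3 → Fin 3) l) : Perm (Fin 4)) := by
  decide +kernel

theorem one_ne_neg_one (h2 : (2 : k) ≠ 0) : (1 : k) ≠ -1 := fun e => h2 (by
  linear_combination e)

/-- Four groups in odd characteristic. -/
def locFour (h2 : (2 : k) ≠ 0) : Loc k 4 3 (Fin 4) where
  gen := fourGen
  comm := by decide +kernel
  val t l := if fourTriv t l then 1 else -1
  inj t t' e := by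
    have : ∀ l, fourTriv t l ↔ fourTriv t' l := fun l => by
      have h := congrFun e l
      by_cases h1 : fourTriv t l <;> by_cases h3 : fourTriv t' l <;>
        simp [h1, h3, one_ne_neg_one h2, (one_ne_neg_one h2).symm] at h ⊢
    exact fourTriv_inj t t' this
  zero := 0
  zero_val l := if_pos (Or.inl rfl)
  cover μ := by
    obtain ⟨g, hg⟩ : ∃ g : Fin 3 → ↥(Subgroup.closure (Set.range fourGen)),
      ∀ l, g l = ⟨fourGen l, Subgroup.subset_closure ⟨l, rfl⟩⟩ := ⟨_, fun _ => rfl⟩
    have hsq : ∀ l, μ (g l) = 1 ∨ μ (g l) = -1 := fun l => by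
      rw [← mul_self_eq_one_iff, ← map_mul, ← map_one μ]
      congr 1
      rw [hg]
      apply Subtype.ext
      show fourGen l * fourGen l = 1
      revert l; decide +kernel
    have hz : μ (g 2) = μ (g 0) * μ (g 1) := by
      rw [← map_mul]; congr 1
      rw [hg, hg, hg]
      apply Subtype.ext
      show fourGen 2 = fourGen 0 * fourGen 1
      decide +kernel
    have key : ∀ t : Fin 4, (∀ l, μ (g l) = if fourTriv t l then 1 else -1) →
        ∃ t, ∀ l, μ ⟨fourGen l, Subgroup.subset_closure ⟨l, rfl⟩⟩ = if fourTriv t l then 1 else -1 :=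
      fun t ht => ⟨t, fun l => hg l ▸ ht l⟩
    rcases hsq 0 with h0 | h0 <;> rcases hsq 1 with h1 | h1 <;> rw [h0, h1] at hz
    · exact key 0 fun l => by fin_cases l <;> simp [fourTriv, h0, h1, hz]
    · exact key 1 fun l => by fin_cases l <;> simp [fourTriv, h0, h1, hz]
    · exact key 2 fun l => by fin_cases l <;> simp [fourTriv, h0, h1, hz]
    · exact key 3 fun l => by fin_cases l <;> simp [fourTriv, h0, h1, hz]

/-- The cycle on the first three points of a block of four. -/
def fourMove (h2 : (2 : k) ≠ 0) : (locFour h2).Move where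
  f := swap 0 1 * swap 1 2
  ψ := ![1, 2, 0]
  F := ![0, 3, 1, 2]
  conj := fourGen_conj
  val_eq t l := by
    show (if fourTriv _ l then (1 : k) else -1) = if fourTriv t _ then 1 else -1
    have : ∀ t l, fourTriv ((![0, 3, 1, 2] : Fin 4 → Fin 4) t) l ↔
        fourTriv t ((![1, 2, 0] : Fin 3 → Fin 3) l) := by decide +kernel
    by_cases h : fourTriv t ((![1, 2, 0] : Fin 3 → Fin 3) l)
    · rw [if_pos h, if_pos ((this t l).2 h)]
    · rw [if_neg h, if_neg (fun h' => h ((this t l).1 h'))]

theorem fourMove_sign (h2 : (2 : k) ≠ 0) : sign (fourMove h2).f = 1 := by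
  show sign (swap (0 : Fin 4) 1 * swap 1 2) = 1
  decide +kernel

variable {r kk : ℕ} {V : Type v} [AddCommGroup V] [Module k V] (ρ : Representation k (Alt r) V)

theorem four_closed (h2 : (2 : k) ≠ 0) (β : Fin kk × Fin 4 ↪ Fin r) :
    (∀ χ ∈ wts (locFour h2) β ρ, ∀ σ : Perm (Fin kk), χ ∘ σ ∈ wts (locFour h2) β ρ) ∧
      ∀ χ ∈ wts (locFour h2) β ρ, ∀ i t, χ i ≠ 0 → t ≠ 0 →
        Function.update χ i t ∈ wts (locFour h2) β ρ := by
  constructor
  · intro χ hχ σ
    have h := wts_move (locFour h2) β ρ σ.symm (fun _ => idMove (locFour h2)) (by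
      rcases Int.units_eq_one_or (sign σ.symm) with e | e <;> rw [e] <;> simp [idMove] <;> decide) hχ
    simpa [idMove, Function.comp_def] using h
  · have one : ∀ χ ∈ wts (locFour h2) β ρ, ∀ i,
        Function.update χ i ((fourMove h2).F (χ i)) ∈ wts (locFour h2) β ρ := by
      intro χ hχ i
      have h := wts_move (locFour h2) β ρ (Equiv.refl _)
        (fun j => if j = i then fourMove h2 else idMove (locFour h2)) (by
          rw [sign_refl, one_pow, one_mul, Finset.prod_eq_one]
          intro j _
          split_ifs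
          · exact fourMove_sign h2
          · exact map_one _) hχ
      convert h using 1
      funext j
      by_cases hj : j = i
      · subst hj; simp
      · simp [hj, idMove, Function.update_of_ne hj]
    intro χ hχ i t hi ht
    have key : ∀ a t : Fin 4, a ≠ 0 → t ≠ 0 → t = a ∨ t = (![0, 3, 1, 2] : Fin 4 → Fin 4) a ∨
        t = (![0, 3, 1, 2] : Fin 4 → Fin 4) ((![0, 3, 1, 2] : Fin 4 → Fin 4) a) := by decide +kernel
    rcases key (χ i) t hi ht with h | h | h
    · rwa [h, Function.update_eq_self]
    · rw [h]; exact one χ hχ i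
    · have := one _ (one χ hχ i) i
      rw [Function.update_self, Function.update_idem] at this
      rw [h]; exact this

/-- A cycle through a block. -/
def cycGen3 : ↥(alternatingGroup (Fin 3)) := ⟨swap 0 1 * swap 1 2, mem_alternatingGroup.2 (by decide +kernel)⟩

/-- A cycle through a block of five points. -/
def cycGen5 : ↥(alternatingGroup (Fin 5)) :=
  ⟨swap 0 1 * swap 1 2 * swap 2 3 * swap 3 4, mem_alternatingGroup.2 (by decide +kernel)⟩

/-- Powers of one element of a block. -/
def locCyc {ω : k} (hω : IsPrimitiveRoot ω b) (c : ↥(alternatingGroup (Fin b))) (hc : c ^ b = 1)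
    (hb : 2 ≤ b) : Loc k b b (Fin b) where
  gen l := c ^ l.val
  comm l l' := (Commute.pow_pow_self c _ _).eq
  val t l := ω ^ (t.val * l.val)
  inj t t' e := by
    have h := congrFun e (⟨1, hb⟩ : Fin b)
    simp only [mul_one] at h
    exact Fin.ext (hω.pow_inj t.2 t'.2 h)
  zero := ⟨0, by omega⟩
  zero_val l := by simp
  cover μ := by
    have : NeZero b := ⟨by omega⟩
    obtain ⟨g, hg⟩ : ∃ g, g = (⟨c, Subgroup.subset_closure ⟨⟨1, hb⟩, pow_one c⟩⟩ :
        ↥(Subgroup.closure (Set.range fun l : Fin b => c ^ l.val))) := ⟨_, rfl⟩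
    obtain ⟨i, hi, hiμ⟩ := hω.eq_pow_of_pow_eq_one (ξ := μ g) (by
      rw [← map_pow, ← map_one μ]; congr 1; rw [hg]; exact Subtype.ext hc)
    refine ⟨⟨i, hi⟩, fun l => ?_⟩
    show μ _ = ω ^ (i * l.val)
    rw [pow_mul, hiμ, ← map_pow]
    congr 1
    rw [hg]; rfl

/-- A move of the cycle. -/
def cycMove {ω : k} (hω : IsPrimitiveRoot ω b) (c : ↥(alternatingGroup (Fin b))) (hc : c ^ b = 1)
    (hb : 2 ≤ b) (f : Perm (Fin b)) (d : Fin b)
    (hf : ∀ l : Fin b, (c : Perm (Fin b)) ^ l.val * f = f * (c : Perm (Fin b)) ^ (d * l : Fin b).val)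
    (hd : ∀ t l : Fin b, (d * t : Fin b).val * l.val % b = t.val * (d * l : Fin b).val % b) :
    (locCyc hω c hc hb).Move where
  f := f
  ψ l := d * l
  F t := d * t
  conj l := hf l
  val_eq t l := by
    show ω ^ _ = ω ^ _
    rw [pow_eq_pow_mod _ hω.pow_eq_one, hd, ← pow_eq_pow_mod _ hω.pow_eq_one]

/-- Cycles of length three away from characteristic three. -/
def locThree {ω : k} (hω : IsPrimitiveRoot ω 3) : Loc k 3 3 (Fin 3) :=
  locCyc hω cycGen3 (by decide +kernel) (by omega)

/-- Inversion of a three-cycle. -/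
def threeMove {ω : k} (hω : IsPrimitiveRoot ω 3) : (locThree hω).Move :=
  cycMove hω cycGen3 (by decide +kernel) (by omega) (swap 1 2) 2 (by decide +kernel)
    (by decide +kernel)

theorem three_closed {ω : k} (hω : IsPrimitiveRoot ω 3) (β : Fin kk × Fin 3 ↪ Fin r) (hkk : 3 ≤ kk) :
    (∀ χ ∈ wts (locThree hω) β ρ, ∀ σ : Perm (Fin kk), χ ∘ σ ∈ wts (locThree hω) β ρ) ∧
      ∀ χ ∈ wts (locThree hω) β ρ, ∀ i t, χ i ≠ 0 → t ≠ 0 →
        Function.update χ i t ∈ wts (locThree hω) β ρ := by
  -- permutations and simultaneous inversions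
  have move : ∀ χ ∈ wts (locThree hω) β ρ, ∀ (σ : Perm (Fin kk)) (S : Finset (Fin kk)),
      sign σ * (-1) ^ S.card = 1 →
      (fun j => if σ.symm j ∈ S then 2 * χ (σ.symm j) else χ (σ.symm j)) ∈ wts (locThree hω) β ρ := by
    intro χ hχ σ S hS
    have h := wts_move (locThree hω) β ρ σ
      (fun j => if j ∈ S then threeMove hω else idMove (locThree hω)) (by
        have e : ∀ j, sign (if j ∈ S then threeMove hω else idMove (locThree hω)).f =
            if j ∈ S then -1 else 1 := fun j => by
          split_ifs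
          · show sign (swap (1 : Fin 3) 2) = -1
            decide +kernel
          · exact map_one _
        rw [Finset.prod_congr rfl fun j _ => e j, Finset.prod_ite_mem, Finset.univ_inter,
          Finset.prod_const]
        rcases Int.units_eq_one_or (sign σ) with e | e <;> rw [e] at hS ⊢ <;> simpa [pow_succ] using hS) hχ
    convert h using 1
    funext j
    by_cases hj : σ.symm j ∈ S <;> simp [hj] <;> rfl
  have hzero : ∀ a : Fin 3, 2 * (2 * a) = a := by decide
  have pair : ∀ χ ∈ wts (locThree hω) β ρ, ∀ i j, i ≠ j →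
      Function.update (Function.update χ i (2 * χ i)) j (2 * χ j) ∈ wts (locThree hω) β ρ := by
    intro χ hχ i j hij
    convert move χ hχ (Equiv.refl _) {i, j} (by rw [sign_refl, one_mul, Finset.card_pair hij]; rfl) using 1
    funext l
    by_cases h1 : l = j
    · subst h1; simp
    by_cases h2 : l = i
    · subst h2; simp [Function.update_of_ne h1]
    · simp [Function.update_of_ne h1, Function.update_of_ne h2, h1, h2]
  have swp : ∀ χ ∈ wts (locThree hω) β ρ, ∀ i j l, i ≠ j → i ≠ l → j ≠ l →
      Function.update (χ ∘ swap j l) i (2 * χ i) ∈ wts (locThree hω) β ρ := by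
    intro χ hχ i j l hij hil hjl
    convert move χ hχ (swap j l) {i} (by rw [sign_swap hjl, Finset.card_singleton]; rfl) using 1
    funext n
    rw [symm_swap]
    by_cases h : n = i
    · subst h; simp [swap_apply_of_ne_of_ne hij hil]
    · have : swap j l n ≠ i := fun e => h (by
        have e' := congrArg (swap j l) e
        rwa [swap_apply_self, swap_apply_of_ne_of_ne hij hil] at e')
      simp [Function.update_of_ne h, this]
  have single : ∀ χ ∈ wts (locThree hω) β ρ, ∀ i,
      Function.update χ i (2 * χ i) ∈ wts (locThree hω) β ρ := by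
    intro χ hχ i
    by_cases h0 : ∃ j, j ≠ i ∧ χ j = 0
    · obtain ⟨j, hji, hj⟩ := h0
      convert pair χ hχ i j hji.symm using 1
      funext n
      by_cases h : n = j
      · subst h; simp [hj, Function.update_of_ne hji]
      · simp [Function.update_of_ne h]
    push Not at h0
    obtain ⟨j, l, hjl, hji, hli⟩ : ∃ j l, j ≠ l ∧ j ≠ i ∧ l ≠ i := by
      have hc : 1 < (Finset.univ.erase i).card := by
        rw [Finset.card_erase_of_mem (Finset.mem_univ i)]; simp; omega
      obtain ⟨j, hj, l, hl, hjl⟩ := Finset.one_lt_card.1 hc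
      exact ⟨j, l, hjl, Finset.ne_of_mem_erase hj, Finset.ne_of_mem_erase hl⟩
    have two : ∀ a c : Fin 3, a ≠ 0 → c ≠ 0 → a = c ∨ (2 * a = c ∧ 2 * c = a) := by decide
    rcases two (χ j) (χ l) (h0 j hji) (h0 l hli) with h | ⟨h, h'⟩
    · convert swp χ hχ i j l hji.symm hli.symm hjl using 1
      funext n
      by_cases hn : n = i
      · subst hn; simp
      · rw [Function.update_of_ne hn, Function.update_of_ne hn, Function.comp_apply]
        by_cases h1 : n = j
        · subst h1; rw [swap_apply_left, h]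
        by_cases h2 : n = l
        · subst h2; rw [swap_apply_right, h]
        · rw [swap_apply_of_ne_of_ne h1 h2]
    · have a1 := pair χ hχ i j hji.symm
      have a2 := swp _ a1 i j l hji.symm hli.symm hjl
      have a3 := pair _ a2 i j hji.symm
      convert a3 using 1
      funext n
      by_cases h1 : n = j
      · subst h1
        simp [Function.update_of_ne hji, Function.update_of_ne hli, Function.update_of_ne hjl.symm, h']
      by_cases hn : n = i
      · subst hn
        simp [Function.update_of_ne h1, hzero]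
      by_cases h2 : n = l
      · subst h2
        simp [Function.update_of_ne h1, Function.update_of_ne hn, h]
      · simp [Function.update_of_ne h1, Function.update_of_ne hn, swap_apply_of_ne_of_ne h1 h2]
  refine ⟨fun χ hχ σ => ?_, fun χ hχ i t hi ht => ?_⟩
  · rcases Int.units_eq_one_or (sign σ.symm) with h | h
    · simpa [Function.comp_def] using move χ hχ σ.symm ∅ (by rw [h]; rfl)
    · obtain ⟨i⟩ : Nonempty (Fin kk) := ⟨⟨0, by omega⟩⟩
      have a1 := move χ hχ σ.symm {i} (by rw [h]; rfl)
      have a2 := single _ a1 (σ.symm i)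
      convert a2 using 1
      funext n
      by_cases hn : n = σ.symm i
      · subst hn; simp [hzero]
      · have : σ n ≠ i := fun e => hn (by rw [← e, Equiv.symm_apply_apply])
        simp [Function.update_of_ne hn, this]
  · have two : ∀ a c : Fin 3, a ≠ 0 → c ≠ 0 → c = a ∨ c = 2 * a := by decide
    rcases two (χ i) t hi ht with h | h
    · rwa [h, Function.update_eq_self]
    · rw [h]; exact single χ hχ i

/-- Cycles of length five away from characteristic five. -/
def locFive {ω : k} (hω : IsPrimitiveRoot ω 5) : Loc k 5 5 (Fin 5) :=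
  locCyc hω cycGen5 (by decide +kernel) (by omega)

/-- Squaring a five-cycle. -/
def fiveMove {ω : k} (hω : IsPrimitiveRoot ω 5) : (locFive hω).Move :=
  cycMove hω cycGen5 (by decide +kernel) (by omega) (swap 1 2 * swap 2 4 * swap 4 3) 3
    (by decide +kernel) (by decide +kernel)

/-- The inverse move. -/
def fiveMove' {ω : k} (hω : IsPrimitiveRoot ω 5) : (locFive hω).Move :=
  cycMove hω cycGen5 (by decide +kernel) (by omega) (swap 3 4 * swap 4 2 * swap 2 1) 2
    (by decide +kernel) (by decide +kernel)

theorem five_closed {ω : k} (hω : IsPrimitiveRoot ω 5) (β : Fin 2 × Fin 5 ↪ Fin r) {χ : Fin 2 → Fin 5}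
    (hχ : χ ∈ wts (locFive hω) β ρ) :
    (![3 * χ 0, 3 * χ 1] ∈ wts (locFive hω) β ρ) ∧ (![3 * χ 0, 2 * χ 1] ∈ wts (locFive hω) β ρ) ∧
      (![χ 1, 3 * χ 0] ∈ wts (locFive hω) β ρ) := by
  have s1 : sign (fiveMove hω).f = -1 := by
    show sign (swap (1 : Fin 5) 2 * swap 2 4 * swap 4 3) = -1
    decide +kernel
  have s2 : sign (fiveMove' hω).f = -1 := by
    show sign (swap (3 : Fin 5) 4 * swap 4 2 * swap 2 1) = -1
    decide +kernel
  refine ⟨?_, ?_, ?_⟩
  · have h := wts_move (locFive hω) β ρ (Equiv.refl _) ![fiveMove hω, fiveMove hω]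
      (by simp [Fin.prod_univ_two, s1]) hχ
    convert h using 1
    funext j; fin_cases j <;> rfl
  · have h := wts_move (locFive hω) β ρ (Equiv.refl _) ![fiveMove hω, fiveMove' hω]
      (by simp [Fin.prod_univ_two, s1, s2]) hχ
    convert h using 1
    funext j; fin_cases j <;> rfl
  · have h := wts_move (locFive hω) β ρ (swap 0 1) ![fiveMove hω, idMove (locFive hω)]
      (by simp [Fin.prod_univ_two, s1, idMove, sign_swap (show (0 : Fin 2) ≠ 1 by decide), pow_succ]) hχ
    convert h using 1
    funext j; fin_cases j <;> rfl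

end CfsgLib.PGroup.AltDeg
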