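import Mathlib
import Cfsg.Agent.Lib.PGroup.AltDeg.Local

/-!
# The least degree of a representation of an alternating group
-/

set_option autoImplicit false

universe u v

namespace CfsgLib.PGroup.AltDeg

open Equiv Equiv.Perm

variable {r : ℕ} {k : Type u} [Field k] {V : Type v} [AddCommGroup V] [Module k V]

/-- Elements with disjoint supports commute. -/
theorem fixS_comm {S : Set (Fin r)} {g h : Alt r} (hg : g ∈ fixS Sᶜ) (hh : h ∈ fixS S) :
    g * h = h * g := by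
  refine Subtype.ext (Perm.Disjoint.commute (fun x => ?_)).eq
  by_cases hx : x ∈ S
  · exact Or.inr (hh x hx)
  · exact Or.inl (hg x hx)

theorem ker_eq_bot (hr : 9 ≤ r) {M : Type*} [Monoid M] (ρ : Alt r →* M) (hne : ∃ g, ρ g ≠ 1) {g : Alt r}
    (hg : g ≠ 1) : ρ g ≠ 1 := by
  have : IsSimpleGroup (Alt r) := alternatingGroup.isSimpleGroup (by simp; omega)
  intro h
  rcases (inferInstance : (MonoidHom.ker ρ).Normal).eq_bot_or_eq_top with e | e
  · exact hg (by
      have : g ∈ MonoidHom.ker ρ := h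
      rwa [e, Subgroup.mem_bot] at this)
  · obtain ⟨x, hx⟩ := hne
    exact hx (show x ∈ MonoidHom.ker ρ by rw [e]; exact Subgroup.mem_top x)

variable (ρ : Representation k (Alt r) V)

/-- If two small elements with disjoint supports move no vector jointly, the range of the first is
fixed by the alternating group on the points outside its support. -/
theorem range_fixed {m : ℕ} (P : Fin m → Fin r) (hP : Function.Injective P) (hm : m + 5 ≤ r)
    {x y : Alt r} (hx : x ∈ fixS (Set.range P)ᶜ) (hy : y ∈ fixS (Set.range P))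
    (hzero : (ρ y - 1) * (ρ x - 1) = 0) {a b c : Fin r} (ha : a ∉ Set.range P) (hb : b ∉ Set.range P)
    (hc : c ∉ Set.range P) (hab : a ≠ b) (hbc : b ≠ c) (hac : a ≠ c)
    (hmem : ∀ K : Subgroup (Alt r), y ∈ K → (∀ h ∈ fixS (Set.range P), ∀ g ∈ K, h * g * h⁻¹ ∈ K) →
      cyc a b c ∈ K) :
    ∀ h ∈ fixS (Set.range P), ∀ w, ρ h (ρ x w - w) = ρ x w - w := by
  let K : Subgroup (Alt r) := ⨅ w, stabV ρ (ρ x w - w)
  have hK : ∀ g, g ∈ K ↔ ∀ w, ρ g (ρ x w - w) = ρ x w - w := fun g => by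
    simp only [K, Subgroup.mem_iInf, mem_stabV]
  have hyK : y ∈ K := (hK y).2 fun w => by
    have := LinearMap.congr_fun hzero w
    simp only [Module.End.mul_apply, LinearMap.sub_apply, Module.End.one_apply, LinearMap.zero_apply] at this
    exact sub_eq_zero.1 this
  have hnorm : ∀ h ∈ fixS (Set.range P), ∀ g ∈ K, h * g * h⁻¹ ∈ K := by
    intro h hh g hg
    refine (hK _).2 fun w => ?_
    have e : ρ h⁻¹ (ρ x w - w) = ρ x (ρ h⁻¹ w) - ρ h⁻¹ w := by
      rw [map_sub, stabV_apply, stabV_apply, fixS_comm hx (inv_mem hh)]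
    rw [map_mul, map_mul, Module.End.mul_apply, Module.End.mul_apply, e, (hK g).1 hg, ← e, stabV_apply,
      mul_inv_cancel, map_one]
    rfl
  intro h hh w
  exact (hK h).1 (fixS_le_of_normalized P hP hm K hnorm ha hb hc hab hbc hac (hmem K hyK hnorm) hh) w

/-- Moving an element with its fixed range to any four points. -/
theorem tuples_of_base (hr : 9 ≤ r) {x : Alt r} {P : Fin 4 → Fin r} (hP : Function.Injective P)
    (hx : x ∈ fixS (Set.range P)ᶜ) (hx01 : (x : Perm (Fin r)) (P 0) = P 1)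
    (hfix : ∀ h ∈ fixS (Set.range P), ∀ w, ρ h (ρ x w - w) = ρ x w - w) :
    ∀ a b c d : Fin r, Function.Injective ![a, b, c, d] →
      ∃ g ∈ fixS ({a, b, c, d} : Set (Fin r))ᶜ, (g : Perm (Fin r)) a = b ∧
        ∀ h ∈ fixS ({a, b, c, d} : Set (Fin r)), ∀ w, ρ h (ρ g w - w) = ρ g w - w := by
  intro a b c d habcd
  obtain ⟨h, hh⟩ := exists_alt_map P ![a, b, c, d] hP habcd (by omega)
  have hset : (h : Perm (Fin r)) '' Set.range P = ({a, b, c, d} : Set (Fin r)) := by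
    rw [← Set.range_comp, show ((h : Perm (Fin r)) ∘ P) = ![a, b, c, d] from funext hh]
    ext y
    constructor
    · rintro ⟨i, rfl⟩
      fin_cases i <;> simp
    · rintro (rfl | rfl | rfl | rfl)
      exacts [⟨0, rfl⟩, ⟨1, rfl⟩, ⟨2, rfl⟩, ⟨3, rfl⟩]
  refine ⟨h * x * h⁻¹, ?_, ?_, ?_⟩
  · rw [← hset, ← Set.image_compl_eq (h : Perm (Fin r)).bijective]
    exact conj_mem_fixS hx
  · have e0 : (h : Perm (Fin r))⁻¹ a = P 0 := by rw [Perm.inv_eq_iff_eq]; exact (hh 0).symm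
    show (h : Perm (Fin r)) ((x : Perm (Fin r)) ((h : Perm (Fin r))⁻¹ a)) = b
    rw [e0, hx01]; exact hh 1
  · intro g hg w
    have hg' : h⁻¹ * g * h ∈ fixS (Set.range P) := by
      intro y hy
      show (h : Perm (Fin r))⁻¹ ((g : Perm (Fin r)) ((h : Perm (Fin r)) y)) = y
      rw [hg _ (hset ▸ Set.mem_image_of_mem _ hy)]
      exact Equiv.symm_apply_apply _ y
    have e : ρ (h * x * h⁻¹) w - w = ρ h (ρ x (ρ h⁻¹ w) - ρ h⁻¹ w) := by
      rw [map_sub, stabV_apply, stabV_apply, stabV_apply, mul_inv_cancel, map_one]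
      rfl
    rw [e, stabV_apply, show g * h = h * (h⁻¹ * g * h) by group, ← stabV_apply, hfix _ hg']

/-- The bound, given an element moving vectors only into the fixed space of its complement. -/
theorem bound_of_range_fixed [FiniteDimensional k V] (p : ℕ) [CharP k p] (hr : 9 ≤ r)
    (hfix : ∀ v : V, (∀ g, ρ g v = v) → v = 0) {x : Alt r} {P Q : Fin 4 → Fin r}
    (hP : Function.Injective P) (hQ : Function.Injective Q) (hPQ : ∀ i j, P i ≠ Q j)
    (hx : x ∈ fixS (Set.range P)ᶜ) (hx01 : (x : Perm (Fin r)) (P 0) = P 1) (hρx : ρ x ≠ 1)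
    (h : ∀ h ∈ fixS (Set.range P), ∀ w, ρ h (ρ x w - w) = ρ x w - w) :
    r - 1 - (if p ∣ r then 1 else 0) ≤ Module.finrank k V := by
  obtain ⟨w, hw⟩ : ∃ w, ρ x w - w ≠ 0 := by
    by_contra hc
    push Not at hc
    exact hρx (LinearMap.ext fun w => sub_eq_zero.1 (hc w))
  have hQ' : ![Q 0, Q 1, Q 2, Q 3] = Q := funext fun i => by fin_cases i <;> rfl
  refine core_bound p hr ρ hfix (tuples_of_base ρ hr hP hx hx01 h) hw (hQ'.symm ▸ hQ) ?_
  intro g hg
  refine h g (fun y hy => hg y ?_) w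
  obtain ⟨i, rfl⟩ := hy
  simp only [Set.mem_compl_iff, Set.mem_insert_iff, Set.mem_singleton_iff, not_or]
  exact ⟨hPQ i 0, hPQ i 1, hPQ i 2, hPQ i 3⟩

/-- Blocks of consecutive points. -/
def consec {kk b : ℕ} (h : kk * b ≤ r) : Fin kk × Fin b ↪ Fin r :=
  finProdFinEquiv.toEmbedding.trans (Fin.castLEEmb h)

theorem consec_val {kk b : ℕ} (h : kk * b ≤ r) (j : Fin kk) (i : Fin b) :
    (consec h (j, i)).val = i.val + b * j.val := rfl

theorem op_apply {kk b : ℕ} (β : Fin kk × Fin b ↪ Fin r) (j j' : Fin kk)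
    (π : ↥(alternatingGroup (Fin b))) (i : Fin b) :
    (op β j π : Perm (Fin r)) (β (j', i)) = β (j', if j' = j then (π : Perm (Fin b)) i else i) := by
  rw [op, up_apply]
  exact congrArg β (blk_apply j j' _ i)

theorem op_fix {kk b : ℕ} (β : Fin kk × Fin b ↪ Fin r) (j : Fin kk) (π : ↥(alternatingGroup (Fin b)))
    {y : Fin r} (hy : ∀ i, β (j, i) ≠ y) : (op β j π : Perm (Fin r)) y = y := by
  by_cases h : y ∈ Set.range β
  · obtain ⟨⟨j', i⟩, rfl⟩ := h
    rw [op_apply, if_neg (fun e => hy i (by rw [e]))]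
  · exact up_fix β _ h

theorem op_eq_of {kk b : ℕ} (β : Fin kk × Fin b ↪ Fin r) (j : Fin kk) (π : ↥(alternatingGroup (Fin b)))
    (g : Alt r) (h₁ : ∀ i, (g : Perm (Fin r)) (β (j, i)) = β (j, (π : Perm (Fin b)) i))
    (h₂ : ∀ y, (∀ i, β (j, i) ≠ y) → (g : Perm (Fin r)) y = y) : g = op β j π := by
  refine Subtype.ext (Perm.ext fun y => ?_)
  by_cases h : ∃ i, β (j, i) = y
  · obtain ⟨i, rfl⟩ := h
    rw [h₁, op_apply, if_pos rfl]
  · push Not at h
    rw [h₂ y h, op_fix β j π h]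

theorem op_ne_one {kk b : ℕ} (β : Fin kk × Fin b ↪ Fin r) (j : Fin kk) {π : ↥(alternatingGroup (Fin b))}
    {i : Fin b} (h : (π : Perm (Fin b)) i ≠ i) : op β j π ≠ 1 := fun e => h (by
  have h1 := op_apply β j j π i
  rw [e, if_pos rfl] at h1
  exact (congrArg Prod.snd (β.injective h1)).symm)

/-- The weights of the blocks of four points. -/
theorem four_dichotomy [IsAlgClosed k] [FiniteDimensional k V] (p : ℕ) [CharP k p] (hr : 9 ≤ r)
    (hfix : ∀ v : V, (∀ g, ρ g v = v) → v = 0) (hne : ∃ g, ρ g ≠ 1) (h2 : (2 : k) ≠ 0) {kk : ℕ}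
    (hkk : 2 ≤ kk) (hk : kk * 4 ≤ r) :
    r - 1 - (if p ∣ r then 1 else 0) ≤ Module.finrank k V ∨
      ∃ (m : ℕ) (A : Finset (Fin kk → Fin 4)), 2 ≤ m ∧ m ≤ kk ∧
        (∀ f ∈ A, f ∈ wts (locFour h2) (consec hk) ρ) ∧
        (∀ f ∈ A, (Finset.univ.filter fun i => f i ≠ 0).card = m) ∧
        kk.choose m * 3 ^ m ≤ A.card := by
  obtain ⟨β, hβ⟩ : ∃ β, β = consec (r := r) hk := ⟨_, rfl⟩
  rw [← hβ]
  obtain ⟨j₀, hj₀⟩ : ∃ j : Fin kk, j.val = 0 := ⟨⟨0, by omega⟩, rfl⟩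
  obtain ⟨j₁, hj₁⟩ : ∃ j : Fin kk, j.val = 1 := ⟨⟨1, by omega⟩, rfl⟩
  have hj : j₀ ≠ j₁ := fun e => by rw [e, hj₁] at hj₀; omega
  by_cases h : (ρ (op β j₁ (fourGen 0)) - 1) * (ρ (op β j₀ (fourGen 0)) - 1) = 0
  · left
    obtain ⟨P, hPd⟩ : ∃ P : Fin 4 → Fin r, P = fun i => β (j₀, i) := ⟨_, rfl⟩
    obtain ⟨Q, hQd⟩ : ∃ Q : Fin 4 → Fin r, Q = fun i => β (j₁, i) := ⟨_, rfl⟩
    have hP : Function.Injective P := fun i i' e => by
      subst hPd; exact (Prod.ext_iff.1 (β.injective e)).2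
    have hQ : Function.Injective Q := fun i i' e => by
      subst hQd; exact (Prod.ext_iff.1 (β.injective e)).2
    have hPQ : ∀ i i', P i ≠ Q i' := fun i i' e => by
      subst hPd hQd; exact hj (Prod.ext_iff.1 (β.injective e)).1
    have hx : op β j₀ (fourGen 0) ∈ fixS (Set.range P)ᶜ := fun y hy => op_fix β j₀ _ fun i e => by
      subst hPd; exact hy ⟨i, e⟩
    have hy : op β j₁ (fourGen 0) ∈ fixS (Set.range P) := fun y hy => op_fix β j₁ _ fun i e => by
      obtain ⟨i', rfl⟩ := hy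
      subst hPd
      exact hj (Prod.ext_iff.1 (β.injective e)).1.symm
    obtain ⟨z, z', hzz, hz, hz'⟩ := exists_two_outside ![P 0, P 1, P 2, P 3, Q 1, Q 2, Q 3] (by omega)
    obtain ⟨e, hPe, hQe⟩ : ∃ e, (∀ i, P i ≠ e) ∧ ∀ i, Q i ≠ e := by
      by_cases h0 : Q 0 = z
      · refine ⟨z', fun i => ?_, fun i => ?_⟩
        · fin_cases i
          exacts [hz' 0, hz' 1, hz' 2, hz' 3]
        · fin_cases i
          exacts [fun e => hzz (h0.symm.trans e), hz' 4, hz' 5, hz' 6]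
      · refine ⟨z, fun i => ?_, fun i => ?_⟩
        · fin_cases i
          exacts [hz 0, hz 1, hz 2, hz 3]
        · fin_cases i
          exacts [h0, hz 4, hz 5, hz 6]
    have hn : ∀ i i', i ≠ i' → Q i ≠ Q i' := fun i i' hii e => hii (hQ e)
    have hnP : ∀ i, Q i ∉ Set.range P := fun i ⟨i', hi'⟩ => hPQ i' i hi'
    have heP : e ∉ Set.range P := fun ⟨i', hi'⟩ => hPe i' hi'
    have q01 := hn 0 1 (by decide)
    have q23 := hn 2 3 (by decide)
    refine bound_of_range_fixed ρ p hr hfix hP hQ hPQ hx ?_ (ker_eq_bot hr ρ hne ?_)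
      (range_fixed ρ P hP (by omega) hx hy h (hnP 2) (hnP 3) heP q23 (hQe 3) (hQe 2) ?_)
    · subst hPd
      rw [op_apply, if_pos rfl]
      rfl
    · exact op_ne_one β j₀ (i := 0) (by decide +kernel)
    · intro K hyK hK
      have ey : op β j₁ (fourGen 0) = alt2 (Q 0) (Q 1) (Q 2) (Q 3) := by
        refine (op_eq_of β j₁ (fourGen 0) _ (fun i => ?_) (fun y hy => ?_)).symm
        · subst hQd
          show (alt2 (β (j₁, 0)) (β (j₁, 1)) (β (j₁, 2)) (β (j₁, 3)) : Perm (Fin r)) (β (j₁, i)) = _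
          rw [coe_alt2 q01 q23, Perm.mul_apply]
          have inj : Function.Injective fun i : Fin 4 => β (j₁, i) := hQ
          rw [show Equiv.swap (β (j₁, 2)) (β (j₁, 3)) (β (j₁, i)) = β (j₁, swap 2 3 i) from
            inj.swap_apply (2 : Fin 4) 3 i]
          exact inj.swap_apply (0 : Fin 4) 1 _
        · subst hQd
          exact alt2_fix (Ne.symm (hy 0)) (Ne.symm (hy 1)) (Ne.symm (hy 2)) (Ne.symm (hy 3))
      have hcS : cyc (Q 2) (Q 3) e ∈ fixS (Set.range P) := cyc_mem_fixS (hnP 2) (hnP 3) heP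
      have h1 := mul_mem hyK (hK _ hcS _ hyK)
      rw [ey, conj_alt2 _ _ _ _ _ q01 q23, cyc_fst q23 (hQe 3) (hQe 2),
        cyc_snd q23 (hQe 3) (hQe 2), cyc_fix (hn 0 2 (by decide)) (hn 0 3 (by decide)) (hQe 0),
        cyc_fix (hn 1 2 (by decide)) (hn 1 3 (by decide)) (hQe 1)] at h1
      convert h1 using 1
      apply Subtype.ext
      rw [coe_cyc q23 (hQe 3), Subgroup.coe_mul, coe_alt2 q01 q23, coe_alt2 q01 (hQe 3)]
      have hd : Commute (swap (Q 0) (Q 1)) (swap (Q 2) (Q 3)) := by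
        refine Perm.Disjoint.commute fun y => ?_
        by_cases h0 : y = Q 0
        · exact Or.inr (by rw [h0, swap_apply_of_ne_of_ne (hn 0 2 (by decide)) (hn 0 3 (by decide))])
        by_cases h1 : y = Q 1
        · exact Or.inr (by rw [h1, swap_apply_of_ne_of_ne (hn 1 2 (by decide)) (hn 1 3 (by decide))])
        exact Or.inl (swap_apply_of_ne_of_ne h0 h1)
      rw [hd.eq, mul_assoc, ← mul_assoc (swap (Q 0) (Q 1)), swap_mul_self, one_mul]
  · right
    obtain ⟨χ, hχ, h1, h0⟩ := exists_wts (locFour h2) β ρ (j₀ := j₁) (j₁ := j₀) (l₀ := 0) (m := 2)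
      (by exact_mod_cast h2) (show fourGen 0 ^ 2 = 1 by decide +kernel) h
    have hnz : ∀ j, (locFour h2).val (χ j) 0 ≠ 1 → χ j ≠ 0 := fun j hne e => hne (by
      rw [e]; exact (locFour h2).zero_val 0)
    obtain ⟨hperm, hloc⟩ := four_closed ρ h2 β
    obtain ⟨A, hA, hAm, hcard⟩ := choose_mul_le_card (o := (0 : Fin 4)) hperm hloc hχ
    refine ⟨_, A, ?_, ?_, hA, hAm, by simpa using hcard⟩
    · refine le_trans (le_of_eq (Finset.card_pair hj).symm) (Finset.card_le_card ?_)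
      intro i hi
      simp only [Finset.mem_insert, Finset.mem_singleton] at hi
      simp only [Finset.mem_filter, Finset.mem_univ, true_and]
      rcases hi with rfl | rfl
      exacts [hnz _ h0, hnz _ h1]
    · exact (Finset.card_filter_le _ _).trans (by simp)

/-- The weights of the blocks of three points. -/
theorem three_dichotomy [IsAlgClosed k] [FiniteDimensional k V] (p : ℕ) [CharP k p] (hr : 9 ≤ r)
    (hfix : ∀ v : V, (∀ g, ρ g v = v) → v = 0) (hne : ∃ g, ρ g ≠ 1) (h3 : (3 : k) ≠ 0) {ω : k}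
    (hω : IsPrimitiveRoot ω 3) {kk : ℕ} (hkk : 3 ≤ kk) (hk : kk * 3 ≤ r) :
    r - 1 - (if p ∣ r then 1 else 0) ≤ Module.finrank k V ∨
      ∃ (m : ℕ) (A : Finset (Fin kk → Fin 3)), 2 ≤ m ∧ m ≤ kk ∧
        (∀ f ∈ A, f ∈ wts (locThree hω) (consec hk) ρ) ∧
        (∀ f ∈ A, (Finset.univ.filter fun i => f i ≠ 0).card = m) ∧
        kk.choose m * 2 ^ m ≤ A.card := by
  obtain ⟨β, hβ⟩ : ∃ β, β = consec (r := r) hk := ⟨_, rfl⟩
  rw [← hβ]
  obtain ⟨j₀, hj₀⟩ : ∃ j : Fin kk, j.val = 0 := ⟨⟨0, by omega⟩, rfl⟩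
  obtain ⟨j₁, hj₁⟩ : ∃ j : Fin kk, j.val = 1 := ⟨⟨1, by omega⟩, rfl⟩
  obtain ⟨j₂, hj₂⟩ : ∃ j : Fin kk, j.val = 2 := ⟨⟨2, by omega⟩, rfl⟩
  have hj : j₀ ≠ j₁ := fun e => by rw [e, hj₁] at hj₀; omega
  have hj02 : j₀ ≠ j₂ := fun e => by rw [e, hj₂] at hj₀; omega
  have hj12 : j₁ ≠ j₂ := fun e => by rw [e, hj₂] at hj₁; omega
  by_cases h : (ρ (op β j₁ cycGen3) - 1) * (ρ (op β j₀ cycGen3) - 1) = 0
  · left
    obtain ⟨P, hPd⟩ : ∃ P : Fin 4 → Fin r, P = ![β (j₀, 0), β (j₀, 1), β (j₀, 2), β (j₂, 0)] :=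
      ⟨_, rfl⟩
    obtain ⟨Q, hQd⟩ : ∃ Q : Fin 4 → Fin r, Q = ![β (j₁, 0), β (j₁, 1), β (j₁, 2), β (j₂, 1)] :=
      ⟨_, rfl⟩
    have hβi : ∀ {a c : Fin kk × Fin 3}, a ≠ c → β a ≠ β c := fun hh e => hh (β.injective e)
    have hP : Function.Injective P := hPd ▸ inj_four (hβi (by simp)) (hβi (by simp))
      (hβi (by simp [hj02])) (hβi (by simp)) (hβi (by simp [hj02])) (hβi (by simp [hj02]))
    have hQ : Function.Injective Q := hQd ▸ inj_four (hβi (by simp)) (hβi (by simp))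
      (hβi (by simp [hj12])) (hβi (by simp)) (hβi (by simp [hj12])) (hβi (by simp [hj12]))
    have hPQ : ∀ i i', P i ≠ Q i' := by
      intro i i'
      subst hPd hQd
      fin_cases i <;> fin_cases i' <;>
        exact hβi (by simp [hj, hj02, hj12, hj.symm, hj02.symm, hj12.symm])
    obtain ⟨P₃, hP₃d⟩ : ∃ P₃ : Fin 3 → Fin r, P₃ = fun i => β (j₀, i) := ⟨_, rfl⟩
    have hP₃ : Function.Injective P₃ := fun i i' e => by
      subst hP₃d; exact (Prod.ext_iff.1 (β.injective e)).2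
    have hsub : Set.range P₃ ⊆ Set.range P := by
      rintro _ ⟨i, rfl⟩
      subst hP₃d hPd
      fin_cases i
      exacts [⟨0, rfl⟩, ⟨1, rfl⟩, ⟨2, rfl⟩]
    have hx₃ : op β j₀ cycGen3 ∈ fixS (Set.range P₃)ᶜ := fun y hy => op_fix β j₀ _ fun i e => by
      subst hP₃d; exact hy ⟨i, e⟩
    have hy₃ : op β j₁ cycGen3 ∈ fixS (Set.range P₃) := fun y hy => op_fix β j₁ _ fun i e => by
      obtain ⟨i', rfl⟩ := hy
      subst hP₃d
      exact hj (Prod.ext_iff.1 (β.injective e)).1.symm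
    have hn : ∀ i i' : Fin 3, i ≠ i' → β (j₁, i) ≠ β (j₁, i') := fun i i' hii => hβi (by simp [hii])
    have hnP : ∀ i, β (j₁, i) ∉ Set.range P₃ := fun i ⟨i', hi'⟩ => by
      subst hP₃d; exact hj (Prod.ext_iff.1 (β.injective hi')).1
    have hr' := range_fixed ρ P₃ hP₃ (by omega) hx₃ hy₃ h (hnP 0) (hnP 1) (hnP 2) (hn 0 1 (by decide))
      (hn 1 2 (by decide)) (hn 0 2 (by decide)) (fun K hyK _ => by
        convert hyK using 1
        refine op_eq_of β j₁ cycGen3 _ (fun i => ?_) (fun y hy => ?_)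
        · fin_cases i
          exacts [cyc_fst (hn 0 1 (by decide)) (hn 1 2 (by decide)) (hn 0 2 (by decide)),
            cyc_snd (hn 0 1 (by decide)) (hn 1 2 (by decide)) (hn 0 2 (by decide)),
            cyc_trd (hn 0 1 (by decide)) (hn 1 2 (by decide))]
        · exact cyc_fix (Ne.symm (hy 0)) (Ne.symm (hy 1)) (Ne.symm (hy 2)))
    refine bound_of_range_fixed ρ p hr hfix hP hQ hPQ
      (fixS_anti (Set.compl_subset_compl.2 hsub) hx₃) ?_
      (ker_eq_bot hr ρ hne (op_ne_one β j₀ (i := 0) (by decide +kernel)))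
      (fun g hg => hr' g (fixS_anti hsub hg))
    subst hPd
    show (op β j₀ cycGen3 : Perm (Fin r)) (β (j₀, 0)) = β (j₀, 1)
    rw [op_apply, if_pos rfl]; rfl
  · right
    have h' : (ρ (op β j₁ ((locThree hω).gen 1)) - 1) * (ρ (op β j₀ ((locThree hω).gen 1)) - 1) ≠ 0 := by
      simpa [locThree, locCyc] using h
    obtain ⟨χ, hχ, h1, h0⟩ := exists_wts (locThree hω) β ρ (j₀ := j₁) (j₁ := j₀) (l₀ := 1) (m := 3) (by exact_mod_cast h3)
      (show (cycGen3 ^ 1) ^ 3 = 1 by decide +kernel) h'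
    have hnz : ∀ j, (locThree hω).val (χ j) 1 ≠ 1 → χ j ≠ 0 := fun j hne e => hne (by
      rw [e]; exact (locThree hω).zero_val 1)
    obtain ⟨hperm, hloc⟩ := three_closed ρ hω β hkk
    obtain ⟨A, hA, hAm, hcard⟩ := choose_mul_le_card (o := (0 : Fin 3)) hperm hloc hχ
    refine ⟨_, A, ?_, ?_, hA, hAm, by simpa using hcard⟩
    · refine le_trans (le_of_eq (Finset.card_pair hj).symm) (Finset.card_le_card ?_)
      intro i hi
      simp only [Finset.mem_insert, Finset.mem_singleton] at hi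
      simp only [Finset.mem_filter, Finset.mem_univ, true_and]
      rcases hi with rfl | rfl
      exacts [hnz _ h0, hnz _ h1]
    · exact (Finset.card_filter_le _ _).trans (by simp)

end CfsgLib.PGroup.AltDeg
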