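import Mathlib
import Cfsg.Agent.Lib.PGroup.AltDeg.Linear

/-!
# The least degree of a representation of an alternating group: conclusion

The count of weights of commuting blocks settles all degrees except eleven, where two commuting
five-cycles are used as well.
-/

set_option autoImplicit false

universe u v

namespace CfsgLib.PGroup.AltDeg

open Equiv Equiv.Perm

variable {r : ℕ} {k : Type u} [Field k] {V : Type v} [AddCommGroup V] [Module k V]
  (ρ : Representation k (Alt r) V)

theorem sub_one_smul (c : k) (z : V) : (c - 1) • z = c • z - z := by rw [sub_smul, one_smul]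

/-- Weight vectors of two disjoint orbits of an element of order three give two fixed vectors. -/
theorem two_le_ker_of_cycles [FiniteDimensional k V] {T : Module.End k V} (hT : T ^ 3 = 1) {u w : V}
    (hli : LinearIndependent k ![u, T u, T (T u), w, T w, T (T w)]) :
    2 ≤ Module.finrank k (LinearMap.ker (T - 1)) := by
  have h3 : ∀ z, T (T (T z)) = z := fun z => by
    have := LinearMap.congr_fun hT z
    simpa [pow_succ, Module.End.mul_apply] using this
  let a : LinearMap.ker (T - 1) := ⟨u + T u + T (T u), by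
    simp [LinearMap.mem_ker, map_add, h3] <;> abel⟩
  let c : LinearMap.ker (T - 1) := ⟨w + T w + T (T w), by
    simp [LinearMap.mem_ker, map_add, h3] <;> abel⟩
  have h2 : LinearIndependent k ![a, c] := by
    rw [LinearIndependent.pair_iff]
    intro s t hst
    have e : s • (u + T u + T (T u)) + t • (w + T w + T (T w)) = 0 := congrArg Subtype.val hst
    have := Fintype.linearIndependent_iff.1 hli ![s, s, s, t, t, t] (by
      simp only [Fin.sum_univ_six]
      simp only [Matrix.cons_val]
      linear_combination (norm := module) e)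
    exact ⟨this 0, this 3⟩
  simpa using h2.fintype_card_le_finrank

/-- A vector fixed by a block in which all weights of a spanning family are nontrivial vanishes. -/
theorem eq_zero_of_spanning [FiniteDimensional k V] {kk b s : ℕ} {τ : Type} (L : Loc k b s τ)
    (β : Fin kk × Fin b ↪ Fin r) (A : Finset (Fin kk → τ)) (hA : ∀ f ∈ A, f ∈ wts L β ρ)
    (hn : Module.finrank k V ≤ A.card) (j : Fin kk) (hne : ∀ f ∈ A, f j ≠ L.zero) {v : V}
    (hv : ∀ l, ρ (op β j (L.gen l)) v = v) : v = 0 := by
  classical
  choose w hw0 hw using hA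
  have hli : LinearIndependent k fun i : A => w i.1 i.2 :=
    wts_independent L β ρ (ι := A) (χ := fun i => (i : Fin kk → τ)) Subtype.val_injective
      (fun i => hw0 i.1 i.2) fun i => hw i.1 i.2
  have hspan := hli.span_eq_top_of_card_eq_finrank'
    (le_antisymm hli.fintype_card_le_finrank (by rwa [Fintype.card_coe]))
  obtain ⟨c, hc⟩ := (Submodule.mem_span_range_iff_exists_fun k).1
    (show v ∈ Submodule.span k (Set.range fun i : A => w i.1 i.2) by rw [hspan]; trivial)
  have hc0 : ∀ i : A, c i = 0 := by
    intro i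
    obtain ⟨l, hl⟩ : ∃ l, L.val (i.1 j) l ≠ 1 := by
      by_contra hcon
      push Not at hcon
      exact hne i.1 i.2 (L.inj (funext fun l => (hcon l).trans (L.zero_val l).symm))
    have h1 := hv l
    rw [← hc, map_sum] at h1
    have h2 : ∑ x : A, (c x * L.val (x.1 j) l - c x) • w x.1 x.2 = 0 := by
      simp only [sub_smul, Finset.sum_sub_distrib, sub_eq_zero]
      rw [← h1]
      exact Finset.sum_congr rfl fun x _ => by rw [map_smul, hw x.1 x.2, mul_smul]
    have h3 := Fintype.linearIndependent_iff.1 hli _ h2 i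
    rw [← mul_sub_one, mul_eq_zero] at h3
    exact h3.resolve_right (sub_ne_zero.2 hl)
  rw [← hc]
  simp [hc0]

/-- Weights with all coordinates nontrivial bound the fixed space of a block element. -/
theorem ker_le_of_weights [FiniteDimensional k V] {kk b s : ℕ} {τ : Type} (L : Loc k b s τ)
    (β : Fin kk × Fin b ↪ Fin r) (A : Finset (Fin kk → τ)) (hA : ∀ f ∈ A, f ∈ wts L β ρ)
    (j : Fin kk) (l : Fin s) (hne : ∀ f ∈ A, L.val (f j) l ≠ 1) :
    A.card + Module.finrank k (LinearMap.ker (ρ (op β j (L.gen l)) - 1)) ≤ Module.finrank k V := by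
  classical
  choose w hw0 hw using hA
  have hli : LinearIndependent k fun i : A => w i.1 i.2 :=
    wts_independent L β ρ (ι := A) (χ := fun i => (i : Fin kk → τ)) Subtype.val_injective
      (fun i => hw0 i.1 i.2) fun i => hw i.1 i.2
  let T := ρ (op β j (L.gen l)) - 1
  have hle : Submodule.span k (Set.range fun i : A => w i.1 i.2) ≤ LinearMap.range T := by
    rw [Submodule.span_le]
    rintro _ ⟨i, rfl⟩
    refine ⟨(L.val (i.1 j) l - 1)⁻¹ • w i.1 i.2, ?_⟩
    show T ((L.val (i.1 j) l - 1)⁻¹ • w i.1 i.2) = w i.1 i.2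
    rw [map_smul, LinearMap.sub_apply, Module.End.one_apply, hw i.1 i.2, ← sub_one_smul, smul_smul,
      inv_mul_cancel₀ (sub_ne_zero.2 (hne i.1 i.2)), one_smul]
  have h1 := Submodule.finrank_mono hle
  rw [finrank_span_eq_card hli, Fintype.card_coe] at h1
  have h2 := LinearMap.finrank_range_add_finrank_ker T
  show A.card + Module.finrank k (LinearMap.ker T) ≤ _
  omega

/-- Two disjoint five-cycles: either they move vectors jointly in at least sixteen ways, or the
range of one is fixed by the alternating group on the points outside it and is at least a plane. -/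
theorem five_dichotomy [IsAlgClosed k] [FiniteDimensional k V] (hr : 10 ≤ r)
    (hne : ∃ g, ρ g ≠ 1) (h5 : (5 : k) ≠ 0) (β : Fin 2 × Fin 5 ↪ Fin r) :
    16 ≤ Module.finrank k V ∨
      ((∀ h ∈ fixS (Set.range fun i => β (1, i)), ∀ w,
          ρ h (ρ (op β 1 cycGen5) w - w) = ρ (op β 1 cycGen5) w - w) ∧
        2 ≤ Module.finrank k (LinearMap.range (ρ (op β 1 cycGen5) - 1))) := by
  have : NeZero ((5 : ℕ) : k) := ⟨by exact_mod_cast h5⟩
  obtain ⟨ω, hω⟩ := HasEnoughRootsOfUnity.exists_primitiveRoot k 5
  have hgen : (locFive hω).gen 1 = cycGen5 := by show cycGen5 ^ 1 = cycGen5; exact pow_one _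
  have hord : (locFive hω).gen 1 ^ 5 = 1 := by rw [hgen]; decide +kernel
  have hm : ((5 : ℕ) : k) ≠ 0 := NeZero.ne _
  have hnz : ∀ t, (locFive hω).val t 1 ≠ 1 → t ≠ 0 := fun t h e => h (by
    rw [e]; exact (locFive hω).zero_val 1)
  by_cases h : (ρ (op β 0 cycGen5) - 1) * (ρ (op β 1 cycGen5) - 1) = 0
  · right
    constructor
    · have hi : ∀ (j : Fin 2) (i i' : Fin 5), i ≠ i' → β (j, i) ≠ β (j, i') := fun j i i' hh e =>
        hh (Prod.ext_iff.1 (β.injective e)).2
      have h01 : ∀ i i', β (0, i) ≠ β (1, i') := fun i i' e =>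
        absurd (Prod.ext_iff.1 (β.injective e)).1 (show (0 : Fin 2) ≠ 1 by decide)
      have hP : Function.Injective fun i => β ((1 : Fin 2), i) := fun i i' e =>
        (Prod.ext_iff.1 (β.injective e)).2
      have hnP : ∀ i, β (0, i) ∉ Set.range fun i => β ((1 : Fin 2), i) := fun i ⟨i', hi'⟩ =>
        h01 i i' hi'.symm
      refine range_fixed ρ _ hP (by omega) (x := op β 1 cycGen5) (y := op β 0 cycGen5)
        (fun y hy => op_fix β 1 _ fun i e => hy ⟨i, e⟩)
        (fun y ⟨i', hi'⟩ => op_fix β 0 _ fun i e => h01 i i' (e.trans hi'.symm)) h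
        (hnP 0) (hnP 3) (hnP 1) (hi 0 0 3 (by decide)) (hi 0 3 1 (by decide)) (hi 0 0 1 (by decide))
        fun K hyK hK => ?_
      obtain ⟨c, hc⟩ : ∃ c, c = cyc (β (0, 0)) (β (0, 1)) (β (0, 2)) := ⟨_, rfl⟩
      have hcS : c ∈ fixS (Set.range fun i => β ((1 : Fin 2), i)) :=
        hc ▸ cyc_mem_fixS (hnP 0) (hnP 1) (hnP 2)
      -- the commutator of a five-cycle and a three-cycle
      have key : op β 0 cycGen5 * c * (op β 0 cycGen5)⁻¹ * c⁻¹ ∈ K := by
        have h1 := mul_mem hyK (hK c hcS _ (inv_mem hyK))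
        rwa [← mul_assoc, ← mul_assoc] at h1
      obtain ⟨d, hd⟩ : ∃ d : ↥(alternatingGroup (Fin 5)), d = cycGen5 *
          ⟨swap 0 1 * swap 1 2, mem_alternatingGroup.2 (by decide +kernel)⟩ * cycGen5⁻¹ *
          (⟨swap 0 1 * swap 1 2, mem_alternatingGroup.2 (by decide +kernel)⟩ :
            ↥(alternatingGroup (Fin 5)))⁻¹ := ⟨_, rfl⟩
      have hc' : c = op β 0 ⟨swap 0 1 * swap 1 2, mem_alternatingGroup.2 (by decide +kernel)⟩ := by
        refine op_eq_of β 0 _ _ (fun i => ?_) (fun y hy => ?_)
        · rw [hc]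
          have a := hi 0 0 1 (by decide)
          have b := hi 0 1 2 (by decide)
          have c := hi 0 0 2 (by decide)
          fin_cases i
          · exact cyc_fst a b c
          · exact cyc_snd a b c
          · exact cyc_trd a b
          · exact cyc_fix (hi 0 3 0 (by decide)) (hi 0 3 1 (by decide)) (hi 0 3 2 (by decide))
          · exact cyc_fix (hi 0 4 0 (by decide)) (hi 0 4 1 (by decide)) (hi 0 4 2 (by decide))
        · rw [hc]; exact cyc_fix (Ne.symm (hy 0)) (Ne.symm (hy 1)) (Ne.symm (hy 2))
      have hinv : ∀ π : ↥(alternatingGroup (Fin 5)), (op β (0 : Fin 2) π)⁻¹ = op β 0 π⁻¹ := fun π =>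
        inv_eq_of_mul_eq_one_right (by rw [← op_mul, mul_inv_cancel, op_one])
      rw [hc', hinv, hinv, ← op_mul, ← op_mul, ← op_mul] at key
      convert key using 1
      refine op_eq_of β 0 _ _ (fun i => ?_) (fun y hy => ?_)
      · have a := hi 0 0 3 (by decide)
        have b := hi 0 3 1 (by decide)
        have c := hi 0 0 1 (by decide)
        fin_cases i
        · exact (cyc_fst a b c).trans (congrArg (fun i => β (0, i)) (by decide +kernel))
        · exact (cyc_trd a b).trans (congrArg (fun i => β (0, i)) (by decide +kernel))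
        · exact (cyc_fix (hi 0 2 0 (by decide)) (hi 0 2 3 (by decide)) (hi 0 2 1 (by decide))).trans
            (congrArg (fun i => β (0, i)) (by decide +kernel))
        · exact (cyc_snd a b c).trans (congrArg (fun i => β (0, i)) (by decide +kernel))
        · exact (cyc_fix (hi 0 4 0 (by decide)) (hi 0 4 3 (by decide)) (hi 0 4 1 (by decide))).trans
            (congrArg (fun i => β (0, i)) (by decide +kernel))
      · exact cyc_fix (Ne.symm (hy 0)) (Ne.symm (hy 3)) (Ne.symm (hy 1))
    · -- a nontrivial weight and its image under squaring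
      have hsq : (ρ (op β 1 ((locFive hω).gen 1)) - 1) * (ρ (op β 1 ((locFive hω).gen 1)) - 1) ≠ 0 := by
        rw [hgen]
        intro e
        refine ker_eq_bot (by omega) ρ hne (op_ne_one β 1 (π := cycGen5) (i := 0) (by decide +kernel))
          (LinearMap.ext fun u => sub_eq_zero.1 (eq_zero_of_moved_fixed (T := ρ (op β 1 cycGen5))
            (u := u) hm ?_ rfl ?_))
        · rw [← map_pow, op_pow, show cycGen5 ^ 5 = 1 by decide +kernel, op_one, map_one]
        · have := LinearMap.congr_fun e u
          simp only [Module.End.mul_apply, LinearMap.sub_apply, Module.End.one_apply, LinearMap.zero_apply,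
            sub_eq_zero] at this
          rw [Module.End.one_apply]
          exact this
      obtain ⟨χ, hχ, h1, -⟩ := exists_wts (locFive hω) β ρ hm hord hsq
      obtain ⟨hd, -, -⟩ := five_closed ρ hω β hχ
      have key : ∀ a : Fin 5, a ≠ 0 → 3 * a ≠ 0 ∧ 3 * a ≠ a := by decide
      obtain ⟨k1, k2⟩ := key _ (hnz _ h1)
      have hv1 : ∀ t, t ≠ 0 → (locFive hω).val t 1 ≠ 1 := fun t ht e => by
        have : ω ^ t.val = 1 := by simpa [locFive, locCyc] using e
        have h0 := hω.pow_inj t.2 (by omega : 0 < 5) (by simp [this])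
        exact ht (Fin.ext h0)
      obtain ⟨w, hw0, hw⟩ := hχ
      obtain ⟨w', hw0', hw'⟩ := hd
      have hli : LinearIndependent k ![w, w'] := by
        refine eig_independent (fun _ : Unit => ρ (op β 1 ((locFive hω).gen 1)))
          (fun i _ => (locFive hω).val (![χ 1, 3 * χ 1] i) 1) (fun i i' e => ?_) _ ?_ ?_
        · have e1 : ω ^ (![χ 1, 3 * χ 1] i).val = ω ^ (![χ 1, 3 * χ 1] i').val := by
            simpa [locFive, locCyc] using congrFun e ()
          have e2 : (![χ 1, 3 * χ 1] i) = ![χ 1, 3 * χ 1] i' := Fin.ext (hω.pow_inj (Fin.isLt _) (Fin.isLt _) e1)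
          fin_cases i <;> fin_cases i' <;> first | rfl | exact absurd e2 k2 | exact absurd e2.symm k2
        · intro i; fin_cases i
          exacts [hw0, hw0']
        · intro i _; fin_cases i
          exacts [hw 1 1, hw' 1 1]
      have hmem : ∀ i, ![w, w'] i ∈ LinearMap.range (ρ (op β 1 cycGen5) - 1) := by
        have aux : ∀ (t : Fin 5) (z : V), t ≠ 0 →
            ρ (op β 1 ((locFive hω).gen 1)) z = (locFive hω).val t 1 • z →
            z ∈ LinearMap.range (ρ (op β 1 cycGen5) - 1) := fun t z ht hz => by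
          refine ⟨((locFive hω).val t 1 - 1)⁻¹ • z, ?_⟩
          rw [hgen] at hz
          rw [map_smul, LinearMap.sub_apply, Module.End.one_apply, hz, ← sub_one_smul, smul_smul,
            inv_mul_cancel₀ (sub_ne_zero.2 (hv1 t ht)), one_smul]
        intro i; fin_cases i
        · exact aux (χ 1) _ (hnz _ h1) (hw 1 1)
        · exact aux (3 * χ 1) _ k1 (hw' 1 1)
      have hle := Submodule.finrank_mono (Submodule.span_le.2 (Set.range_subset_iff.2 hmem))
      rw [finrank_span_eq_card hli, Fintype.card_fin] at hle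
      exact hle
  · left
    obtain ⟨χ, hχ, h0, h1⟩ := exists_wts (locFive hω) β ρ (j₀ := 0) (j₁ := 1) (l₀ := 1) hm hord
      (by rw [hgen]; exact h)
    -- sixteen weights
    let W := wts (locFive hω) β ρ
    have step : ∀ χ ∈ W, ![3 * χ 0, 3 * χ 1] ∈ W ∧ ![3 * χ 0, 2 * χ 1] ∈ W ∧ ![χ 1, 3 * χ 0] ∈ W :=
      fun χ hχ => five_closed ρ hω β hχ
    have pows : ∀ i : ℕ, ∀ χ ∈ W, ![3 ^ i * χ 0, 3 ^ i * χ 1] ∈ W := by
      intro i
      induction i with
      | zero => intro χ hχ; convert hχ using 1; funext j; fin_cases j <;> simp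
      | succ i ih =>
        intro χ hχ
        convert (step _ (ih χ hχ)).1 using 1
        funext j; fin_cases j <;> simp [pow_succ', mul_assoc]
    have pows2 : ∀ i : ℕ, ∀ χ ∈ W, ![3 ^ i * χ 0, 2 ^ i * χ 1] ∈ W := by
      intro i
      induction i with
      | zero => intro χ hχ; convert hχ using 1; funext j; fin_cases j <;> simp
      | succ i ih =>
        intro χ hχ
        convert (step _ (ih χ hχ)).2.1 using 1
        funext j; fin_cases j <;> simp [pow_succ', mul_assoc]
    have key : ∀ a c a' c' : Fin 5, a ≠ 0 → c ≠ 0 → a' ≠ 0 → c' ≠ 0 →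
        ∃ i : Fin 4, ∃ l : Fin 2,
          (3 ^ l.val * (3 ^ i.val * a) = a' ∧ 2 ^ l.val * (3 ^ i.val * c) = c') ∨
          (3 ^ l.val * (3 ^ i.val * c) = a' ∧ 2 ^ l.val * (3 ^ i.val * (3 * a)) = c') := by
      decide +kernel
    have hall : ∀ f ∈ Fintype.piFinset (fun _ : Fin 2 => Finset.univ.erase (0 : Fin 5)), f ∈ W := by
      intro f hf
      have hf' := fun j => Finset.ne_of_mem_erase (Fintype.mem_piFinset.1 hf j)
      obtain ⟨i, l, ⟨e0, e1⟩ | ⟨e0, e1⟩⟩ := key (χ 0) (χ 1) (f 0) (f 1) (hnz _ h0) (hnz _ h1) (hf' 0) (hf' 1)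
      · convert pows2 l.val _ (pows i.val χ hχ) using 1
        funext j; fin_cases j
        exacts [e0.symm, e1.symm]
      · convert pows2 l.val _ (pows i.val _ (step χ hχ).2.2) using 1
        funext j; fin_cases j
        exacts [e0.symm, e1.symm]
    exact le_trans (by simp [Fintype.card_piFinset]) (card_le_finrank (locFive hω) β ρ _ hall)

theorem arith_four {kk m N : ℕ} (h2 : 2 ≤ m) (hm : m ≤ kk) (h : kk.choose m * 3 ^ m ≤ N) :
    4 * kk + 2 ≤ N ∨ (kk = 2 ∧ 9 ≤ N) := by
  rcases Nat.lt_or_ge m kk with hlt | hge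
  · left
    have h1 := le_choose kk m (by omega) hlt
    have h2' : 3 ^ 2 ≤ 3 ^ m := Nat.pow_le_pow_right (by omega) h2
    have := Nat.mul_le_mul h1 h2'
    omega
  · obtain rfl : m = kk := by omega
    rw [Nat.choose_self, one_mul] at h
    rcases Nat.lt_or_ge m 3 with h3 | h3
    · right
      obtain rfl : m = 2 := by omega
      exact ⟨rfl, by simpa using h⟩
    · left
      have : 4 * m + 2 ≤ 3 ^ m := by
        induction m, h3 using Nat.le_induction with
        | base => norm_num
        | succ n hn ih => rw [pow_succ]; omega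
      omega

theorem arith_three {kk m N : ℕ} (h3 : 3 ≤ kk) (h2 : 2 ≤ m) (hm : m ≤ kk)
    (h : kk.choose m * 2 ^ m ≤ N) : 3 * kk + 1 ≤ N ∨ (kk = 3 ∧ m = 3 ∧ 8 ≤ N) := by
  rcases Nat.lt_or_ge m kk with hlt | hge
  · left
    have h1 := le_choose kk m (by omega) hlt
    have h2' : 2 ^ 2 ≤ 2 ^ m := Nat.pow_le_pow_right (by omega) h2
    have := Nat.mul_le_mul h1 h2'
    omega
  · obtain rfl : m = kk := by omega
    rw [Nat.choose_self, one_mul] at h
    rcases Nat.lt_or_ge m 4 with h4 | h4
    · right
      obtain rfl : m = 3 := by omega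
      exact ⟨rfl, rfl, by simpa using h⟩
    · left
      have : 3 * m + 1 ≤ 2 ^ m := by
        induction m, h4 using Nat.le_induction with
        | base => norm_num
        | succ n hn ih => rw [pow_succ]; omega
      omega

theorem threeInFour : ∀ i : Fin 3, (swap 0 1 * swap 1 2 : Perm (Fin 4)) (Fin.castLE (by omega) i) =
    Fin.castLE (by omega) ((cycGen3 : Perm (Fin 3)) i) := by decide +kernel

theorem threeInFour' : ∀ i : Fin 4, (∀ i' : Fin 3, Fin.castLE (by omega) i' ≠ i) →
    (swap 0 1 * swap 1 2 : Perm (Fin 4)) i = i := by decide +kernel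

/-- Five-cycles on eleven points, the second avoiding the first six. -/
def fives (h : 11 ≤ r) : Fin 2 × Fin 5 ↪ Fin r :=
  ⟨fun x => ⟨if x.1 = 0 then x.2.val else 6 + x.2.val, by split_ifs <;> omega⟩, fun x y e => by
    obtain ⟨a, b⟩ := x
    obtain ⟨c, d⟩ := y
    have e' := congrArg Fin.val e
    fin_cases a <;> fin_cases c <;> simp at e' <;> first | omega | (simp [Fin.ext_iff]; omega)⟩

theorem first_block_mem_fixS {kk b : ℕ} (h : kk * b ≤ r) (h11 : 11 ≤ r) (hb : b ≤ 6) (j : Fin kk)
    (hj : j.val = 0) (π : ↥(alternatingGroup (Fin b))) :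
    op (consec h) j π ∈ fixS (Set.range fun i => fives h11 ((1 : Fin 2), i)) := by
  rintro _ ⟨i, rfl⟩
  refine op_fix _ _ _ fun i' e => ?_
  have e' := congrArg Fin.val e
  have e2 : (fives h11 ((1 : Fin 2), i)).val = 6 + i.val := rfl
  rw [consec_val, hj, e2] at e'
  have := i'.isLt
  omega

/-- The least degree of a nontrivial representation of an alternating group without fixed
vectors. -/
theorem linear_bound [IsAlgClosed k] [FiniteDimensional k V] (p : ℕ) [hp : Fact p.Prime] [CharP k p]
    (hr : 9 ≤ r) (hfix : ∀ v : V, (∀ g, ρ g v = v) → v = 0) (hne : ∃ g, ρ g ≠ 1) :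
    r - 1 - (if p ∣ r then 1 else 0) ≤ Module.finrank k V := by
  have hcast : ∀ n : ℕ, (n : k) = 0 ↔ p ∣ n := fun n => CharP.cast_eq_zero_iff k p n
  by_cases hp2 : p = 2
  · -- cycles of length three
    have h3 : (3 : k) ≠ 0 := fun e => by
      have := (hcast 3).1 (by exact_mod_cast e)
      rw [hp2] at this
      omega
    have : NeZero ((3 : ℕ) : k) := ⟨by exact_mod_cast h3⟩
    obtain ⟨ω, hω⟩ := HasEnoughRootsOfUnity.exists_primitiveRoot k 3
    rcases three_dichotomy ρ p hr hfix hne h3 hω (kk := r / 3) (by omega)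
        (Nat.div_mul_le_self r 3) with h | ⟨m, A, hm2, hmk, hA, hAm, hcard⟩
    · exact h
    have hAn := card_le_finrank _ _ ρ A hA
    rcases arith_three (by omega) hm2 hmk hcard with h | ⟨hkk, rfl, h8⟩
    · omega
    by_cases h11 : r = 11
    swap
    · have : r = 9 ∨ r = 10 := by omega
      rcases this with rfl | rfl
      · omega
      · rw [hp2]; norm_num; omega
    by_contra hsmall
    have hn : Module.finrank k V ≤ 9 := by
      rw [h11] at hsmall
      have : ¬ p ∣ 11 := by rw [hp2]; decide
      rw [if_neg this] at hsmall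
      omega
    obtain ⟨j, hj⟩ : ∃ j : Fin (r / 3), j.val = 0 := ⟨⟨0, by omega⟩, rfl⟩
    have hall : ∀ f ∈ A, ∀ i, f i ≠ 0 := fun f hf i => by
      have he := hAm f hf
      have : (Finset.univ.filter fun i => f i ≠ 0) = Finset.univ :=
        Finset.eq_univ_of_card _ (by rw [he, Fintype.card_fin]; omega)
      have hi := this ▸ Finset.mem_univ i
      simpa using hi
    have hv : ∀ f ∈ A, (locThree hω).val (f j) 1 ≠ 1 := fun f hf e => by
      have e1 : ω ^ (f j).val = 1 := by simpa [locThree, locCyc] using e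
      exact hall f hf j (Fin.ext (hω.pow_inj (f j).2 (by omega : 0 < 3) (by simp [e1])))
    have hker := ker_le_of_weights ρ _ _ A hA j 1 hv
    have h5 : (5 : k) ≠ 0 := fun e => by
      have := Nat.le_of_dvd (by norm_num) ((hcast 5).1 (by exact_mod_cast e))
      have h := (hcast 5).1 (by exact_mod_cast e)
      rw [hp2] at h; omega
    rcases five_dichotomy ρ (by omega) hne h5 (fives (by omega : 11 ≤ r)) with h | ⟨hfx, hdim⟩
    · omega
    have hle : LinearMap.range (ρ (op (fives (by omega : 11 ≤ r)) 1 cycGen5) - 1) ≤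
        LinearMap.ker (ρ (op (consec (Nat.div_mul_le_self r 3)) j ((locThree hω).gen 1)) - 1) := by
      rintro _ ⟨w, rfl⟩
      rw [LinearMap.mem_ker, LinearMap.sub_apply, Module.End.one_apply, sub_eq_zero]
      exact hfx _ (first_block_mem_fixS _ _ (by omega) j hj _) w
    have := Submodule.finrank_mono hle
    omega
  · -- four groups
    have h2 : (2 : k) ≠ 0 := fun e => by
      have := (hcast 2).1 (by exact_mod_cast e)
      exact hp2 ((Nat.prime_dvd_prime_iff_eq hp.out Nat.prime_two).1 this)
    rcases four_dichotomy ρ p hr hfix hne h2 (kk := r / 4) (by omega)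
        (Nat.div_mul_le_self r 4) with h | ⟨m, A, hm2, hmk, hA, hAm, hcard⟩
    · exact h
    have hAn := card_le_finrank _ _ ρ A hA
    rcases arith_four hm2 hmk hcard with h | ⟨hkk, h9⟩
    · omega
    by_cases h11 : r = 11
    swap
    · omega
    by_contra hsmall
    have hn : Module.finrank k V ≤ 9 := by
      rw [h11] at hsmall
      split_ifs at hsmall <;> omega
    obtain ⟨j, hj⟩ : ∃ j : Fin (r / 4), j.val = 0 := ⟨⟨0, by omega⟩, rfl⟩
    have hall : ∀ f ∈ A, ∀ i, f i ≠ 0 := fun f hf i => by
      have he := hAm f hf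
      have : (Finset.univ.filter fun i => f i ≠ 0) = Finset.univ :=
        Finset.eq_univ_of_card _ (by rw [he, Fintype.card_fin]; omega)
      have hi := this ▸ Finset.mem_univ i
      simpa using hi
    by_cases hp5 : p = 5
    · -- the three-cycle of a block permutes its weights without fixed points
      have h3 : (3 : k) ≠ 0 := fun e => by
        have := (hcast 3).1 (by exact_mod_cast e)
        rw [hp5] at this; omega
      have : NeZero ((3 : ℕ) : k) := ⟨by exact_mod_cast h3⟩
      obtain ⟨ω, hω⟩ := HasEnoughRootsOfUnity.exists_primitiveRoot k 3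
      rcases three_dichotomy ρ p hr hfix hne h3 hω (kk := r / 3) (by omega)
          (Nat.div_mul_le_self r 3) with h | ⟨m', A', hm2', hmk', hA', hAm', hcard'⟩
      · exact hsmall h
      have hAn' := card_le_finrank _ _ ρ A' hA'
      rcases arith_three (by omega) hm2' hmk' hcard' with h | ⟨hkk', rfl, h8⟩
      · omega
      obtain ⟨j', hj'⟩ : ∃ j : Fin (r / 3), j.val = 0 := ⟨⟨0, by omega⟩, rfl⟩
      have hv : ∀ f ∈ A', (locThree hω).val (f j') 1 ≠ 1 := fun f hf e => by
        have he := hAm' f hf
        have h1 : (Finset.univ.filter fun i => f i ≠ 0) = Finset.univ :=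
          Finset.eq_univ_of_card _ (by rw [he, Fintype.card_fin]; omega)
        have hi := h1 ▸ Finset.mem_univ j'
        have e1 : ω ^ (f j').val = 1 := by simpa [locThree, locCyc] using e
        have e2 := Fin.ext (hω.pow_inj (f j').2 (by omega : 0 < 3) (by simp [e1])) (b := (0 : Fin 3))
        simp [e2] at hi
      have hker := ker_le_of_weights ρ _ _ A' hA' j' 1 hv
      obtain ⟨hperm, hloc⟩ := four_closed ρ h2 (consec (r := r) (Nat.div_mul_le_self r 4))
      obtain ⟨f, hf⟩ : A.Nonempty := Finset.card_pos.1 (by omega)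
      obtain ⟨j₁, hj₁⟩ : ∃ j₁ : Fin (r / 4), j₁.val = 1 := ⟨⟨1, by omega⟩, rfl⟩
      have hjj : j₁ ≠ j := fun e => by rw [e] at hj₁; omega
      let χ : Fin 6 → Fin (r / 4) → Fin 4 := fun i =>
        Function.update (Function.update f j₁ (![1, 1, 1, 2, 2, 2] i)) j (![1, 3, 2, 1, 3, 2] i)
      have hχ : ∀ i, χ i ∈ wts (locFour h2) (consec (Nat.div_mul_le_self r 4)) ρ := by
        intro i
        refine hloc _ (hloc _ (hA f hf) j₁ _ (hall f hf j₁) ?_) j _ ?_ ?_
        · fin_cases i <;> decide
        · rw [Function.update_of_ne hjj.symm]; exact hall f hf j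
        · fin_cases i <;> decide
      have hχinj : Function.Injective χ := fun a c e => by
        have e1 := congrFun e j
        have e2 := congrFun e j₁
        simp only [χ, Function.update_self, Function.update_of_ne hjj] at e1 e2
        have : ∀ a c : Fin 6, (![1, 3, 2, 1, 3, 2] : Fin 6 → Fin 4) a = (![1, 3, 2, 1, 3, 2] : Fin 6 → Fin 4) c →
            (![1, 1, 1, 2, 2, 2] : Fin 6 → Fin 4) a = (![1, 1, 1, 2, 2, 2] : Fin 6 → Fin 4) c → a = c := by
          decide +kernel
        exact this a c e1 e2
      obtain ⟨X, hX⟩ : ∃ X, X = op (consec (r := r) (Nat.div_mul_le_self r 4)) j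
          ⟨swap 0 1 * swap 1 2, mem_alternatingGroup.2 (by decide +kernel)⟩ := ⟨_, rfl⟩
      have hX3 : X = op (consec (r := r) (Nat.div_mul_le_self r 3)) j' cycGen3 := by
        have hp : ∀ i : Fin 3, consec (r := r) (Nat.div_mul_le_self r 3) (j', i) =
            consec (r := r) (Nat.div_mul_le_self r 4) (j, Fin.castLE (by omega) i) := fun i => by
          apply Fin.ext; simp [consec_val, hj, hj']
        rw [hX]
        refine op_eq_of _ _ _ _ (fun i => ?_) (fun y hy => ?_)
        · rw [hp, hp, op_apply, if_pos rfl]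
          congr 2
          exact threeInFour i
        · by_cases h : ∃ i, consec (r := r) (Nat.div_mul_le_self r 4) (j, i) = y
          · obtain ⟨i, rfl⟩ := h
            rw [op_apply, if_pos rfl]
            congr 2
            exact threeInFour' i fun i' e => hy i' (by rw [hp, e])
          · push Not at h
            exact op_fix _ _ _ h
      have hmove : ∀ (w : V) (χ' : Fin (r / 4) → Fin 4),
          (∀ i l, ρ (op (consec (r := r) (Nat.div_mul_le_self r 4)) i ((locFour h2).gen l)) w =
            (locFour h2).val (χ' i) l • w) →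
          ∀ i l, ρ (op (consec (r := r) (Nat.div_mul_le_self r 4)) i ((locFour h2).gen l)) (ρ X w) =
            (locFour h2).val (Function.update χ' j ((fourMove h2).F (χ' j)) i) l • ρ X w := by
        intro w χ' hw i l
        obtain ⟨ψ, F, hψ, hF⟩ : ∃ (ψ : Fin 3) (F : Fin 4),
            op (consec (r := r) (Nat.div_mul_le_self r 4)) i ((locFour h2).gen l) * X =
              X * op (consec (r := r) (Nat.div_mul_le_self r 4)) i ((locFour h2).gen ψ) ∧
            F = Function.update χ' j ((fourMove h2).F (χ' j)) i ∧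
            (locFour h2).val F l = (locFour h2).val (χ' i) ψ := by
          by_cases h : i = j
          · subst h
            refine ⟨(fourMove h2).ψ l, _, ?_, rfl, by rw [Function.update_self]; exact (fourMove h2).val_eq _ _⟩
            rw [hX, ← op_mul, ← op_mul]
            congr 1
            exact Subtype.ext ((fourMove h2).conj l)
          · refine ⟨l, _, ?_, rfl, by rw [Function.update_of_ne h]⟩
            rw [hX, op, op, ← map_mul, ← map_mul]
            congr 1
            exact Subtype.ext (blk_comm fun e => absurd e h)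
        rw [stabV_apply, hψ, ← stabV_apply, hw, map_smul, ← hF.2, hF.1]
      choose w hw0 hw using hχ
      have hinvert : ∀ (g : Alt r) (z : V), z ≠ 0 → ρ g z ≠ 0 := fun g z hz e => hz (by
        have := congrArg (ρ g⁻¹) e
        rwa [stabV_apply, inv_mul_cancel, map_one, map_zero] at this)
      have hli : LinearIndependent k ![w 0, ρ X (w 0), ρ X (ρ X (w 0)), w 3, ρ X (w 3), ρ X (ρ X (w 3))] := by
        refine wts_independent (locFour h2) (consec (Nat.div_mul_le_self r 4)) ρ hχinj ?_ ?_
        · intro i; fin_cases i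
          exacts [hw0 0, hinvert _ _ (hw0 0), hinvert _ _ (hinvert _ _ (hw0 0)), hw0 3, hinvert _ _ (hw0 3),
            hinvert _ _ (hinvert _ _ (hw0 3))]
        · have step : ∀ a c : Fin 6, (![1, 1, 1, 2, 2, 2] : Fin 6 → Fin 4) a = (![1, 1, 1, 2, 2, 2] : Fin 6 → Fin 4) c →
              (fourMove h2).F ((![1, 3, 2, 1, 3, 2] : Fin 6 → Fin 4) a) = (![1, 3, 2, 1, 3, 2] : Fin 6 → Fin 4) c →
              χ c = Function.update (χ a) j ((fourMove h2).F (χ a j)) := fun a c e1 e2 => by
            funext i
            by_cases h : i = j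
            · subst h; simp [χ, e2]
            · rw [Function.update_of_ne h]
              simp only [χ, Function.update_of_ne h, e1]
          have s01 := step 0 1 rfl rfl
          have s12 := step 1 2 rfl rfl
          have s34 := step 3 4 rfl rfl
          have s45 := step 4 5 rfl rfl
          intro i
          fin_cases i
          · exact hw 0
          · exact s01 ▸ hmove _ _ (hw 0)
          · exact s12 ▸ hmove _ _ (s01 ▸ hmove _ _ (hw 0))
          · exact hw 3
          · exact s34 ▸ hmove _ _ (hw 3)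
          · exact s45 ▸ hmove _ _ (s34 ▸ hmove _ _ (hw 3))
      have h2k := two_le_ker_of_cycles (by
        rw [← map_pow, hX, op_pow, show (⟨swap (0 : Fin 4) 1 * swap 1 2, _⟩ :
          ↥(alternatingGroup (Fin 4))) ^ 3 = 1 by decide +kernel, op_one, map_one]) hli
      have hg : (locThree hω).gen 1 = cycGen3 := by show cycGen3 ^ 1 = cycGen3; exact pow_one _
      rw [hX3] at h2k
      rw [hg] at hker
      omega
    · have h5 : (5 : k) ≠ 0 := fun e => hp5 ((Nat.prime_dvd_prime_iff_eq hp.out (by decide)).1
        ((hcast 5).1 (by exact_mod_cast e)))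
      rcases five_dichotomy ρ (by omega) hne h5 (fives (by omega : 11 ≤ r)) with h | ⟨hfx, hdim⟩
      · omega
      have hz : LinearMap.range (ρ (op (fives (by omega : 11 ≤ r)) 1 cycGen5) - 1) = ⊥ := by
        rw [Submodule.eq_bot_iff]
        rintro _ ⟨w, rfl⟩
        exact eq_zero_of_spanning ρ (locFour h2) (consec (Nat.div_mul_le_self r 4)) A hA (by omega) j
          (fun f hf => hall f hf j) fun l => hfx _ (first_block_mem_fixS _ _ (by omega) j hj _) w
      rw [hz, finrank_bot] at hdim
      omega

end CfsgLib.PGroup.AltDeg
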