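import Mathlib
import Cfsg.Agent.Lib.PGroup.AltDeg.LinearBound

/-!
# The least degree of a spin representation of an alternating group

A spin representation is given by one operator for each even permutation, multiplicative up to sign,
with double transpositions squaring to minus one.
-/

set_option autoImplicit false

universe u v

namespace CfsgLib.PGroup.AltDeg

open Equiv Equiv.Perm

variable {r : ℕ} {k : Type u} [Field k] {V : Type v} [AddCommGroup V] [Module k V]

theorem via_pair (ι : Fin 4 ↪ Fin r) (i j l m : Fin 4) :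
    viaEmbeddingHom ι (swap i j * swap l m) = swap (ι i) (ι j) * swap (ι l) (ι m) := by
  refine Perm.ext fun y => ?_
  rw [viaEmbeddingHom_apply]
  by_cases hy : y ∈ Set.range ι
  · obtain ⟨x, rfl⟩ := hy
    rw [viaEmbedding_apply, Perm.mul_apply, Perm.mul_apply, ι.injective.swap_apply, ι.injective.swap_apply]
  · have hne : ∀ z, y ≠ ι z := fun z e => hy ⟨z, e.symm⟩
    rw [viaEmbedding_apply_of_notMem _ _ _ hy, Perm.mul_apply, swap_apply_of_ne_of_ne (hne l) (hne m),
      swap_apply_of_ne_of_ne (hne i) (hne j)]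

/-- The product table of a four group. -/
theorem four_mul {a b c d : Fin r} (h : Function.Injective ![a, b, c, d]) :
    alt2 a b c d * alt2 a c b d = alt2 a d b c ∧ alt2 a c b d * alt2 a b c d = alt2 a d b c := by
  let ι : Fin 4 ↪ Fin r := ⟨_, h⟩
  have key : ∀ i j l m : Fin 4, i ≠ j → l ≠ m →
      (alt2 (ι i) (ι j) (ι l) (ι m) : Perm (Fin r)) = viaEmbeddingHom ι (swap i j * swap l m) :=
    fun i j l m h1 h2 => (coe_alt2 (h.ne h1) (h.ne h2)).trans (via_pair ι i j l m).symm
  have e1 := key 0 1 2 3 (by decide) (by decide)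
  have e2 := key 0 2 1 3 (by decide) (by decide)
  have e3 := key 0 3 1 2 (by decide) (by decide)
  constructor <;> refine Subtype.ext ?_ <;> rw [Subgroup.coe_mul]
  · exact (congrArg₂ (· * ·) e1 e2).trans ((_root_.map_mul _ _ _).symm.trans
      ((congrArg _ (by decide +kernel)).trans e3.symm))
  · exact (congrArg₂ (· * ·) e2 e1).trans ((_root_.map_mul _ _ _).symm.trans
      ((congrArg _ (by decide +kernel)).trans e3.symm))

/-- A spin representation. -/
structure Spin (r : ℕ) (k : Type u) [Field k] (V : Type v) [AddCommGroup V] [Module k V] where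
  L : Alt r → Module.End k V
  map_one : L 1 = 1
  map_mul : ∀ g h, L g * L h = L (g * h) ∨ L g * L h = -L (g * h)
  sq : ∀ a b c d, Function.Injective ![a, b, c, d] →
    L (alt2 a b c d) * L (alt2 a b c d) = -1
  two : (2 : k) ≠ 0

namespace Spin

variable (S : Spin r k V)

theorem sgn (g h : Alt r) : ∃ e : k, e * e = 1 ∧ S.L g * S.L h = e • S.L (g * h) := by
  rcases S.map_mul g h with h1 | h1
  · exact ⟨1, one_mul 1, by rw [h1, one_smul]⟩
  · exact ⟨-1, by ring, by rw [h1, neg_one_smul]⟩

theorem inv_mul (g : Alt r) : ∃ e : k, e * e = 1 ∧ S.L g⁻¹ * S.L g = e • 1 := by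
  obtain ⟨e, he, h⟩ := S.sgn g⁻¹ g
  exact ⟨e, he, by rw [h, inv_mul_cancel, S.map_one]⟩

theorem injective (g : Alt r) : Function.Injective (S.L g) := by
  intro x y h
  obtain ⟨e, he, hg⟩ := S.inv_mul g
  have h1 := congrArg (S.L g⁻¹) h
  rw [← Module.End.mul_apply, ← Module.End.mul_apply, hg, LinearMap.smul_apply, LinearMap.smul_apply,
    Module.End.one_apply, Module.End.one_apply] at h1
  have h2 := congrArg (e • ·) h1
  simpa [smul_smul, he] using h2

theorem eq_zero_of_neg {W : Type*} [AddCommGroup W] [Module k W] {v : W} (h2 : (2 : k) ≠ 0) (h : v = -v) :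
    v = 0 := by
  have : (2 : k) • v = 0 := by rw [two_smul]; nth_rewrite 1 [h]; exact neg_add_cancel v
  exact (smul_eq_zero.1 this).resolve_left h2

theorem comm_or_anti {g h : Alt r} (hgh : g * h = h * g) :
    ∃ e : k, e * e = 1 ∧ S.L g * S.L h = e • (S.L h * S.L g) := by
  obtain ⟨a, ha, h1⟩ := S.sgn g h
  obtain ⟨b, hb, h2⟩ := S.sgn h g
  refine ⟨a * b, by linear_combination b * b * ha + hb, ?_⟩
  rw [h1, h2, hgh, smul_smul, mul_assoc, hb, mul_one]

/-- Elements of odd order commute with whatever their image commutes with. -/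
theorem comm_of_cube {c h : Alt r} (hc : c * c * c = 1) (hch : c * h = h * c) :
    S.L c * S.L h = S.L h * S.L c := by
  obtain ⟨e, he, h1⟩ := S.comm_or_anti hch
  obtain ⟨a, ha, h2⟩ := S.sgn c c
  obtain ⟨b, hb, h3⟩ := S.sgn (c * c) c
  have hcube : S.L c * S.L c * S.L c = (a * b) • 1 := by
    rw [h2, smul_mul_assoc, h3, hc, S.map_one, smul_smul]
  have h4 : S.L c * S.L c * S.L c * S.L h = (e * e * e) • (S.L h * (S.L c * S.L c * S.L c)) := by
    calc S.L c * S.L c * S.L c * S.L h = S.L c * S.L c * (S.L c * S.L h) := by noncomm_ring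
      _ = e • (S.L c * (S.L c * S.L h) * S.L c) := by
          conv_lhs => rw [h1, mul_smul_comm]
          simp only [mul_assoc]
      _ = (e * e) • (S.L c * S.L h * S.L c * S.L c) := by
          conv_lhs => rw [h1, mul_smul_comm, smul_mul_assoc, smul_smul]
          simp only [mul_assoc]
      _ = (e * e * e) • (S.L h * (S.L c * S.L c * S.L c)) := by
          rw [h1, smul_mul_assoc, smul_mul_assoc, smul_smul]; noncomm_ring
  rw [hcube, smul_mul_assoc, one_mul, mul_smul_comm, mul_one, smul_smul, he, one_mul] at h4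
  have hab : (a * b) * (a * b) = 1 := by linear_combination b * b * ha + hb
  have h5 : S.L h = e • S.L h := by
    have := congrArg ((a * b) • ·) h4
    simp only [smul_smul, hab, one_smul] at this
    rw [show a * b * (e * (a * b)) = e by linear_combination e * hab] at this
    exact this
  rw [h1, ← smul_mul_assoc, ← h5]

/-- A pointwise stabilizer commutes with the operators of the permutations of those points. -/
theorem comm_of_fixS {T : Set (Fin r)} {g h : Alt r} (hg : g ∈ fixS T) (hh : h ∈ fixS Tᶜ) :
    S.L g * S.L h = S.L h * S.L g := by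
  let K : Subgroup (Alt r) :=
    { carrier := {x | S.L x * S.L h = S.L h * S.L x}
      one_mem' := by show S.L 1 * S.L h = S.L h * S.L 1; rw [S.map_one, one_mul, mul_one]
      mul_mem' := fun {x y} hx hy => by
        obtain ⟨e, he, h1⟩ := S.sgn x y
        have e1 : S.L (x * y) = e • (S.L x * S.L y) := by rw [h1, smul_smul, he, one_smul]
        show S.L (x * y) * S.L h = S.L h * S.L (x * y)
        rw [e1, smul_mul_assoc, mul_smul_comm, mul_assoc, (hy : _ = _), ← mul_assoc, (hx : _ = _), mul_assoc]
      inv_mem' := fun {x} hx => by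
        obtain ⟨e, he, h1⟩ := S.inv_mul x
        obtain ⟨e', he', h1'⟩ := S.sgn x x⁻¹
        rw [mul_inv_cancel, S.map_one] at h1'
        show S.L x⁻¹ * S.L h = S.L h * S.L x⁻¹
        calc S.L x⁻¹ * S.L h = S.L x⁻¹ * S.L h * (e' • (S.L x * S.L x⁻¹)) := by
              rw [h1', smul_smul, he', one_smul, mul_one]
          _ = e' • (S.L x⁻¹ * (S.L h * S.L x) * S.L x⁻¹) := by rw [mul_smul_comm]; noncomm_ring
          _ = e' • ((S.L x⁻¹ * S.L x) * (S.L h * S.L x⁻¹)) := by rw [← (hx : _ = _)]; noncomm_ring
          _ = S.L h * S.L x⁻¹ := by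
              rw [h1, smul_mul_assoc, one_mul, smul_smul]
              have h7 : e' • S.L x = e • S.L x := by
                have a1 : S.L x * S.L x⁻¹ * S.L x = S.L x * (S.L x⁻¹ * S.L x) := mul_assoc _ _ _
                rwa [h1', h1, smul_mul_assoc, one_mul, mul_smul_comm, mul_one] at a1
              by_cases hV : ∀ v : V, v = 0
              · exact LinearMap.ext fun v => (hV _).trans (hV _).symm
              push Not at hV
              obtain ⟨v, hv⟩ := hV
              have : e' = e := by
                by_contra hne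
                have h8 := LinearMap.congr_fun h7 v
                rw [LinearMap.smul_apply, LinearMap.smul_apply, ← sub_eq_zero, ← sub_smul] at h8
                exact hv (S.injective x (((smul_eq_zero.1 h8).resolve_left (sub_ne_zero.2 hne)).trans
                  (map_zero _).symm))
              rw [this, he, one_smul] }
  refine (fixS_le K fun a b c ha hb hc hab hbc hac => ?_) hg
  refine S.comm_of_cube (Subtype.ext (Perm.ext fun y => ?_)) (fixS_comm hh (cyc_mem_fixS ha hb hc)).symm
  show (cyc a b c : Perm (Fin r)) ((cyc a b c : Perm (Fin r)) ((cyc a b c : Perm (Fin r)) y)) = y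
  by_cases h1 : y = a
  · rw [h1, cyc_fst hab hbc hac, cyc_snd hab hbc hac, cyc_trd hab hbc]
  by_cases h2 : y = b
  · rw [h2, cyc_snd hab hbc hac, cyc_trd hab hbc, cyc_fst hab hbc hac]
  by_cases h3 : y = c
  · rw [h3, cyc_trd hab hbc, cyc_fst hab hbc hac, cyc_snd hab hbc hac]
  rw [cyc_fix h1 h2 h3, cyc_fix h1 h2 h3, cyc_fix h1 h2 h3]

/-- Two double transpositions on the same four points anticommute. -/
theorem anticomm {a b c d : Fin r} (h : Function.Injective ![a, b, c, d]) :
    S.L (alt2 a b c d) * S.L (alt2 a c b d) = -(S.L (alt2 a c b d) * S.L (alt2 a b c d)) := by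
  have hne : ∀ i j : Fin 4, i ≠ j → ![a, b, c, d] i ≠ ![a, b, c, d] j := fun i j hij e => hij (h e)
  have ab : a ≠ b := hne 0 1 (by decide)
  have ac : a ≠ c := hne 0 2 (by decide)
  have ad : a ≠ d := hne 0 3 (by decide)
  have bc : b ≠ c := hne 1 2 (by decide)
  have bd : b ≠ d := hne 1 3 (by decide)
  have cd : c ≠ d := hne 2 3 (by decide)
  obtain ⟨e1, e2⟩ := four_mul h
  obtain ⟨e, he, h1⟩ := S.comm_or_anti (e1.trans e2.symm)
  obtain ⟨f, hf, h2⟩ := S.sgn (alt2 a b c d) (alt2 a c b d)
  rw [e1] at h2
  have hk := S.sq a d b c (inj_four ad ab ac bd.symm cd.symm bc)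
  have hg := S.sq a b c d h
  have hh := S.sq a c b d (inj_four ac ab ad bc.symm cd bd)
  -- the square of the product
  have hp : (S.L (alt2 a b c d) * S.L (alt2 a c b d)) * (S.L (alt2 a b c d) * S.L (alt2 a c b d)) = -1 := by
    rw [h2, smul_mul_smul_comm, hf, one_smul, hk]
  have hq : (S.L (alt2 a b c d) * S.L (alt2 a c b d)) * (S.L (alt2 a c b d) * S.L (alt2 a b c d)) = 1 := by
    rw [mul_assoc, ← mul_assoc (S.L (alt2 a c b d)) (S.L (alt2 a c b d)), hh, neg_one_mul, mul_neg, hg,
      neg_neg]
  conv_lhs at hp => arg 2; rw [h1]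
  rw [mul_smul_comm, hq] at hp
  by_cases hV : ∀ v : V, v = 0
  · exact LinearMap.ext fun v => (hV _).trans (hV _).symm
  push Not at hV
  obtain ⟨v, hv⟩ := hV
  have h6 := LinearMap.congr_fun hp v
  rw [LinearMap.smul_apply, Module.End.one_apply, LinearMap.neg_apply, Module.End.one_apply,
    ← add_eq_zero_iff_eq_neg, ← one_smul k v, smul_smul, mul_one, ← add_smul] at h6
  have he' : e = -1 := eq_neg_of_add_eq_zero_left ((smul_eq_zero.1 h6).resolve_right hv)
  rw [h1, he', neg_one_smul]

/-- Composition with an embedding of fewer points. -/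
noncomputable def restrict {m : ℕ} (hm : m ≤ r) : Spin m k V where
  L g := S.L (⟨viaEmbeddingHom (Fin.castLEEmb hm) g.1, by
    rw [mem_alternatingGroup, viaEmbeddingHom_apply, viaEmbedding, sign_extendDomain]; exact g.2⟩)
  map_one := by
    refine (congrArg S.L (Subtype.ext ?_)).trans S.map_one
    exact _root_.map_one _
  map_mul g h := by
    have e : ∀ (x y : Alt r) (z : Alt r), x * y = z →
        (S.L x * S.L y = S.L z ∨ S.L x * S.L y = -S.L z) := fun x y z hz => hz ▸ S.map_mul x y
    refine e _ _ _ (Subtype.ext ?_)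
    exact (_root_.map_mul _ _ _).symm
  sq a b c d h := by
    have h' : Function.Injective ![Fin.castLEEmb hm a, Fin.castLEEmb hm b, Fin.castLEEmb hm c,
        Fin.castLEEmb hm d] := by
      have : ![Fin.castLEEmb hm a, Fin.castLEEmb hm b, Fin.castLEEmb hm c, Fin.castLEEmb hm d] =
          Fin.castLEEmb hm ∘ ![a, b, c, d] := funext fun i => by fin_cases i <;> rfl
      rw [this]; exact (Fin.castLEEmb hm).injective.comp h
    have hab : a ≠ b := fun e => absurd (h (show ![a, b, c, d] 0 = ![a, b, c, d] 1 from e)) (by decide)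
    have hcd : c ≠ d := fun e => absurd (h (show ![a, b, c, d] 2 = ![a, b, c, d] 3 from e)) (by decide)
    have key : ∀ x : Alt r, x = alt2 (Fin.castLEEmb hm a) (Fin.castLEEmb hm b) (Fin.castLEEmb hm c)
        (Fin.castLEEmb hm d) → S.L x * S.L x = -1 := fun x hx => hx ▸ S.sq _ _ _ _ h'
    refine key _ (Subtype.ext (Perm.ext fun y => ?_))
    rw [coe_alt2 ((Fin.castLEEmb hm).injective.ne hab) ((Fin.castLEEmb hm).injective.ne hcd)]
    show viaEmbeddingHom (Fin.castLEEmb hm) (alt2 a b c d : Perm (Fin m)) y = _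
    rw [coe_alt2 hab hcd, viaEmbeddingHom_apply]
    by_cases hy : y ∈ Set.range (Fin.castLEEmb hm)
    · obtain ⟨x, rfl⟩ := hy
      rw [viaEmbedding_apply, Perm.mul_apply, Perm.mul_apply, (Fin.castLEEmb hm).injective.swap_apply,
        (Fin.castLEEmb hm).injective.swap_apply]
    · have hne : ∀ z, y ≠ Fin.castLEEmb hm z := fun z e => hy ⟨z, e.symm⟩
      rw [viaEmbedding_apply_of_notMem _ _ _ hy, Perm.mul_apply, swap_apply_of_ne_of_ne (hne c) (hne d),
        swap_apply_of_ne_of_ne (hne a) (hne b)]
  two := S.two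

theorem restrict_L {m : ℕ} (hm : m ≤ r) (g : Alt m) :
    ∃ g' : Alt r, g' ∈ fixS {y | m ≤ y.val} ∧ (S.restrict hm).L g = S.L g' := by
  refine ⟨_, ?_, rfl⟩
  intro y hy
  exact viaEmbedding_apply_of_notMem _ _ _ fun ⟨x, hx⟩ => by
    have := congrArg Fin.val hx
    simp at this
    have h1 : m ≤ y.val := hy
    omega

/-- A spin representation on an invariant subspace. -/
noncomputable def sub (W : Submodule k V) (hW : ∀ g, ∀ v ∈ W, S.L g v ∈ W) : Spin r k W where
  L g := (S.L g).restrict (hW g)
  map_one := LinearMap.ext fun v => Subtype.ext (by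
    show S.L 1 (v : V) = (v : V); rw [S.map_one]; rfl)
  map_mul g h := (S.map_mul g h).imp
    (fun e => LinearMap.ext fun v => Subtype.ext (LinearMap.congr_fun e (v : V)))
    (fun e => LinearMap.ext fun v => Subtype.ext (LinearMap.congr_fun e (v : V)))
  sq a b c d h := LinearMap.ext fun v => Subtype.ext (LinearMap.congr_fun (S.sq a b c d h) (v : V))
  two := S.two

/-- The kernel of an operator commuting with a spin representation. -/
theorem invariant_ker {T : Module.End k V} (hT : ∀ g, T * S.L g = S.L g * T) :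
    ∀ g, ∀ v ∈ LinearMap.ker T, S.L g v ∈ LinearMap.ker T := fun g v hv => by
  rw [LinearMap.mem_ker, ← Module.End.mul_apply, hT, Module.End.mul_apply, LinearMap.mem_ker.1 hv, map_zero]

/-- An involution splits an invariant subspace. -/
theorem finrank_split [FiniteDimensional k V] (h2 : (2 : k) ≠ 0) {U : Module.End k V} (hU : U * U = 1)
    (W : Submodule k V) (hW : ∀ v ∈ W, U v ∈ W) :
    Module.finrank k W = Module.finrank k ↥(W ⊓ LinearMap.ker (U - 1)) +
      Module.finrank k ↥(W ⊓ LinearMap.ker (U + 1)) := by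
  have hdisj : Disjoint (W ⊓ LinearMap.ker (U - 1)) (W ⊓ LinearMap.ker (U + 1)) := by
    rw [Submodule.disjoint_def]
    rintro v ⟨-, h1⟩ ⟨-, h3⟩
    simp only [SetLike.mem_coe, LinearMap.mem_ker, LinearMap.sub_apply, LinearMap.add_apply,
      Module.End.one_apply, sub_eq_zero, add_eq_zero_iff_eq_neg] at h1 h3
    exact eq_zero_of_neg h2 (h1.symm.trans h3)
  have hsup : (W ⊓ LinearMap.ker (U - 1)) ⊔ (W ⊓ LinearMap.ker (U + 1)) = W := by
    refine le_antisymm (sup_le inf_le_left inf_le_left) fun v hv => ?_
    have hUU : U (U v) = v := by rw [← Module.End.mul_apply, hU]; rfl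
    have e : v = (2 : k)⁻¹ • (v + U v) + (2 : k)⁻¹ • (v - U v) := by
      rw [← smul_add, show v + U v + (v - U v) = (2 : k) • v by rw [two_smul]; abel, smul_smul,
        inv_mul_cancel₀ h2, one_smul]
    rw [e]
    refine Submodule.add_mem_sup ⟨W.smul_mem _ (W.add_mem hv (hW v hv)), ?_⟩
      ⟨W.smul_mem _ (W.sub_mem hv (hW v hv)), ?_⟩
    · rw [SetLike.mem_coe, LinearMap.mem_ker, map_smul, LinearMap.sub_apply, map_add, hUU, Module.End.one_apply,
        show U v + v - (v + U v) = 0 by abel, smul_zero]
    · rw [SetLike.mem_coe, LinearMap.mem_ker, map_smul, LinearMap.add_apply, map_sub, hUU, Module.End.one_apply,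
        show U v - v + (v - U v) = 0 by abel, smul_zero]
  have h := Submodule.finrank_sup_add_finrank_inf_eq (W ⊓ LinearMap.ker (U - 1)) (W ⊓ LinearMap.ker (U + 1))
  rw [hsup, hdisj.eq_bot, finrank_bot, add_zero] at h
  exact h

end Spin

section Eight

open Spin

/-- The translation of the eight points by a basis vector. -/
def trans8 : Fin 3 → Perm (Fin 8) :=
  ![swap 0 1 * swap 2 3 * swap 4 5 * swap 6 7, swap 0 2 * swap 1 3 * swap 4 6 * swap 5 7,
    swap 0 4 * swap 1 5 * swap 2 6 * swap 3 7]

/-- The same, as an even permutation. -/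
def tr (i : Fin 3) : Alt 8 :=
  ⟨trans8 i, mem_alternatingGroup.2 (by revert i; decide +kernel)⟩

/-- Translation by the first basis vector on the half where the second coordinate vanishes (`false`)
or not (`true`). -/
def half (i j : Fin 3) (b : Bool) : Alt 8 :=
  if i = j then 1
  else
    let f : Fin 8 → Bool := fun x => x.val.testBit j.val
    let q : List (Fin 8) := (List.finRange 8).filter fun x => f x = b && !x.val.testBit i.val
    match q with
    | [x, y] => alt2 x (trans8 i x) y (trans8 i y)
    | _ => 1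

theorem half_shape : ∀ i j : Fin 3, i ≠ j → ∀ b, ∃ x y z w : Fin 8,
    Function.Injective ![x, y, z, w] ∧ half i j b = alt2 x y z w := by decide +kernel

theorem tr_eq : ∀ i j : Fin 3, i ≠ j → tr i = half i j false * half i j true ∧
    tr i = half i j true * half i j false := by decide +kernel

theorem half_supp : ∀ i j : Fin 3, i ≠ j → ∀ x : Fin 8,
    (x.val.testBit j.val = true → (half i j false : Perm (Fin 8)) x = x) ∧
    (x.val.testBit j.val = false → (half i j true : Perm (Fin 8)) x = x) := by decide +kernel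

theorem half_anti : ∀ i j l : Fin 3, i ≠ j → l ≠ j → i ≠ l → ∀ b, ∃ x y z w : Fin 8,
    Function.Injective ![x, y, z, w] ∧
      ((half i j b = alt2 x y z w ∧ half l j b = alt2 x z y w) ∨
        (half l j b = alt2 x y z w ∧ half i j b = alt2 x z y w)) := by decide +kernel

theorem half_conj : ∀ i j : Fin 3, i ≠ j →
    tr j * half i j true = half i j true * (tr j * tr i) := by decide +kernel

/-- The effect of the transvection for `(i, j)` with sign `e` on a vector of signs. -/
def stepS (i j : Fin 3) (e : Bool) (s : Fin 3 → Bool) : Fin 3 → Bool := fun n =>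
  if n = i then s i else if n = j then (s i != s j) != e else !s n

/-- The six transvections. -/
def moves : Fin 6 → Fin 3 × Fin 3 := ![(0, 1), (1, 0), (0, 2), (2, 0), (1, 2), (2, 1)]

/-- Signs from a number below eight. -/
def signs (x : Fin 8) : Fin 3 → Bool := fun n => x.val.testBit n.val

/-- The number of a vector of signs. -/
def number (s : Fin 3 → Bool) : Fin 8 :=
  Fin.ofNat 8 ((s 0).toNat + 2 * (s 1).toNat + 4 * (s 2).toNat)

/-- The vectors reached from one. -/
def grow (e : Fin 6 → Bool) : ℕ → List (Fin 8)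
  | 0 => [0]
  | n + 1 =>
    let A := grow e n
    (A ++ A.flatMap fun x => (List.finRange 6).map fun m =>
      number (stepS (moves m).1 (moves m).2 (e m) (signs x))).eraseDups

theorem number_signs : ∀ s : Fin 3 → Bool, signs (number s) = s := by decide +kernel

theorem grow_full : ∀ a b c d f g : Bool, ∀ x : Fin 8, x ∈ grow ![a, b, c, d, f, g] 5 := by decide +kernel

end Eight

end CfsgLib.PGroup.AltDeg
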