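import Mathlib
import Cfsg.Agent.Lib.PGroup.AltDeg.Spin

/-!
# Spin representations of eight points have degree divisible by eight
-/

set_option autoImplicit false

universe u v

namespace CfsgLib.PGroup.AltDeg

open Equiv Equiv.Perm

variable {k : Type u} [Field k] {V : Type v} [AddCommGroup V] [Module k V] (S : Spin 8 k V)

theorem half_mem {i j : Fin 3} (hij : i ≠ j) (b : Bool) :
    half i j b ∈ fixS {x : Fin 8 | x.val.testBit j.val = !b} := by
  intro x hx
  cases b
  · exact (half_supp i j hij x).1 hx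
  · exact (half_supp i j hij x).2 hx

theorem half_comm {i j l : Fin 3} (hij : i ≠ j) (hlj : l ≠ j) :
    S.L (half i j false) * S.L (half l j true) = S.L (half l j true) * S.L (half i j false) := by
  refine S.comm_of_fixS (T := {x : Fin 8 | x.val.testBit j.val = true}) (half_mem hij false) ?_
  intro x hx
  refine half_mem hlj true x ?_
  simpa using hx

theorem half_sq {i j : Fin 3} (hij : i ≠ j) (b : Bool) : S.L (half i j b) * S.L (half i j b) = -1 := by
  obtain ⟨x, y, z, w, hinj, e⟩ := half_shape i j hij b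
  rw [e]; exact S.sq x y z w hinj

theorem half_anticomm {i j l : Fin 3} (hij : i ≠ j) (hlj : l ≠ j) (hil : i ≠ l) (b : Bool) :
    S.L (half i j b) * S.L (half l j b) = -(S.L (half l j b) * S.L (half i j b)) := by
  obtain ⟨x, y, z, w, hinj, ⟨e1, e2⟩ | ⟨e1, e2⟩⟩ := half_anti i j l hij hlj hil b
  · rw [e1, e2]; exact S.anticomm hinj
  · rw [e1, e2, S.anticomm hinj, neg_neg]

theorem tr_halves {i j : Fin 3} (hij : i ≠ j) :
    ∃ a : k, a * a = 1 ∧ S.L (tr i) = a • (S.L (half i j false) * S.L (half i j true)) := by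
  obtain ⟨a, ha, h⟩ := S.sgn (half i j false) (half i j true)
  exact ⟨a, ha, by rw [(tr_eq i j hij).1, h, smul_smul, ha, one_smul]⟩

theorem tr_sq (i : Fin 3) : S.L (tr i) * S.L (tr i) = 1 := by
  obtain ⟨j, hij⟩ : ∃ j, i ≠ j := ⟨i + 1, by revert i; decide⟩
  obtain ⟨a, ha, h⟩ := tr_halves S hij
  rw [h, smul_mul_smul_comm, ha, one_smul]
  calc S.L (half i j false) * S.L (half i j true) * (S.L (half i j false) * S.L (half i j true))
      = S.L (half i j false) * (S.L (half i j true) * S.L (half i j false)) * S.L (half i j true) := by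
        simp only [mul_assoc]
    _ = (S.L (half i j false) * S.L (half i j false)) * (S.L (half i j true) * S.L (half i j true)) := by
        rw [← half_comm S hij hij]; simp only [mul_assoc]
    _ = 1 := by rw [half_sq S hij, half_sq S hij, neg_mul_neg, one_mul]

theorem tr_comm (i l : Fin 3) : S.L (tr i) * S.L (tr l) = S.L (tr l) * S.L (tr i) := by
  by_cases hil : i = l
  · rw [hil]
  obtain ⟨j, hij, hlj⟩ : ∃ j, i ≠ j ∧ l ≠ j := by
    revert i l; decide
  obtain ⟨a, ha, h⟩ := tr_halves S hij
  obtain ⟨c, hc, h'⟩ := tr_halves S hlj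
  rw [h, h', smul_mul_smul_comm, smul_mul_smul_comm, mul_comm c a]
  congr 1
  have A := S.L (half i j false)
  calc S.L (half i j false) * S.L (half i j true) * (S.L (half l j false) * S.L (half l j true))
      = S.L (half i j false) * (S.L (half i j true) * S.L (half l j false)) * S.L (half l j true) := by
        simp only [mul_assoc]
    _ = (S.L (half i j false) * S.L (half l j false)) * (S.L (half i j true) * S.L (half l j true)) := by
        rw [← half_comm S hlj hij]; simp only [mul_assoc]
    _ = (S.L (half l j false) * S.L (half i j false)) * (S.L (half l j true) * S.L (half i j true)) := by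
        rw [half_anticomm S hij hlj hil, half_anticomm S hij hlj hil, neg_mul_neg]
    _ = S.L (half l j false) * (S.L (half i j false) * S.L (half l j true)) * S.L (half i j true) := by
        simp only [mul_assoc]
    _ = _ := by rw [half_comm S hij hlj]; simp only [mul_assoc]

/-- The operator of a transvection and its effect on signs. -/
theorem move_tr {i j : Fin 3} (hij : i ≠ j) :
    ∃ e : Bool, ∀ s : Fin 3 → Bool, ∀ v,
      (∀ n, S.L (tr n) v = (if s n then (-1 : k) else 1) • v) →
      ∀ n, S.L (tr n) (S.L (half i j true) v) =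
        (if stepS i j e s n then (-1 : k) else 1) • S.L (half i j true) v := by
  obtain ⟨a, ha, h1⟩ := S.sgn (tr j) (half i j true)
  obtain ⟨b, hb, h2⟩ := S.sgn (tr j) (tr i)
  obtain ⟨c, hc, h3⟩ := S.sgn (half i j true) (tr j * tr i)
  have h4 : S.L (tr j) * S.L (half i j true) = (a * b * c) • (S.L (half i j true) * (S.L (tr j) * S.L (tr i))) := by
    rw [h1, half_conj i j hij, h2, mul_smul_comm, h3, smul_smul, smul_smul]
    congr 1
    linear_combination (-(a * c * c)) * hb - a * hc
  obtain ⟨e, he⟩ : ∃ e : Bool, a * b * c = if e then (-1 : k) else 1 := by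
    have : (a * b * c) * (a * b * c) = 1 := by linear_combination b * b * c * c * ha + c * c * hb + hc
    rcases mul_self_eq_one_iff.1 this with h | h
    · exact ⟨false, by simpa using h⟩
    · exact ⟨true, by simpa using h⟩
  refine ⟨e, fun s v hv n => ?_⟩
  by_cases hni : n = i
  · subst hni
    obtain ⟨a', ha', h5⟩ := tr_halves S hij
    have hcomm : S.L (tr n) * S.L (half n j true) = S.L (half n j true) * S.L (tr n) := by
      rw [h5, smul_mul_assoc, mul_smul_comm, ← mul_assoc, half_comm S hij hij]
    rw [← Module.End.mul_apply, hcomm, Module.End.mul_apply, hv, map_smul]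
    simp [stepS]
  by_cases hnj : n = j
  · subst hnj
    rw [← Module.End.mul_apply, h4, LinearMap.smul_apply, Module.End.mul_apply, Module.End.mul_apply, hv i,
      map_smul, hv n, smul_smul, map_smul, smul_smul]
    congr 1
    rw [he, stepS, if_neg hni, if_pos rfl]
    cases e <;> cases s i <;> cases s n <;> simp
  · obtain ⟨a', ha', h5⟩ := tr_halves S (show n ≠ j from hnj)
    have hanti : S.L (tr n) * S.L (half i j true) = -(S.L (half i j true) * S.L (tr n)) := by
      rw [h5, smul_mul_assoc, mul_smul_comm, ← smul_neg]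
      congr 1
      rw [mul_assoc, half_anticomm S hnj hij hni, mul_neg, ← mul_assoc, half_comm S hnj hij, mul_assoc]
    rw [← Module.End.mul_apply, hanti, LinearMap.neg_apply, Module.End.mul_apply, hv, map_smul, ← neg_smul]
    congr 1
    rw [stepS, if_neg hni, if_neg hnj]
    cases s n <;> simp

/-- The joint eigenspace of the translations. -/
def Esp (s : Fin 3 → Bool) : Submodule k V :=
  ((⊤ ⊓ LinearMap.ker (S.L (tr 0) - (if s 0 then (-1 : k) else 1) • 1)) ⊓
    LinearMap.ker (S.L (tr 1) - (if s 1 then (-1 : k) else 1) • 1)) ⊓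
    LinearMap.ker (S.L (tr 2) - (if s 2 then (-1 : k) else 1) • 1)

theorem mem_Esp {s : Fin 3 → Bool} {v : V} :
    v ∈ Esp S s ↔ ∀ n, S.L (tr n) v = (if s n then (-1 : k) else 1) • v := by
  simp only [Esp, Submodule.mem_inf, Submodule.mem_top, true_and, LinearMap.mem_ker, LinearMap.sub_apply,
    LinearMap.smul_apply, Module.End.one_apply, sub_eq_zero]
  constructor
  · rintro ⟨⟨a, b⟩, c⟩ n
    fin_cases n
    exacts [a, b, c]
  · exact fun h => ⟨⟨h 0, h 1⟩, h 2⟩

theorem moves_ne : ∀ m : Fin 6, (moves m).1 ≠ (moves m).2 := by decide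

theorem Esp_dim [FiniteDimensional k V] :
    ∀ s, Module.finrank k (Esp S s) = Module.finrank k (Esp S (signs 0)) := by
  have hmove : ∀ m : Fin 6, ∃ e : Bool, ∀ s, ∀ v ∈ Esp S s,
      S.L (half (moves m).1 (moves m).2 true) v ∈ Esp S (stepS (moves m).1 (moves m).2 e s) := by
    intro m
    obtain ⟨e, he⟩ := move_tr S (show (moves m).1 ≠ (moves m).2 by revert m; decide)
    exact ⟨e, fun s v hv => (mem_Esp S).2 (he s v ((mem_Esp S).1 hv))⟩
  choose e he using hmove
  obtain ⟨d, hd⟩ : ∃ d, d = Module.finrank k (Esp S (signs 0)) := ⟨_, rfl⟩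
  rw [← hd]
  have hle : ∀ m s, Module.finrank k (Esp S s) ≤
      Module.finrank k (Esp S (stepS (moves m).1 (moves m).2 (e m) s)) := fun m s =>
    LinearMap.finrank_le_finrank_of_injective
      (f := (S.L (half (moves m).1 (moves m).2 true)).restrict (he m s)) fun x y h =>
      Subtype.ext (S.injective _ (congrArg Subtype.val h))
  have hinv : ∀ (i j : Fin 3), i ≠ j → ∀ (b : Bool) (s : Fin 3 → Bool),
      stepS i j b (stepS i j b s) = s := by decide +kernel
  have hstep : ∀ m s, Module.finrank k (Esp S (stepS (moves m).1 (moves m).2 (e m) s)) =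
      Module.finrank k (Esp S s) := fun m s => by
    refine le_antisymm ?_ (hle m s)
    have := hle m (stepS (moves m).1 (moves m).2 (e m) s)
    rwa [hinv _ _ (moves_ne m)] at this
  have hgrow : ∀ n, ∀ x ∈ grow e n, Module.finrank k (Esp S (signs x)) = d := by
    intro n
    induction n with
    | zero => intro x hx; rw [grow, List.mem_singleton] at hx; rw [hx, hd]
    | succ n ih =>
      intro x hx
      rw [grow, List.mem_eraseDups, List.mem_append, List.mem_flatMap] at hx
      rcases hx with hx | ⟨y, hy, hx⟩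
      · exact ih x hx
      · obtain ⟨m, -, rfl⟩ := List.mem_map.1 hx
        rw [number_signs, hstep, ih y hy]
  have he6 : e = ![e 0, e 1, e 2, e 3, e 4, e 5] := funext fun m => by fin_cases m <;> rfl
  have hall : ∀ s, Module.finrank k (Esp S s) = d := fun s => by
    have h := grow_full (e 0) (e 1) (e 2) (e 3) (e 4) (e 5) (number s)
    rw [← he6] at h
    have := hgrow 5 _ h
    rwa [number_signs] at this
  exact hall

theorem Esp_mk (a b c : Bool) : Esp S ![a, b, c] =
    ((⊤ ⊓ LinearMap.ker (S.L (tr 0) - (if a then (-1 : k) else 1) • 1)) ⊓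
      LinearMap.ker (S.L (tr 1) - (if b then (-1 : k) else 1) • 1)) ⊓
      LinearMap.ker (S.L (tr 2) - (if c then (-1 : k) else 1) • 1) := by
  rfl

include S in
/-- The degree of a spin representation of eight points is a multiple of eight. -/
theorem eight_dvd [FiniteDimensional k V] : 8 ∣ Module.finrank k V := by
  obtain ⟨d, hd⟩ : ∃ d, d = Module.finrank k (Esp S (signs 0)) := ⟨_, rfl⟩
  have hall : ∀ s, Module.finrank k (Esp S s) = d := fun s => (Esp_dim S s).trans hd.symm
  have hinvW : ∀ (n : Fin 3) (W : Submodule k V), (∀ n, ∀ v ∈ W, S.L (tr n) v ∈ W) → ∀ c : k,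
      ∀ l, ∀ v ∈ W ⊓ LinearMap.ker (S.L (tr n) - c • 1),
        S.L (tr l) v ∈ W ⊓ LinearMap.ker (S.L (tr n) - c • 1) := by
    rintro n W hW c l v ⟨h1, h2⟩
    refine ⟨hW l v h1, ?_⟩
    simp only [SetLike.mem_coe, LinearMap.mem_ker, LinearMap.sub_apply, LinearMap.smul_apply,
      Module.End.one_apply, sub_eq_zero] at h2 ⊢
    rw [← Module.End.mul_apply, tr_comm, Module.End.mul_apply, h2, map_smul]
  have hsplit : ∀ (n : Fin 3) (W : Submodule k V), (∀ n, ∀ v ∈ W, S.L (tr n) v ∈ W) →
      Module.finrank k W = Module.finrank k ↥(W ⊓ LinearMap.ker (S.L (tr n) - (1 : k) • 1)) +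
        Module.finrank k ↥(W ⊓ LinearMap.ker (S.L (tr n) - (-1 : k) • 1)) := fun n W hW => by
    have h := Spin.finrank_split S.two (tr_sq S n) W (hW n)
    rwa [neg_one_smul, sub_neg_eq_add, one_smul]
  have T0 : ∀ n, ∀ v ∈ (⊤ : Submodule k V), S.L (tr n) v ∈ (⊤ : Submodule k V) := fun _ _ _ => trivial
  have T1 := fun c => hinvW 0 ⊤ T0 c
  have T2 := fun c c' => hinvW 1 _ (T1 c) c'
  have hs : ∀ a b c : Bool, Module.finrank k ↥((((⊤ : Submodule k V) ⊓ LinearMap.ker (S.L (tr 0) - (if a then (-1 : k) else 1) • 1)) ⊓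
      LinearMap.ker (S.L (tr 1) - (if b then (-1 : k) else 1) • 1)) ⊓
      LinearMap.ker (S.L (tr 2) - (if c then (-1 : k) else 1) • 1)) = d := fun a b c => by rw [← Esp_mk S a b c]; exact hall _
  refine ⟨d, ?_⟩
  rw [← finrank_top k V, hsplit 0 ⊤ T0, hsplit 1 _ (T1 _), hsplit 1 _ (T1 _), hsplit 2 _ (T2 _ _),
    hsplit 2 _ (T2 _ _), hsplit 2 _ (T2 _ _), hsplit 2 _ (T2 _ _)]
  let F : k → k → k → ℕ := fun a b c => Module.finrank k ↥((((⊤ : Submodule k V) ⊓
    LinearMap.ker (S.L (tr 0) - a • 1)) ⊓ LinearMap.ker (S.L (tr 1) - b • 1)) ⊓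
    LinearMap.ker (S.L (tr 2) - c • 1))
  have h000 : F (1 : k) (1 : k) (1 : k) = d := hs false false false
  have h001 : F (1 : k) (1 : k) (-1 : k) = d := hs false false true
  have h010 : F (1 : k) (-1 : k) (1 : k) = d := hs false true false
  have h011 : F (1 : k) (-1 : k) (-1 : k) = d := hs false true true
  have h100 : F (-1 : k) (1 : k) (1 : k) = d := hs true false false
  have h101 : F (-1 : k) (1 : k) (-1 : k) = d := hs true false true
  have h110 : F (-1 : k) (-1 : k) (1 : k) = d := hs true true false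
  have h111 : F (-1 : k) (-1 : k) (-1 : k) = d := hs true true true
  simp only [F] at h000 h001 h010 h011 h100 h101 h110 h111
  omega

end CfsgLib.PGroup.AltDeg
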