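import Mathlib
import Cfsg.Agent.Lib.PGroup.AltDeg.SpinEight

/-!
# The least degree of a spin representation: conclusion
-/

set_option autoImplicit false

universe u v

namespace CfsgLib.PGroup.AltDeg

open Equiv Equiv.Perm

variable {r : ℕ} {k : Type u} [Field k] {V : Type v} [AddCommGroup V] [Module k V]

namespace Spin

variable (S : Spin r k V)

theorem eight_dvd_of_le [FiniteDimensional k V] (S : Spin r k V) (hr : 8 ≤ r) : 8 ∣ Module.finrank k V :=
  CfsgLib.PGroup.AltDeg.eight_dvd (S.restrict hr)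

/-- Doubling: four further points double the degree. -/
theorem double [IsAlgClosed k] [FiniteDimensional k V] (S : Spin r k V) (hr : 12 ≤ r) (hV : ∃ v : V, v ≠ 0)
    (N : ℕ) (ih : ∀ (W : Submodule k V) (_ : Spin (r - 4) k W), W ≠ ⊥ → N ≤ Module.finrank k W) :
    2 * N ≤ Module.finrank k V := by
  obtain ⟨p, hpd⟩ : ∃ p : Fin 4 → Fin r, ∀ i, (p i).val = r - 4 + i.val :=
    ⟨fun i => ⟨r - 4 + i.val, by omega⟩, fun _ => rfl⟩
  have hp : Function.Injective ![p 0, p 1, p 2, p 3] := by
    intro i j e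
    have h : ∀ i : Fin 4, ![p 0, p 1, p 2, p 3] i = p i := fun i => by fin_cases i <;> rfl
    rw [h, h] at e
    have := congrArg Fin.val e
    rw [hpd, hpd] at this
    exact Fin.ext (by omega)
  obtain ⟨a, ha⟩ : ∃ a, a = alt2 (p 0) (p 1) (p 2) (p 3) := ⟨_, rfl⟩
  obtain ⟨b, hb⟩ : ∃ b, b = alt2 (p 0) (p 2) (p 1) (p 3) := ⟨_, rfl⟩
  have hin : ∀ i : Fin 4, p i ∉ ({y : Fin r | r - 4 ≤ y.val}ᶜ : Set (Fin r)) := fun i h =>
    h (show r - 4 ≤ (p i).val by rw [hpd]; omega)
  have haf : a ∈ fixS ({y : Fin r | r - 4 ≤ y.val}ᶜ) := ha ▸ alt2_mem_fixS (hin 0) (hin 1) (hin 2) (hin 3)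
  have hbf : b ∈ fixS ({y : Fin r | r - 4 ≤ y.val}ᶜ) := hb ▸ alt2_mem_fixS (hin 0) (hin 2) (hin 1) (hin 3)
  obtain ⟨i, hi⟩ := IsAlgClosed.exists_pow_nat_eq (-1 : k) (n := 2) (by omega)
  rw [pow_two] at hi
  let S' := S.restrict (show r - 4 ≤ r by omega)
  have hcomm : ∀ g x, x ∈ fixS ({y : Fin r | r - 4 ≤ y.val}ᶜ) → S.L x * S'.L g = S'.L g * S.L x := by
    intro g x hx
    obtain ⟨g', hg', e⟩ := S.restrict_L (show r - 4 ≤ r by omega) g
    rw [e]
    exact (S.comm_of_fixS hg' hx).symm
  obtain ⟨T₁, hT₁⟩ : ∃ T, T = S.L a - i • 1 := ⟨_, rfl⟩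
  obtain ⟨T₂, hT₂⟩ : ∃ T, T = S.L a + i • 1 := ⟨_, rfl⟩
  have hT1 : ∀ g, T₁ * S'.L g = S'.L g * T₁ := fun g => by
    rw [hT₁, sub_mul, mul_sub, smul_mul_assoc, mul_smul_comm, one_mul, mul_one, hcomm g a haf]
  have hT2 : ∀ g, T₂ * S'.L g = S'.L g * T₂ := fun g => by
    rw [hT₂, add_mul, mul_add, smul_mul_assoc, mul_smul_comm, one_mul, mul_one, hcomm g a haf]
  have haa : ∀ v, S.L a (S.L a v) = -v := fun v => by
    rw [← Module.End.mul_apply, ha, S.sq _ _ _ _ hp]; rfl
  have hab : ∀ v, S.L a (S.L b v) = -(S.L b (S.L a v)) := fun v => by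
    rw [← Module.End.mul_apply, ha, hb, S.anticomm hp]; rfl
  have hmap1 : ∀ v ∈ LinearMap.ker T₁, S.L b v ∈ LinearMap.ker T₂ := fun v hv => by
    rw [hT₁, LinearMap.mem_ker, LinearMap.sub_apply, sub_eq_zero] at hv
    rw [hT₂, LinearMap.mem_ker, LinearMap.add_apply, hab, hv]
    simp
  have hmap2 : ∀ v ∈ LinearMap.ker T₂, S.L b v ∈ LinearMap.ker T₁ := fun v hv => by
    rw [hT₂, LinearMap.mem_ker, LinearMap.add_apply, add_eq_zero_iff_eq_neg] at hv
    rw [hT₁, LinearMap.mem_ker, LinearMap.sub_apply, hab, hv]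
    simp
  have hsum : ∀ v, v ∈ LinearMap.ker T₁ ⊔ LinearMap.ker T₂ := fun v => by
    have e : v = (2 : k)⁻¹ • (v - i • S.L a v) + (2 : k)⁻¹ • (v + i • S.L a v) := by
      rw [← smul_add, show v - i • S.L a v + (v + i • S.L a v) = (2 : k) • v by rw [two_smul]; abel,
        smul_smul, inv_mul_cancel₀ S.two, one_smul]
    rw [e]
    refine Submodule.add_mem_sup (Submodule.smul_mem _ _ ?_) (Submodule.smul_mem _ _ ?_)
    · rw [hT₁, LinearMap.mem_ker, LinearMap.sub_apply, map_sub, map_smul, haa, LinearMap.smul_apply,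
        Module.End.one_apply, smul_sub, smul_smul, hi, smul_neg, neg_one_smul]
      abel
    · rw [hT₂, LinearMap.mem_ker, LinearMap.add_apply, map_add, map_smul, haa, LinearMap.smul_apply,
        Module.End.one_apply, smul_add, smul_smul, hi, smul_neg, neg_one_smul]
      abel
  have hdisj : Disjoint (LinearMap.ker T₁) (LinearMap.ker T₂) := by
    rw [Submodule.disjoint_def]
    intro v h1 h2
    rw [hT₁, LinearMap.mem_ker, LinearMap.sub_apply, sub_eq_zero] at h1
    rw [hT₂, LinearMap.mem_ker, LinearMap.add_apply, h1, LinearMap.smul_apply, Module.End.one_apply,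
      ← add_smul, ← two_mul, smul_eq_zero, mul_eq_zero] at h2
    have hi0 : i ≠ 0 := fun e => by simp [e] at hi
    exact h2.resolve_left fun h => h.elim S.two hi0
  obtain ⟨v, hv⟩ := hV
  have hne : LinearMap.ker T₁ ≠ ⊥ ∧ LinearMap.ker T₂ ≠ ⊥ := by
    constructor
    all_goals intro e
    · have h2 : LinearMap.ker T₂ = ⊥ := (Submodule.eq_bot_iff _).2 fun w hw => by
        have := hmap2 w hw
        rw [e, Submodule.mem_bot] at this
        exact S.injective b (this.trans (map_zero _).symm)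
      have := hsum v
      rw [e, h2, bot_sup_eq, Submodule.mem_bot] at this
      exact hv this
    · have h1 : LinearMap.ker T₁ = ⊥ := (Submodule.eq_bot_iff _).2 fun w hw => by
        have := hmap1 w hw
        rw [e, Submodule.mem_bot] at this
        exact S.injective b (this.trans (map_zero _).symm)
      have := hsum v
      rw [e, h1, bot_sup_eq, Submodule.mem_bot] at this
      exact hv this
  have h1 := ih _ (S'.sub _ (S'.invariant_ker hT1)) hne.1
  have h2 := ih _ (S'.sub _ (S'.invariant_ker hT2)) hne.2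
  have h := Submodule.finrank_sup_add_finrank_inf_eq (LinearMap.ker T₁) (LinearMap.ker T₂)
  rw [hdisj.eq_bot, finrank_bot, add_zero, show LinearMap.ker T₁ ⊔ LinearMap.ker T₂ = ⊤ from
    eq_top_iff.2 fun v _ => hsum v, finrank_top] at h
  omega

/-- Degree eight needs at most ten points. -/
theorem not_eight [IsAlgClosed k] [FiniteDimensional k V] (S : Spin r k V) (hr : 11 ≤ r) :
    Module.finrank k V ≠ 8 := by
  intro hn
  have : Nontrivial V := Module.nontrivial_of_finrank_pos (R := k) (by omega)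
  obtain ⟨q, hq⟩ : ∃ q : Fin 4 → Fin r, ∀ i, (q i).val = 7 + i.val :=
    ⟨fun i => ⟨7 + i.val, by omega⟩, fun _ => rfl⟩
  have hqne : ∀ i j, i ≠ j → q i ≠ q j := fun i j hij e => hij (by
    have := congrArg Fin.val e; rw [hq, hq] at this; exact Fin.ext (by omega))
  let S' := S.restrict (show 8 ≤ r by omega)
  obtain ⟨x, hx⟩ : ∃ x, x = cyc (q 1) (q 2) (q 3) := ⟨_, rfl⟩
  have hxf : x ∈ fixS ({y : Fin r | 8 ≤ y.val}ᶜ) := by
    have : ∀ i : Fin 4, i ≠ 0 → q i ∉ ({y : Fin r | 8 ≤ y.val}ᶜ : Set (Fin r)) := fun i hi h =>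
      h (show 8 ≤ (q i).val by rw [hq]; have := Fin.pos_iff_ne_zero.2 hi; omega)
    exact hx ▸ cyc_mem_fixS (this 1 (by decide)) (this 2 (by decide)) (this 3 (by decide))
  obtain ⟨μ, hμ⟩ := Module.End.exists_eigenvalue (S.L x)
  have hscalar : ∀ v, S.L x v = μ • v := by
    have hT : ∀ g, (S.L x - μ • 1) * S'.L g = S'.L g * (S.L x - μ • 1) := fun g => by
      obtain ⟨g', hg', e⟩ := S.restrict_L (show 8 ≤ r by omega) g
      show (S.L x - μ • 1) * (S.restrict _).L g = (S.restrict _).L g * (S.L x - μ • 1)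
      rw [e, sub_mul, mul_sub, smul_mul_assoc, mul_smul_comm, one_mul, mul_one,
        (S.comm_of_fixS hg' hxf).symm]
    have h8 := CfsgLib.PGroup.AltDeg.eight_dvd (S'.sub _ (S'.invariant_ker hT))
    obtain ⟨v, hv⟩ := hμ.exists_hasEigenvector
    have hpos : 0 < Module.finrank k (LinearMap.ker (S.L x - μ • 1)) := by
      have hmem : v ∈ LinearMap.ker (S.L x - μ • 1) := by
        rw [LinearMap.mem_ker, LinearMap.sub_apply, hv.apply_eq_smul]; simp
      have : Nontrivial (LinearMap.ker (S.L x - μ • 1)) :=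
        ⟨⟨v, hmem⟩, 0, fun e => hv.2 (congrArg Subtype.val e)⟩
      exact Module.finrank_pos
    have hle := Submodule.finrank_le (LinearMap.ker (S.L x - μ • 1))
    have htop : LinearMap.ker (S.L x - μ • 1) = ⊤ :=
      Submodule.eq_top_of_finrank_eq (by have := Nat.le_of_dvd hpos h8; omega)
    intro w
    have : w ∈ LinearMap.ker (S.L x - μ • 1) := htop ▸ Submodule.mem_top
    rwa [LinearMap.mem_ker, LinearMap.sub_apply, sub_eq_zero] at this
  -- every three-cycle acts as a scalar
  have hall : ∀ a b c, a ≠ b → b ≠ c → a ≠ c → ∃ ν : k, ∀ v, S.L (cyc a b c) v = ν • v := by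
    intro a b c hab hbc hac
    obtain ⟨h, h1, h2, h3⟩ := exists_alt_map₃ (r := r) (by omega) (inj_three (hqne 1 2 (by decide))
      (hqne 1 3 (by decide)) (hqne 2 3 (by decide))) (inj_three hab hac hbc)
    have e : h * x = cyc a b c * h := by
      rw [← h1, ← h2, ← h3, ← conj_cyc h _ _ _ (hqne 1 2 (by decide)) (hqne 2 3 (by decide)), ← hx]
      group
    obtain ⟨u, hu, e1⟩ := S.sgn h x
    obtain ⟨w, hw, e2⟩ := S.sgn (cyc a b c) h
    refine ⟨w * u * μ, fun v => ?_⟩
    obtain ⟨z, rfl⟩ := (LinearMap.injective_iff_surjective.1 (S.injective h)) v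
    have h4 : S.L (cyc a b c) * S.L h = (w * u) • (S.L h * S.L x) := by
      rw [e1, e2, ← e, smul_smul, show w * u * u = w by rw [mul_assoc, hu, mul_one]]
    rw [← Module.End.mul_apply, h4, LinearMap.smul_apply, Module.End.mul_apply, hscalar, map_smul, smul_smul]
  -- so does a double transposition, which has an anticommuting partner
  have q01 := hqne 0 1 (by decide)
  have q12 := hqne 1 2 (by decide)
  have q23 := hqne 2 3 (by decide)
  obtain ⟨ν₁, hν₁⟩ := hall (q 0) (q 1) (q 2) q01 q12 (hqne 0 2 (by decide))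
  obtain ⟨ν₂, hν₂⟩ := hall (q 1) (q 2) (q 3) q12 q23 (hqne 1 3 (by decide))
  have e : cyc (q 0) (q 1) (q 2) * cyc (q 1) (q 2) (q 3) = alt2 (q 0) (q 1) (q 2) (q 3) := by
    apply Subtype.ext
    rw [Subgroup.coe_mul, coe_cyc q01 q12, coe_cyc q12 q23, coe_alt2 q01 q23, mul_assoc,
      ← mul_assoc (swap (q 1) (q 2)), swap_mul_self, one_mul]
  obtain ⟨u, hu, e1⟩ := S.sgn (cyc (q 0) (q 1) (q 2)) (cyc (q 1) (q 2) (q 3))
  rw [e] at e1
  have hd : ∀ v, S.L (alt2 (q 0) (q 1) (q 2) (q 3)) v = (u * (ν₁ * ν₂)) • v := fun v => by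
    have h := congrArg (u • ·) e1
    simp only [smul_smul, hu, one_smul] at h
    rw [← h, LinearMap.smul_apply, Module.End.mul_apply, hν₂, map_smul, hν₁, smul_smul, smul_smul]
    ring_nf
  obtain ⟨v, hv⟩ := exists_ne (0 : V)
  have hinj := inj_four q01 (hqne 0 2 (by decide)) (hqne 0 3 (by decide)) q12 (hqne 1 3 (by decide)) q23
  have h := LinearMap.congr_fun (S.anticomm hinj) v
  rw [Module.End.mul_apply, hd, LinearMap.neg_apply, Module.End.mul_apply, hd v, map_smul] at h
  have h0 := eq_zero_of_neg S.two h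
  rcases smul_eq_zero.1 h0 with h1 | h1
  · have h2 := hd v
    rw [h1, zero_smul] at h2
    exact hv (S.injective _ (h2.trans (map_zero _).symm))
  · exact hv (S.injective _ (h1.trans (map_zero _).symm))

/-- Operators of order five. -/
theorem exists_five {g : Alt r} (hg : g ^ 5 = 1) : ∃ e : k, e * e = 1 ∧ (e • S.L g) ^ 5 = 1 := by
  have hpow : ∀ n : ℕ, ∃ e : k, e * e = 1 ∧ S.L g ^ n = e • S.L (g ^ n) := by
    intro n
    induction n with
    | zero => exact ⟨1, one_mul 1, by rw [pow_zero, pow_zero, S.map_one, one_smul]⟩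
    | succ n ih =>
      obtain ⟨e, he, h⟩ := ih
      obtain ⟨f, hf, h'⟩ := S.sgn (g ^ n) g
      exact ⟨e * f, by linear_combination f * f * he + hf, by
        rw [pow_succ, h, smul_mul_assoc, h', smul_smul, ← pow_succ]⟩
  obtain ⟨e, he, h⟩ := hpow 5
  refine ⟨e, he, ?_⟩
  rw [smul_pow, h, hg, S.map_one, smul_smul, show e ^ 5 * e = (e * e) * (e * e) * (e * e) by ring, he, one_mul,
    one_mul, one_smul]

/-- Degree eight on ten points forces characteristic five. -/
theorem not_eight_ten [IsAlgClosed k] [FiniteDimensional k V] (S : Spin r k V) (hr : 10 ≤ r)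
    (h5 : (5 : k) ≠ 0) (hV : ∃ v : V, v ≠ 0) : 16 ≤ Module.finrank k V := by
  have : NeZero ((5 : ℕ) : k) := ⟨by exact_mod_cast h5⟩
  obtain ⟨ω, hω⟩ := HasEnoughRootsOfUnity.exists_primitiveRoot k 5
  let β : Fin 2 × Fin 5 ↪ Fin r := consec (show 2 * 5 ≤ r by omega)
  obtain ⟨y, hy⟩ : ∃ y : Fin 2 → Alt r, ∀ j, y j = op β j cycGen5 := ⟨_, fun _ => rfl⟩
  have hy5 : ∀ j, y j ^ 5 = 1 := fun j => by
    rw [hy, op_pow, show cycGen5 ^ 5 = 1 by decide +kernel, op_one]
  choose e he hY using fun j => S.exists_five (hy5 j)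
  obtain ⟨Y, hYd⟩ : ∃ Y : Fin 2 → Module.End k V, ∀ j, Y j = e j • S.L (y j) := ⟨_, fun _ => rfl⟩
  have hY5 : ∀ j, Y j ^ 5 = 1 := fun j => by rw [hYd]; exact hY j
  have hfix : ∀ j l : Fin 2, j ≠ l → y j ∈ fixS (Set.range fun i => β (l, i)) := fun j l hjl z hz => by
    obtain ⟨i, rfl⟩ := hz
    rw [hy]
    exact op_fix β j _ fun i' h => hjl (Prod.ext_iff.1 (β.injective h)).1
  have hin : ∀ j, y j ∈ fixS (Set.range fun i => β (j, i))ᶜ := fun j z hz => by
    rw [hy]; exact op_fix β j _ fun i h => hz ⟨i, h⟩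
  have hLcomm : ∀ j l, S.L (y j) * S.L (y l) = S.L (y l) * S.L (y j) := fun j l => by
    by_cases h : j = l
    · rw [h]
    · exact S.comm_of_fixS (hfix j l h) (hin l)
  have hcomm : ∀ j l, Y j * Y l = Y l * Y j := fun j l => by
    rw [hYd, hYd, smul_mul_smul_comm, smul_mul_smul_comm, hLcomm, mul_comm]
  have hne1 : ∀ j : Fin 2, y j ≠ 1 := fun j => hy j ▸ op_ne_one β j (i := 0) (by decide +kernel)
  -- a subgroup acting by signs on an invariant subspace
  have signs : ∀ (W : Submodule k V), W ≠ ⊥ → ∀ j : Fin 2,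
      ∀ (hW : ∀ g ∈ fixS (Set.range fun i => β (j, i)), ∀ v ∈ W, S.L g v ∈ W),
      ∀ l, l ≠ j → (∀ v ∈ W, Y l v = v) → False := by
    intro W hW0 j hW l hlj hl
    let K : Subgroup (Alt r) :=
      { carrier := {g | g ∈ fixS (Set.range fun i => β (j, i)) ∧ ∃ u : k, u * u = 1 ∧ ∀ v ∈ W, S.L g v = u • v}
        one_mem' := ⟨one_mem _, 1, one_mul 1, fun v _ => by rw [S.map_one, one_smul]; rfl⟩
        mul_mem' := by
          rintro a b ⟨ha, u, hu, hau⟩ ⟨hb, w, hw, hbw⟩
          obtain ⟨c, hc, h1⟩ := S.sgn a b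
          refine ⟨mul_mem ha hb, c * u * w, by linear_combination u * u * w * w * hc + w * w * hu + hw, fun v hv => ?_⟩
          have h2 := congrArg (c • ·) h1
          simp only [smul_smul, hc, one_smul] at h2
          rw [← h2, LinearMap.smul_apply, Module.End.mul_apply, hbw v hv, map_smul, hau v hv, smul_smul, smul_smul]
          congr 1
          ring
        inv_mem' := by
          rintro a ⟨ha, u, hu, hau⟩
          obtain ⟨c, hc, h1⟩ := S.inv_mul a
          refine ⟨inv_mem ha, c * u, by linear_combination u * u * hc + hu, fun v hv => ?_⟩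
          have h2 := LinearMap.congr_fun h1 v
          rw [Module.End.mul_apply, hau v hv, map_smul, LinearMap.smul_apply, Module.End.one_apply] at h2
          have h3 := congrArg (u • ·) h2
          simp only [smul_smul, hu, one_smul] at h3
          rw [h3, mul_comm] }
    have hyK : y l ∈ K := ⟨hfix l j hlj, e l, he l, fun v hv => by
      have h := congrArg (e l • ·) (hl v hv)
      simp only [hYd, LinearMap.smul_apply, smul_smul, he, one_smul] at h
      exact h⟩
    have hnorm : ∀ h ∈ fixS (Set.range fun i => β (j, i)), ∀ g ∈ K, h * g * h⁻¹ ∈ K := by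
      rintro h hh g ⟨hg, u, hu, hgu⟩
      obtain ⟨c₁, hc₁, e1⟩ := S.sgn h g
      obtain ⟨c₂, hc₂, e2⟩ := S.sgn (h * g) h⁻¹
      obtain ⟨c₃, hc₃, e3⟩ := S.sgn h h⁻¹
      rw [mul_inv_cancel, S.map_one] at e3
      refine ⟨mul_mem (mul_mem hh hg) (inv_mem hh), c₂ * c₁ * u * c₃, by
        linear_combination c₁ * c₁ * u * u * c₃ * c₃ * hc₂ + u * u * c₃ * c₃ * hc₁ + c₃ * c₃ * hu + hc₃,
        fun v hv => ?_⟩
      have h4 : S.L (h * g * h⁻¹) = (c₂ * c₁) • (S.L h * S.L g * S.L h⁻¹) := by
        rw [e1, smul_mul_assoc, e2, smul_smul, smul_smul,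
          show c₂ * c₁ * c₁ * c₂ = 1 by linear_combination c₂ * c₂ * hc₁ + hc₂, one_smul]
      rw [h4, LinearMap.smul_apply, Module.End.mul_apply, Module.End.mul_apply,
        hgu _ (hW _ (inv_mem hh) v hv), map_smul, ← Module.End.mul_apply, e3, LinearMap.smul_apply,
        Module.End.one_apply, smul_smul, smul_smul]
    have hn : ∀ i i' : Fin 5, i ≠ i' → β (l, i) ≠ β (l, i') := fun i i' hh h =>
      hh (Prod.ext_iff.1 (β.injective h)).2
    have hnP : ∀ i, β (l, i) ∉ Set.range fun i => β (j, i) := fun i ⟨i', h⟩ =>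
      hlj (Prod.ext_iff.1 (β.injective h)).1.symm
    have hP : Function.Injective fun i => β (j, i) := fun i i' h => (Prod.ext_iff.1 (β.injective h)).2
    obtain ⟨c, hc⟩ : ∃ c : ↥(alternatingGroup (Fin 5)),
        c = ⟨swap 0 1 * swap 1 2, mem_alternatingGroup.2 (by decide +kernel)⟩ := ⟨_, rfl⟩
    have hcS : op β l c ∈ fixS (Set.range fun i => β (j, i)) := fun z hz => by
      obtain ⟨i, rfl⟩ := hz
      exact op_fix β l c fun i' h => hlj (Prod.ext_iff.1 (β.injective h)).1
    have hK : cyc (β (l, 0)) (β (l, 3)) (β (l, 1)) ∈ K := by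
      have h1 := mul_mem hyK (hnorm _ hcS _ (inv_mem hyK))
      have hinv : ∀ π : ↥(alternatingGroup (Fin 5)), (op β l π)⁻¹ = op β l π⁻¹ := fun π =>
        inv_eq_of_mul_eq_one_right (by rw [← op_mul, mul_inv_cancel, op_one])
      rw [hy, hinv, hinv, ← op_mul, ← op_mul, ← op_mul] at h1
      convert h1 using 1
      subst hc
      refine op_eq_of β l _ _ (fun i => ?_) (fun z hz => ?_)
      · have a := hn 0 3 (by decide)
        have b := hn 3 1 (by decide)
        have c := hn 0 1 (by decide)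
        fin_cases i
        · exact (cyc_fst a b c).trans (congrArg (fun i => β (l, i)) (by decide +kernel))
        · exact (cyc_trd a b).trans (congrArg (fun i => β (l, i)) (by decide +kernel))
        · exact (cyc_fix (hn 2 0 (by decide)) (hn 2 3 (by decide)) (hn 2 1 (by decide))).trans
            (congrArg (fun i => β (l, i)) (by decide +kernel))
        · exact (cyc_snd a b c).trans (congrArg (fun i => β (l, i)) (by decide +kernel))
        · exact (cyc_fix (hn 4 0 (by decide)) (hn 4 3 (by decide)) (hn 4 1 (by decide))).trans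
            (congrArg (fun i => β (l, i)) (by decide +kernel))
      · exact cyc_fix (Ne.symm (hz 0)) (Ne.symm (hz 3)) (Ne.symm (hz 1))
    have hle := fixS_le_of_normalized _ hP (by omega) K hnorm (hnP 0) (hnP 3) (hnP 1) (hn 0 3 (by decide))
      (hn 3 1 (by decide)) (hn 0 1 (by decide)) hK
    obtain ⟨-, u, hu, hd⟩ := hle (alt2_mem_fixS (a := β (l, 0)) (b := β (l, 1)) (c := β (l, 2))
      (d := β (l, 3)) (hnP 0) (hnP 1) (hnP 2) (hnP 3))
    obtain ⟨v, hv, hv0⟩ := Submodule.exists_mem_ne_zero_of_ne_bot hW0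
    have hinj := inj_four (hn 0 1 (by decide)) (hn 0 2 (by decide)) (hn 0 3 (by decide)) (hn 1 2 (by decide))
      (hn 1 3 (by decide)) (hn 2 3 (by decide))
    have h := LinearMap.congr_fun (S.sq _ _ _ _ hinj) v
    rw [Module.End.mul_apply, hd v hv, map_smul, hd v hv, smul_smul, hu, one_smul, LinearMap.neg_apply,
      Module.End.one_apply] at h
    exact hv0 (eq_zero_of_neg S.two h)
  have hj : (0 : Fin 2) ≠ 1 := by decide
  have hprod : (Y 0 - 1) * (Y 1 - 1) ≠ 0 := by
    intro h0
    by_cases hW : LinearMap.range (Y 1 - 1) = ⊥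
    · -- the second cycle acts trivially
      have h1 : ∀ v ∈ (⊤ : Submodule k V), Y 1 v = v := fun v _ => by
        have := LinearMap.range_eq_bot.1 hW
        exact sub_eq_zero.1 (LinearMap.congr_fun this v)
      obtain ⟨v, hv⟩ := hV
      exact signs ⊤ (fun e => hv ((Submodule.mem_bot k).1 (e ▸ Submodule.mem_top))) 0
        (fun _ _ _ _ => Submodule.mem_top) 1 hj.symm h1
    · refine signs _ hW 1 (fun g hg v hv => ?_) 0 hj (fun v hv => ?_)
      · obtain ⟨w, rfl⟩ := hv
        refine ⟨S.L g w, ?_⟩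
        rw [LinearMap.sub_apply, LinearMap.sub_apply, map_sub, Module.End.one_apply, Module.End.one_apply, hYd,
          LinearMap.smul_apply, LinearMap.smul_apply, map_smul, ← Module.End.mul_apply, ← Module.End.mul_apply,
          ← S.comm_of_fixS hg (hin 1)]
      · obtain ⟨w, rfl⟩ := hv
        have := LinearMap.congr_fun h0 w
        exact sub_eq_zero.1 this
  -- a joint weight
  let A := Y 0 - 1
  let B := Y 1 - 1
  have hcA : ∀ j, Y j * (A * B) = A * B * Y j := fun j =>
    ((Commute.sub_right (hcomm j 0) (Commute.one_right _)).mul_right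
      (Commute.sub_right (hcomm j 1) (Commute.one_right _))).eq
  obtain ⟨w, hwW, hw0, hw⟩ := exists_eig Y hcomm (LinearMap.range (A * B))
    (fun h => hprod (LinearMap.range_eq_bot.1 h)) (fun j v hv => by
      obtain ⟨u, rfl⟩ := hv
      exact ⟨Y j u, by rw [← Module.End.mul_apply, ← Module.End.mul_apply, hcA]⟩)
  let Wt : Set (Fin 2 → Fin 5) := {χ | ∃ v : V, v ≠ 0 ∧ ∀ j, Y j v = ω ^ (χ j).val • v}
  have hY' : ∀ j v, Y j (Y j (Y j (Y j (Y j v)))) = v := fun j v => by
    have := LinearMap.congr_fun (hY5 j) v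
    simpa [pow_succ, Module.End.mul_apply] using this
  have hroot : ∀ j, ∃ a : Fin 5, Y j w = ω ^ a.val • w := by
    intro j
    obtain ⟨μ, hμ⟩ := hw j
    have hμ5 : μ ^ 5 = 1 := by
      have h := hY' j w
      simp only [hμ, map_smul, smul_smul] at h
      refine smul_left_injective k hw0 (show μ ^ 5 • w = (1 : k) • w from ?_)
      rw [one_smul]; ring_nf at h ⊢; exact h
    obtain ⟨a, ha, e'⟩ := hω.eq_pow_of_pow_eq_one hμ5
    exact ⟨⟨a, ha⟩, by rw [e']; exact hμ⟩
  choose χ hχ using hroot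
  have hnz : ∀ j, χ j ≠ 0 := by
    intro j h0
    have hfixw : Y j w = w := by rw [hχ, h0]; simp
    obtain ⟨u, hu⟩ := hwW
    apply hw0
    fin_cases j
    · exact eq_zero_of_moved_fixed (u := B u) (by exact_mod_cast h5) (hY5 0) (hu.symm) hfixw
    · refine eq_zero_of_moved_fixed (u := A u) (by exact_mod_cast h5) (hY5 1) ?_ hfixw
      have hAB : A * B = B * A := (Commute.sub_left
        (Commute.sub_right (hcomm 0 1) (Commute.one_right _)) (Commute.one_left _)).eq
      rw [← hu, hAB]; rfl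
  -- moves
  have move : ∀ (σ : Perm (Fin 2)) (m : Fin 2 → (locFive hω).Move) (d : Fin 2 → Fin 5),
      sign σ ^ 5 * ∏ j, sign (m j).f = 1 → (∀ j, (m j).ψ 1 = d j) → ∀ χ ∈ Wt,
      (fun j => d (σ.symm j) * χ (σ.symm j)) ∈ Wt := by
    intro σ m d hs hd χ ⟨v, hv0, hv⟩
    obtain ⟨g, hg⟩ : ∃ g : Alt r, g = up β ⟨wr σ fun j => (m j).f,
      by rw [mem_alternatingGroup, sign_wr]; exact hs⟩ := ⟨_, rfl⟩
    refine ⟨S.L g v, fun h => hv0 (S.injective g (h.trans (map_zero _).symm)), fun j => ?_⟩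
    obtain ⟨i, rfl⟩ : ∃ i, σ i = j := ⟨σ.symm j, σ.apply_symm_apply j⟩
    simp only [Equiv.symm_apply_apply]
    have hgen : ((locFive hω).gen 1) = cycGen5 := pow_one _
    have hconj : y (σ i) * g = g * y i ^ (d i).val := by
      have hc := (m i).conj 1
      rw [hgen] at hc
      have e1 : ((locFive hω).gen ((m i).ψ 1)) = cycGen5 ^ (d i).val := by rw [hd]; rfl
      rw [e1] at hc
      rw [hy, hy, op_pow, hg, op, op, ← _root_.map_mul, ← _root_.map_mul]
      congr 1
      exact Subtype.ext (blk_mul_wr σ _ i hc)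
    have hpow : ∀ n : ℕ, ∃ u : k, u * u = 1 ∧ S.L (y i ^ n) = u • Y i ^ n := by
      intro n
      induction n with
      | zero => exact ⟨1, one_mul 1, by rw [pow_zero, pow_zero, S.map_one, one_smul]⟩
      | succ n ih =>
        obtain ⟨u, hu, h⟩ := ih
        obtain ⟨c, hc, h'⟩ := S.sgn (y i ^ n) (y i)
        refine ⟨c * u * e i, by linear_combination u * u * e i * e i * hc + e i * e i * hu + he i, ?_⟩
        have h2 := congrArg (c • ·) h'
        simp only [smul_smul, hc, one_smul] at h2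
        rw [pow_succ, ← h2, h, pow_succ, hYd, mul_smul_comm, smul_mul_assoc, smul_smul, smul_smul]
        congr 1
        linear_combination -(c * u) * he i
    obtain ⟨u, hu, hpi⟩ := hpow (d i).val
    obtain ⟨c₁, hc₁, e1⟩ := S.sgn (y (σ i)) g
    obtain ⟨c₂, hc₂, e2⟩ := S.sgn g (y i ^ (d i).val)
    obtain ⟨s, hs2, hYg⟩ : ∃ s : k, s * s = 1 ∧ Y (σ i) * S.L g = s • (S.L g * Y i ^ (d i).val) := by
      refine ⟨e (σ i) * c₁ * c₂ * u, by
        linear_combination c₁ * c₁ * c₂ * c₂ * u * u * he (σ i) + c₂ * c₂ * u * u * hc₁ + u * u * hc₂ + hu, ?_⟩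
      rw [hYd, smul_mul_assoc, e1, hconj, smul_smul]
      have h3 := congrArg (c₂ • ·) e2
      simp only [smul_smul, hc₂, one_smul] at h3
      rw [← h3, hpi, mul_smul_comm, smul_smul, smul_smul]
    have hval : (Y i ^ (d i).val) v = ω ^ (d i * χ i).val • v := by
      have : ∀ n : ℕ, (Y i ^ n) v = ω ^ ((χ i).val * n) • v := by
        intro n
        induction n with
        | zero => simp
        | succ n ih =>
          rw [pow_succ', Module.End.mul_apply, ih, map_smul, hv, smul_smul, ← pow_add]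
          congr 2
      rw [this, pow_eq_pow_mod _ hω.pow_eq_one]
      congr 2
      rw [Fin.val_mul, mul_comm]
    have hg1 : Y (σ i) (S.L g v) = (s * ω ^ (d i * χ i).val) • S.L g v := by
      rw [← Module.End.mul_apply, hYg, LinearMap.smul_apply, Module.End.mul_apply, hval, map_smul, smul_smul]
    have hs1 : s = 1 := by
      have h := hY' (σ i) (S.L g v)
      simp only [hg1, map_smul, smul_smul] at h
      have hL : S.L g v ≠ 0 := fun h' => hv0 (S.injective g (h'.trans (map_zero _).symm))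
      obtain ⟨z, hz⟩ : ∃ z, z = ω ^ (d i * χ i).val := ⟨_, rfl⟩
      have hz5 : z ^ 5 = 1 := by rw [hz, ← pow_mul, mul_comm, pow_mul, hω.pow_eq_one, one_pow]
      rw [← hz] at h
      have h5' : (s * z) * (s * z) * (s * z) * (s * z) * (s * z) = 1 :=
        smul_left_injective k hL (show _ • S.L g v = (1 : k) • S.L g v by
          rw [one_smul]; convert h using 2)
      linear_combination h5' - s * (s * s) * (s * s) * hz5 - s * (s * s + 1) * hs2
    rw [hg1, hs1, one_mul]
  let mv := fiveMove hω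
  let mv' := fiveMove' hω
  have s1 : sign mv.f = -1 := by
    show sign (swap (1 : Fin 5) 2 * swap 2 4 * swap 4 3) = -1
    decide +kernel
  have s2 : sign mv'.f = -1 := by
    show sign (swap (3 : Fin 5) 4 * swap 4 2 * swap 2 1) = -1
    decide +kernel
  have step : ∀ χ ∈ Wt, ![3 * χ 0, 3 * χ 1] ∈ Wt ∧ ![3 * χ 0, 2 * χ 1] ∈ Wt ∧ ![χ 1, 3 * χ 0] ∈ Wt := by
    intro χ hχ
    refine ⟨?_, ?_, ?_⟩
    · have h := move (Equiv.refl _) ![mv, mv] ![3, 3] (by simp [Fin.prod_univ_two, s1])
        (fun j => by fin_cases j <;> rfl) χ hχ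
      convert h using 1
      funext j; fin_cases j <;> rfl
    · have h := move (Equiv.refl _) ![mv, mv'] ![3, 2] (by simp [Fin.prod_univ_two, s1, s2])
        (fun j => by fin_cases j <;> rfl) χ hχ
      convert h using 1
      funext j; fin_cases j <;> rfl
    · have h := move (swap 0 1) ![mv, idMove (locFive hω)] ![3, 1]
        (by simp [Fin.prod_univ_two, s1, idMove, sign_swap hj, pow_succ] )
        (fun j => by fin_cases j <;> rfl) χ hχ
      convert h using 1
      funext j; fin_cases j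
      · show χ 1 = 1 * χ 1
        rw [one_mul]
      · rfl
  have pows : ∀ i : ℕ, ∀ χ ∈ Wt, ![3 ^ i * χ 0, 3 ^ i * χ 1] ∈ Wt := by
    intro i
    induction i with
    | zero => intro χ hχ; convert hχ using 1; funext j; fin_cases j <;> simp
    | succ i ih =>
      intro χ hχ
      convert (step _ (ih χ hχ)).1 using 1
      funext j; fin_cases j <;> simp [pow_succ', mul_assoc]
  have pows2 : ∀ i : ℕ, ∀ χ ∈ Wt, ![3 ^ i * χ 0, 2 ^ i * χ 1] ∈ Wt := by
    intro i
    induction i with
    | zero => intro χ hχ; convert hχ using 1; funext j; fin_cases j <;> simp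
    | succ i ih =>
      intro χ hχ
      convert (step _ (ih χ hχ)).2.1 using 1
      funext j; fin_cases j <;> simp [pow_succ', mul_assoc]
  have key : ∀ a c a' c' : Fin 5, a ≠ 0 → c ≠ 0 → a' ≠ 0 → c' ≠ 0 →
      ∃ i : Fin 4, ∃ l : Fin 2,
        (3 ^ l.val * (3 ^ i.val * a) = a' ∧ 2 ^ l.val * (3 ^ i.val * c) = c') ∨
        (3 ^ l.val * (3 ^ i.val * c) = a' ∧ 2 ^ l.val * (3 ^ i.val * (3 * a)) = c') := by
    decide +kernel
  have hχW : χ ∈ Wt := ⟨w, hw0, hχ⟩
  let P := Fintype.piFinset (fun _ : Fin 2 => Finset.univ.erase (0 : Fin 5))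
  have hall : ∀ f : P, ∃ v : V, v ≠ 0 ∧ ∀ j, Y j v = ω ^ (f.1 j).val • v := by
    rintro ⟨f, hf⟩
    show f ∈ Wt
    have hf' := fun j => Finset.ne_of_mem_erase (Fintype.mem_piFinset.1 hf j)
    obtain ⟨i, l, ⟨e0, e1⟩ | ⟨e0, e1⟩⟩ := key (χ 0) (χ 1) (f 0) (f 1) (hnz 0) (hnz 1) (hf' 0) (hf' 1)
    · convert pows2 l.val _ (pows i.val χ hχW) using 1
      funext j; fin_cases j
      exacts [e0.symm, e1.symm]
    · convert pows2 l.val _ (pows i.val _ (step χ hχW).2.2) using 1
      funext j; fin_cases j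
      exacts [e0.symm, e1.symm]
  choose vec hvec0 hvec using hall
  have hli : LinearIndependent k vec := eig_independent Y (fun f j => ω ^ (f.1 j).val)
    (fun f f' h => Subtype.ext (funext fun j =>
      Fin.ext (hω.pow_inj (f.1 j).2 (f'.1 j).2 (congrFun h j)))) vec hvec0 hvec
  have := hli.fintype_card_le_finrank
  rw [Fintype.card_coe, Fintype.card_piFinset] at this
  simpa using this

/-- The lower bound for spin representations. -/
theorem bound [IsAlgClosed k] [FiniteDimensional k V] (S : Spin r k V) (p : ℕ) [hp : Fact p.Prime]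
    [CharP k p] (hr : 9 ≤ r) (hV : ∃ v : V, v ≠ 0) :
    r - 1 - (if p ∣ r then 1 else 0) ≤ Module.finrank k V := by
  suffices H : ∀ n, ∀ (W : Submodule k V), Spin n k W → W ≠ ⊥ → 8 ≤ n →
      8 ≤ Module.finrank k W ∧ (12 ≤ n → n - 1 ≤ Module.finrank k W ∧ 16 ≤ Module.finrank k W) by
    have : Nontrivial V := let ⟨v, hv⟩ := hV; ⟨v, 0, hv⟩
    obtain ⟨h8, h12⟩ := H r ⊤ (S.sub ⊤ fun _ _ _ => Submodule.mem_top) top_ne_bot (by omega)
    rw [finrank_top] at h8 h12
    by_cases h : 12 ≤ r
    · have := (h12 h).1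
      omega
    have hdvd := eight_dvd_of_le S (show 8 ≤ r by omega)
    by_cases h9 : r = 9
    · omega
    by_cases h10 : r = 10
    · by_cases h5 : p = 5
      · subst h5 h10; norm_num; exact h8
      · have h5k : (5 : k) ≠ 0 := fun e => h5 ((Nat.prime_dvd_prime_iff_eq hp.out (by decide)).1
          ((CharP.cast_eq_zero_iff k p 5).1 (by exact_mod_cast e)))
        have := not_eight_ten S (by omega) h5k hV
        omega
    · have := not_eight S (show 11 ≤ r by omega)
      omega
  intro n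
  induction n using Nat.strong_induction_on with
  | _ n ih =>
    intro W S hW hn
    have hpos : 0 < Module.finrank k W := by
      have : Nontrivial W := Submodule.nontrivial_iff_ne_bot.2 hW
      exact Module.finrank_pos
    refine ⟨Nat.le_of_dvd hpos (eight_dvd_of_le S hn), fun h12 => ?_⟩
    have hex : ∃ v : W, v ≠ 0 := by
      obtain ⟨v, hv, hv0⟩ := Submodule.exists_mem_ne_zero_of_ne_bot hW
      exact ⟨⟨v, hv⟩, fun e => hv0 (congrArg Subtype.val e)⟩
    have sub' : ∀ (U : Submodule k W) (_ : Spin (n - 4) k U), U ≠ ⊥ → 8 ≤ Module.finrank k U ∧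
        (12 ≤ n - 4 → n - 4 - 1 ≤ Module.finrank k U ∧ 16 ≤ Module.finrank k U) := by
      intro U T hU
      let e := U.equivMapOfInjective W.subtype W.subtype_injective
      have T' : Spin (n - 4) k ↥(U.map W.subtype) :=
        { L := fun g => e.toLinearMap ∘ₗ T.L g ∘ₗ e.symm.toLinearMap
          map_one := LinearMap.ext fun v => by simp [T.map_one]
          map_mul := fun g h => (T.map_mul g h).imp
            (fun he => LinearMap.ext fun v => by
              simp [Module.End.mul_apply, ← LinearMap.congr_fun he (e.symm v)])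
            (fun he => LinearMap.ext fun v => by
              have := LinearMap.congr_fun he (e.symm v)
              simp [Module.End.mul_apply] at this ⊢
              rw [this, map_neg])
          sq := fun a b c d h => LinearMap.ext fun v => by
            have := LinearMap.congr_fun (T.sq a b c d h) (e.symm v)
            simp [Module.End.mul_apply] at this ⊢
            simp [this]
          two := T.two }
      have hne : U.map W.subtype ≠ ⊥ := fun h =>
        hU (Submodule.map_injective_of_injective W.subtype_injective (by rw [h, Submodule.map_bot]))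
      have := ih (n - 4) (by omega) _ T' hne (by omega)
      rwa [← e.finrank_eq] at this
    by_cases h16 : 16 ≤ n
    · have := S.double h12 hex (max (n - 5) 8) fun U T hU => by
        obtain ⟨a, b⟩ := sub' U T hU
        have := b (by omega)
        omega
      omega
    · have := S.double h12 hex 8 fun U T hU => (sub' U T hU).1
      omega

end Spin

end CfsgLib.PGroup.AltDeg
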