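import Mathlib
import Cfsg.Agent.Lib.PGroup.AltDeg.SpinBound
import Cfsg.Agent.Lib.Char.AltMultiplier.Lifts

/-!
# Spin representations from central extensions
-/

set_option autoImplicit false
set_option maxRecDepth 4000

universe u v w

namespace CfsgLib.PGroup.AltDeg

open Equiv Equiv.Perm
open CfsgLib.Char.AltPres (gen pt)

variable {r : ℕ} {Γ : Type w} [Group Γ]

/-- In a perfect extension with nontrivial central kernel the lifts of double transpositions are not
involutions. -/
theorem lift_sq_ne_one [Finite Γ] (π : Γ →* Alt r) (hr : 9 ≤ r) (hsurj : Function.Surjective π)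
    (hc : π.ker ≤ Subgroup.center Γ) (hd : π.ker ≤ commutator Γ) (hbot : π.ker ≠ ⊥)
    (hz : ∀ z ∈ π.ker, z * z = 1) {a b c d : Fin r} (hinj : Function.Injective ![a, b, c, d]) {s : Γ}
    (hs : π s = alt2 a b c d) : s * s ≠ 1 := by
  intro hs1
  -- all lifts of double transpositions are then involutions
  have key : ∀ (a' b' c' d' : Fin r), Function.Injective ![a', b', c', d'] →
      ∀ u, π u = alt2 a' b' c' d' → u * u = 1 := by
    intro a' b' c' d' hinj' u hu
    obtain ⟨g, hg⟩ := exists_alt_map ![a, b, c, d] ![a', b', c', d'] hinj hinj' (by omega)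
    obtain ⟨h, rfl⟩ := hsurj g
    have hab : a ≠ b := fun e => absurd (hinj (show ![a, b, c, d] 0 = ![a, b, c, d] 1 from e)) (by decide)
    have hcd : c ≠ d := fun e => absurd (hinj (show ![a, b, c, d] 2 = ![a, b, c, d] 3 from e)) (by decide)
    have e : π (h * s * h⁻¹) = π u := by
      have g0 : (π h : Perm (Fin r)) a = a' := hg 0
      have g1 : (π h : Perm (Fin r)) b = b' := hg 1
      have g2 : (π h : Perm (Fin r)) c = c' := hg 2
      have g3 : (π h : Perm (Fin r)) d = d' := hg 3
      rw [map_mul, map_mul, map_inv, hs, hu, conj_alt2 _ _ _ _ _ hab hcd, g0, g1, g2, g3]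
    obtain ⟨z, hzk, he⟩ := CfsgLib.Char.AltMultiplier.eq_mul_of_map_eq e.symm
    rw [he]
    calc h * s * h⁻¹ * z * (h * s * h⁻¹ * z) = h * s * h⁻¹ * (z * (h * s * h⁻¹)) * z := by group
      _ = h * (s * s) * h⁻¹ * (z * z) := by rw [CfsgLib.Char.AltMultiplier.comm_ker hc hzk]; group
      _ = 1 := by rw [hs1, hz z hzk, mul_one, mul_one, mul_inv_cancel]
  -- commuting lifts
  have comm : ∀ u v : Γ, u * u = 1 → v * v = 1 → u * v * (u * v) = 1 → u * v = v * u := by
    intro u v h1 h2 h3
    calc u * v = u * (u * v * (u * v)) * v := by rw [h3, mul_one]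
      _ = (u * u) * (v * u) * (v * v) := by group
      _ = v * u := by rw [h1, h2, one_mul, mul_one]
  haveI : NeZero r := ⟨by omega⟩
  obtain ⟨m, hm⟩ : ∃ m, m = r - 2 := ⟨_, rfl⟩
  let x : ℕ → Alt r := fun i => if h : i < m then ⟨gen r i, CfsgLib.Char.AltPres.gen_mem_alt (by omega)⟩ else 1
  have hxv : ∀ i, i < m → (x i : Perm (Fin r)) = gen r i := fun i hi => by simp [x, hi]
  have hrel : CfsgLib.Char.AltPres.Rel x m := by
    have h := CfsgLib.Char.AltPres.gen_rel (n := r) (m := m) (by omega)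
    refine ⟨fun h0 => Subtype.ext ?_, fun i h1 h2 => Subtype.ext ?_, fun i hi => Subtype.ext ?_,
      fun i j hij hj => Subtype.ext ?_⟩
    · simp [hxv 0 h0, h.cube h0]
    · simp [hxv i h2, h.sq i h1 h2]
    · simp [hxv i (by omega), hxv (i + 1) hi, h.braid i hi]
    · simp [hxv i (by omega), hxv j hj, h.far i j hij hj]
  have hgen : Subgroup.closure (x '' Set.Iio m) = ⊤ := by
    rw [eq_top_iff]
    intro g _
    have h := CfsgLib.Char.AltPres.mem_closure_gen (n := r) m (by omega) (by omega) g.1 g.2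
      (fun l hl => absurd l.2 (by omega))
    have himg : gen r '' Set.Iio m = (alternatingGroup (Fin r)).subtype '' (x '' Set.Iio m) := by
      rw [Set.image_image]
      exact Set.image_congr fun i hi => (hxv i hi).symm
    rw [himg, ← MonoidHom.map_closure] at h
    obtain ⟨g', hg', e'⟩ := h
    rwa [← Subtype.ext e']
  have hcard : 2 * Nat.card (Alt r) = (m + 2).factorial := by
    haveI : Nontrivial (Fin r) := Fin.nontrivial_iff_two_le.2 (by omega)
    rw [two_mul_nat_card_alternatingGroup, Nat.card_perm, Nat.card_fin, show m + 2 = r by omega]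
  -- the points
  obtain ⟨q, hq⟩ : ∃ q : Fin 6 ↪ Fin r, ∀ i, q i = pt r i.val := by
    refine ⟨⟨fun i => pt r i.val, fun i j e => ?_⟩, fun _ => rfl⟩
    have e' := congrArg Fin.val e
    simp only [pt, Nat.mod_eq_of_lt (show i.val < r by omega), Nat.mod_eq_of_lt (show j.val < r by omega)] at e'
    exact Fin.ext e'
  have qn : ∀ i j, i ≠ j → q i ≠ q j := fun i j h => q.injective.ne h
  have ev : ∀ i, q i = pt r i.val := hq
  have e1 : x 1 = alt2 (q 0) (q 1) (q 2) (q 3) := Subtype.ext (by
    rw [hxv 1 (by omega), coe_alt2 (qn 0 1 (by decide)) (qn 2 3 (by decide)), ev, ev, ev, ev, gen,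
      if_neg (by omega)]; rfl)
  have e0 : x 0 = cyc (q 0) (q 1) (q 2) := Subtype.ext (by
    rw [hxv 0 (by omega), coe_cyc (qn 0 1 (by decide)) (qn 1 2 (by decide)), ev, ev, ev, gen, if_pos rfl]; rfl)
  have e3 : x 3 = alt2 (q 0) (q 1) (q 4) (q 5) := Subtype.ext (by
    rw [hxv 3 (by omega), coe_alt2 (qn 0 1 (by decide)) (qn 4 5 (by decide)), ev, ev, ev, ev, gen,
      if_neg (by omega)]; rfl)
  have i4 : ∀ a b c d : Fin 6, Function.Injective ![a, b, c, d] →
      Function.Injective ![q a, q b, q c, q d] := fun a b c d h => by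
    have : ![q a, q b, q c, q d] = q ∘ ![a, b, c, d] := funext fun i => by fin_cases i <;> rfl
    rw [this]; exact q.injective.comp h
  have hconj : x 0 * x 1 * (x 0)⁻¹ = alt2 (q 1) (q 2) (q 0) (q 3) := by
    rw [e0, e1, conj_alt2 _ _ _ _ _ (qn 0 1 (by decide)) (qn 2 3 (by decide)),
      cyc_fst (qn 0 1 (by decide)) (qn 1 2 (by decide)) (qn 0 2 (by decide)),
      cyc_snd (qn 0 1 (by decide)) (qn 1 2 (by decide)) (qn 0 2 (by decide)),
      cyc_trd (qn 0 1 (by decide)) (qn 1 2 (by decide)),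
      cyc_fix (qn 3 0 (by decide)) (qn 3 1 (by decide)) (qn 3 2 (by decide))]
  let ι : Fin 4 ↪ Fin r := (Fin.castLEEmb (show 4 ≤ 6 by omega)).trans q
  have hvia : ∀ i j l n : Fin 4, i ≠ j → l ≠ n →
      (alt2 (ι i) (ι j) (ι l) (ι n) : Perm (Fin r)) = viaEmbeddingHom ι (swap i j * swap l n) :=
    fun i j l n h1 h2 => (coe_alt2 (ι.injective.ne h1) (ι.injective.ne h2)).trans (via_pair ι i j l n).symm
  have hprod : x 1 * (x 0 * x 1 * (x 0)⁻¹) = alt2 (q 0) (q 2) (q 1) (q 3) := by
    rw [hconj, e1]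
    apply Subtype.ext
    rw [Subgroup.coe_mul]
    exact (congrArg₂ (· * ·) (hvia 0 1 2 3 (by decide) (by decide)) (hvia 1 2 0 3 (by decide) (by decide))).trans
      ((map_mul _ _ _).symm.trans ((congrArg _ (by decide +kernel)).trans
        (hvia 0 2 1 3 (by decide) (by decide)).symm))
  have hprod3 : x 1 * x 3 = alt2 (q 2) (q 3) (q 4) (q 5) := by
    rw [e1, e3]
    apply Subtype.ext
    rw [Subgroup.coe_mul, coe_alt2 (qn 0 1 (by decide)) (qn 2 3 (by decide)),
      coe_alt2 (qn 0 1 (by decide)) (qn 4 5 (by decide)), coe_alt2 (qn 2 3 (by decide)) (qn 4 5 (by decide))]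
    have hd : Commute (swap (q 0) (q 1)) (swap (q 2) (q 3)) := by
      refine Perm.Disjoint.commute fun y => ?_
      by_cases h0 : y = q 0
      · exact Or.inr (by rw [h0, swap_apply_of_ne_of_ne (qn 0 2 (by decide)) (qn 0 3 (by decide))])
      by_cases h1 : y = q 1
      · exact Or.inr (by rw [h1, swap_apply_of_ne_of_ne (qn 1 2 (by decide)) (qn 1 3 (by decide))])
      exact Or.inl (swap_apply_of_ne_of_ne h0 h1)
    rw [hd.eq, mul_assoc, ← mul_assoc (swap (q 0) (q 1)), swap_mul_self, one_mul]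
  refine hbot (CfsgLib.Char.AltMultiplier.ker_eq_bot_of_commuting hc hd hsurj hrel hgen hcard
    (by omega) ?_ (fun _ => ?_))
  · intro u v hu hv
    refine comm u v (key _ _ _ _ (i4 0 1 2 3 (by decide)) u (hu.trans e1))
      (key _ _ _ _ (i4 1 2 0 3 (by decide)) v (hv.trans hconj))
      (key _ _ _ _ (i4 0 2 1 3 (by decide)) (u * v) (by rw [map_mul, hu, hv, hprod]))
  · intro u v hu hv
    refine comm u v (key _ _ _ _ (i4 0 1 2 3 (by decide)) u (hu.trans e1))
      (key _ _ _ _ (i4 0 1 4 5 (by decide)) v (hv.trans e3))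
      (key _ _ _ _ (i4 2 3 4 5 (by decide)) (u * v) (by rw [map_mul, hu, hv, hprod3]))

variable {k : Type u} [Field k] {V : Type v} [AddCommGroup V] [Module k V]

/-- A faithful representation with central kernel of order two, acting as minus one, is a spin
representation. -/
theorem exists_spin [Finite Γ] (π : Γ →* Alt r) (hr : 9 ≤ r) (hsurj : Function.Surjective π)
    (hc : π.ker ≤ Subgroup.center Γ) (hd : π.ker ≤ commutator Γ) (hbot : π.ker ≠ ⊥)
    (ρ : Representation k Γ V) (hneg : ∀ z ∈ π.ker, z = 1 ∨ ρ z = -1)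
    (hz : ∀ z ∈ π.ker, z * z = 1) (h2 : (2 : k) ≠ 0) : Nonempty (Spin r k V) := by
  classical
  let sec : Alt r → Γ := fun g => if g = 1 then 1 else (hsurj g).choose
  have hsec : ∀ g, π (sec g) = g := fun g => by
    by_cases h : g = 1
    · simp [sec, h]
    · simp only [sec, if_neg h]; exact (hsurj g).choose_spec
  refine ⟨{ L := fun g => ρ (sec g), map_one := ?_, map_mul := fun g h => ?_, sq := fun a b c d hinj => ?_,
            two := h2 }⟩
  · simp [sec]
  · obtain ⟨z, hzk, e⟩ := CfsgLib.Char.AltMultiplier.eq_mul_of_map_eq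
      (show π (sec g * sec h) = π (sec (g * h)) by rw [map_mul, hsec, hsec, hsec])
    rw [← map_mul, e, map_mul]
    rcases hneg z hzk with rfl | h'
    · left; rw [map_one, mul_one]
    · right; rw [h', mul_neg_one]
  · rw [← map_mul]
    have hne := lift_sq_ne_one π hr hsurj hc hd hbot hz hinj (hsec _)
    have hk : sec (alt2 a b c d) * sec (alt2 a b c d) ∈ π.ker := by
      rw [MonoidHom.mem_ker, map_mul, hsec]
      have hab : a ≠ b := fun e => absurd (hinj (show ![a, b, c, d] 0 = ![a, b, c, d] 1 from e)) (by decide)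
      have hcd : c ≠ d := fun e => absurd (hinj (show ![a, b, c, d] 2 = ![a, b, c, d] 3 from e)) (by decide)
      let ι : Fin 4 ↪ Fin r := ⟨_, hinj⟩
      have e := (coe_alt2 hab hcd).trans (via_pair ι 0 1 2 3).symm
      apply Subtype.ext
      rw [Subgroup.coe_mul, OneMemClass.coe_one, e, ← map_mul, ← map_one (viaEmbeddingHom ι)]
      exact congrArg _ (by decide +kernel)
    exact (hneg _ hk).resolve_left hne

end CfsgLib.PGroup.AltDeg
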