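import Mathlib
import Cfsg.Agent.Lib.PGroup.AltDeg.Cover
import Cfsg.Agent.Lib.Char.AltMultiplier.Bound

/-!
# The least degree of a linear group with an alternating section
-/

set_option autoImplicit false

universe u v w

namespace CfsgLib.PGroup.AltDeg

open Equiv Equiv.Perm

/-- The bound for the groups and modules of a fixed universe. -/
def SmallBound (r m : ℕ) : Prop :=
  ∀ (ℓ : ℕ) [Fact ℓ.Prime] (k : Type) [Field k] [CharP k ℓ] [IsAlgClosed k] (V : Type) [AddCommGroup V]
    [Module k V] [FiniteDimensional k V] (H : Type) [Group H] [Finite H] (ρ : Representation k H V)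
    (θ : H →* Alt r), Function.Surjective θ → (∀ h, ρ h = 1 → θ h = 1) → Module.finrank k V = m →
    r - 1 - (if ℓ ∣ r then 1 else 0) ≤ m

theorem factorial_lt_card {r t : ℕ} (hr : 9 ≤ r) (ht : t ≤ r - 2) : t.factorial < Nat.card (Alt r) := by
  haveI : Nontrivial (Fin r) := Fin.nontrivial_iff_two_le.2 (by omega)
  have h := two_mul_nat_card_alternatingGroup (α := Fin r)
  rw [Nat.card_perm, Nat.card_fin] at h
  obtain ⟨s, rfl⟩ : ∃ s, r = s + 2 := ⟨r - 2, by omega⟩
  have h1 : t.factorial ≤ s.factorial := Nat.factorial_le (by omega)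
  have h2 : 0 < s.factorial := Nat.factorial_pos s
  rw [Nat.factorial_succ, Nat.factorial_succ] at h
  have : 3 * s.factorial ≤ (s + 1 + 1) * ((s + 1) * s.factorial) := by
    calc 3 * s.factorial ≤ ((s + 1 + 1) * (s + 1)) * s.factorial := Nat.mul_le_mul_right _ (by nlinarith)
      _ = _ := mul_assoc _ _ _
  show t.factorial < Nat.card ↥(alternatingGroup (Fin (s + 2)))
  omega

theorem sq_lt_two_pow : ∀ m, 5 ≤ m → m * m < 2 ^ m := by
  intro m hm
  induction m, hm using Nat.le_induction with
  | base => norm_num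
  | succ n hn ih => rw [pow_succ]; nlinarith

section Irreducible

variable {r : ℕ} {k : Type u} [Field k] [IsAlgClosed k] {V : Type v} [AddCommGroup V] [Module k V]
  [FiniteDimensional k V] {H : Type w} [Group H] [Finite H] (ρ : Representation k H V) (θ : H →* Alt r)

theorem scalar_of_commute (hirr : ∀ U : Submodule k V, (∀ h, ∀ v ∈ U, ρ h v ∈ U) → U = ⊥ ∨ U = ⊤)
    [Nontrivial V] {T : Module.End k V} (hT : ∀ h, T * ρ h = ρ h * T) : ∃ μ : k, T = μ • 1 := by
  obtain ⟨μ, hμ⟩ := Module.End.exists_eigenvalue T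
  refine ⟨μ, ?_⟩
  rcases hirr (LinearMap.ker (T - μ • 1)) (fun h v hv => by
    have e : (T - μ • 1) * ρ h = ρ h * (T - μ • 1) := by
      rw [sub_mul, mul_sub, smul_mul_assoc, mul_smul_comm, one_mul, mul_one, hT]
    rw [LinearMap.mem_ker, ← Module.End.mul_apply, e, Module.End.mul_apply, LinearMap.mem_ker.1 hv, map_zero])
    with h | h
  · obtain ⟨v, hv⟩ := hμ.exists_hasEigenvector
    have : v ∈ LinearMap.ker (T - μ • 1) := by
      rw [LinearMap.mem_ker, LinearMap.sub_apply, hv.apply_eq_smul]; simp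
    rw [h, Submodule.mem_bot] at this
    exact absurd this hv.2
  · exact sub_eq_zero.1 (LinearMap.ker_eq_top.1 h)

set_option maxHeartbeats 2000000 in
/-- The bound for a faithful irreducible group minimal over the alternating group. -/
theorem irreducible_bound (p : ℕ) [Fact p.Prime] [CharP k p] (hr : 9 ≤ r) {n : ℕ}
    (hn : Module.finrank k V = n) (hsurj : Function.Surjective θ) (hfaith : Function.Injective ρ)
    (hnorm : ∀ N : Subgroup H, N.Normal → N = ⊤ ∨ N ≤ θ.ker)
    (hperf : commutator H = ⊤) (hnil : Group.IsNilpotent θ.ker)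
    (hirr : ∀ U : Submodule k V, (∀ h, ∀ v ∈ U, ρ h v ∈ U) → U = ⊥ ∨ U = ⊤)
    (IH : ∀ m, m < n → SmallBound r m) :
    r - 1 - (if p ∣ r then 1 else 0) ≤ n := by
  classical
  subst hn
  have : Nontrivial V := by
    by_contra hV
    rw [not_nontrivial_iff_subsingleton] at hV
    haveI := hV
    have h1 : ∀ h, ρ h = ρ 1 := fun h => LinearMap.ext fun v => Subsingleton.elim _ _
    obtain ⟨h, hh⟩ := hsurj (cyc ⟨0, by omega⟩ ⟨1, by omega⟩ ⟨2, by omega⟩)
    rw [hfaith (h1 h), map_one] at hh
    have h0 := cyc_fst (r := r) (a := ⟨0, by omega⟩) (b := ⟨1, by omega⟩) (c := ⟨2, by omega⟩)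
      (by simp) (by simp) (by simp)
    rw [← hh] at h0
    simp at h0
  obtain ⟨K, hK⟩ : ∃ K, K = θ.ker := ⟨_, rfl⟩
  have hKn : K.Normal := hK ▸ inferInstance
  have hcentral : ∀ {g : H} {μ : k}, ρ g = μ • 1 → g ∈ Subgroup.center H := fun {g μ} hg =>
    Subgroup.mem_center_iff.2 fun h => hfaith (by
      rw [map_mul, map_mul, hg, smul_mul_assoc, mul_smul_comm, one_mul, mul_one])
  have hscal : ∀ {g : H}, g ∈ Subgroup.center H → ∃ μ : k, ρ g = μ • 1 := fun {g} hg =>
    scalar_of_commute ρ hirr fun h => by rw [← map_mul, ← map_mul, Subgroup.mem_center_iff.1 hg h]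
  by_cases hZ : K ≤ Subgroup.center H
  · -- the kernel is central
    have hcard : Nat.card K ≤ 2 := by
      subst hK
      exact CfsgLib.Char.AltMultiplier.card_le_two (n := r) (by omega) (by omega) (by omega) θ.ker hZ
        (hperf ▸ le_top) (QuotientGroup.quotientKerEquivOfSurjective θ hsurj)
    have hfix : ∀ v : V, (∀ h, ρ h v = v) → v = 0 := by
      intro v hv
      rcases hirr (Submodule.span k {v}) (fun h w hw => by
        obtain ⟨c, rfl⟩ := Submodule.mem_span_singleton.1 hw
        rw [map_smul, hv]; exact hw) with h | h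
      · exact Submodule.span_singleton_eq_bot.1 h
      · by_contra hv0
        have h1 : ∀ g, ρ g = ρ 1 := fun g => by
          refine LinearMap.ext fun w => ?_
          obtain ⟨c, rfl⟩ := Submodule.mem_span_singleton.1 (h ▸ Submodule.mem_top : w ∈ Submodule.span k {v})
          rw [map_smul, hv, map_one]; rfl
        obtain ⟨g, hg⟩ := hsurj (cyc ⟨0, by omega⟩ ⟨1, by omega⟩ ⟨2, by omega⟩)
        rw [hfaith (h1 g), map_one] at hg
        have h0 := cyc_fst (r := r) (a := ⟨0, by omega⟩) (b := ⟨1, by omega⟩) (c := ⟨2, by omega⟩)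
          (by simp) (by simp) (by simp)
        rw [← hg] at h0
        simp at h0
    by_cases hbot : K = ⊥
    · let e : H ≃* Alt r := MulEquiv.ofBijective θ
        ⟨(MonoidHom.ker_eq_bot_iff θ).1 (hK ▸ hbot), hsurj⟩
      refine linear_bound (ρ.comp e.symm.toMonoidHom) p hr
        (fun v hv => hfix v fun h => by simpa using hv (e h)) ⟨cyc ⟨0, by omega⟩ ⟨1, by omega⟩ ⟨2, by omega⟩, ?_⟩
      intro h
      have h2 : e.symm (cyc ⟨0, by omega⟩ ⟨1, by omega⟩ ⟨2, by omega⟩) = 1 := hfaith (h.trans (map_one ρ).symm)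
      have h3 := congrArg e h2
      rw [e.apply_symm_apply, map_one] at h3
      have h0 := cyc_fst (r := r) (a := ⟨0, by omega⟩) (b := ⟨1, by omega⟩) (c := ⟨2, by omega⟩)
        (by simp) (by simp) (by simp)
      rw [h3] at h0
      simp at h0
    · have h2 : Nat.card K = 2 := by
        have := Subgroup.one_lt_card_iff_ne_bot K |>.2 hbot
        omega
      have hz : ∀ z ∈ K, z * z = 1 := fun z hz => by
        have := pow_card_eq_one' (G := K) (x := ⟨z, hz⟩)
        rw [h2, pow_two] at this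
        exact congrArg Subtype.val this
      have hneg : ∀ z ∈ K, z = 1 ∨ ρ z = -1 := fun z hzK => by
        obtain ⟨μ, hμ⟩ := hscal (hZ hzK)
        obtain ⟨v, hv⟩ := exists_ne (0 : V)
        have hsq : μ * μ = 1 := by
          have h := congrArg (ρ ·) (hz z hzK)
          simp only [map_mul, map_one, hμ, smul_mul_smul_comm, one_mul] at h
          exact smul_left_injective k hv (by simpa using LinearMap.congr_fun h v)
        rcases mul_self_eq_one_iff.1 hsq with h | h
        · left; exact hfaith (by rw [hμ, h, one_smul, map_one])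
        · right; rw [hμ, h, neg_one_smul]
      obtain ⟨z, hzK, hz1⟩ : ∃ z ∈ K, z ≠ 1 := by
        by_contra hc
        push Not at hc
        exact hbot ((Subgroup.eq_bot_iff_forall K).2 hc)
      have htwo : (2 : k) ≠ 0 := fun h2' => hz1 (hfaith (by
        rw [(hneg z hzK).resolve_left hz1, map_one]
        have : (1 : k) = -1 := by linear_combination h2'
        rw [← neg_one_smul k (1 : Module.End k V), ← this, one_smul]))
      obtain ⟨S⟩ := exists_spin (k := k) θ hr hsurj (hK ▸ hZ) (hperf ▸ le_top) (hK ▸ hbot) ρ (hK ▸ hneg)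
        (hK ▸ hz) htwo
      exact S.bound p hr (exists_ne (0 : V))
  -- an abelian normal subgroup in the kernel with several weights
  by_cases hab : ∃ A : Subgroup H, A.Normal ∧ A ≤ K ∧ (∀ a ∈ A, ∀ b ∈ A, a * b = b * a) ∧
      ¬ A ≤ Subgroup.center H
  · obtain ⟨A, hAn, hAK, hAc, hAs⟩ := hab
    let Wt := {χ : A → k // ∃ v : V, v ≠ 0 ∧ ∀ a : A, ρ a v = χ a • v}
    choose vec hvec0 hvec using fun χ : Wt => χ.2
    have hli : LinearIndependent k vec := eig_independent (fun a : A => ρ a) (fun χ : Wt => χ.1)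
      (fun χ χ' e => Subtype.ext e) vec hvec0 fun χ a => hvec χ a
    haveI : Finite Wt := hli.finite
    letI := Fintype.ofFinite Wt
    have hWn : Nat.card Wt ≤ Module.finrank k V := by
      rw [Nat.card_eq_fintype_card]; exact hli.fintype_card_le_finrank
    let cj : H → A → A := fun h a => ⟨h⁻¹ * a * h, by simpa using hAn.conj_mem a a.2 h⁻¹⟩
    have hmv : ∀ (h : H) (χ : Wt), ∀ a : A, ρ a (ρ h (vec χ)) = χ.1 (cj h a) • ρ h (vec χ) := fun h χ a => by
      have := congrArg (ρ h) (hvec χ (cj h a))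
      rw [map_smul, ← Module.End.mul_apply, ← map_mul, show h * (cj h a : H) = (a : H) * h by
        show h * (h⁻¹ * a * h) = a * h; group, map_mul, Module.End.mul_apply] at this
      exact this
    have hinvv : ∀ (h : H) (v : V), v ≠ 0 → ρ h v ≠ 0 := fun h v hv e => hv (by
      have := congrArg (ρ h⁻¹) e
      rwa [← Module.End.mul_apply, ← map_mul, inv_mul_cancel, map_one, map_zero] at this)
    let act : H → Wt → Wt := fun h χ => ⟨fun a => χ.1 (cj h a), ρ h (vec χ), hinvv h _ (hvec0 χ), hmv h χ⟩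
    have act_mul : ∀ g h χ, act (g * h) χ = act g (act h χ) := fun g h χ => Subtype.ext (funext fun a =>
      congrArg χ.1 (Subtype.ext (show (g * h)⁻¹ * a * (g * h) = h⁻¹ * (g⁻¹ * a * g) * h by group)))
    have act_one : ∀ χ, act 1 χ = χ := fun χ => Subtype.ext (funext fun a =>
      congrArg χ.1 (Subtype.ext (show (1 : H)⁻¹ * a * 1 = a by group)))
    let φ : H →* Equiv.Perm Wt :=
      { toFun := fun h => ⟨act h, act h⁻¹, fun χ => by rw [← act_mul, inv_mul_cancel, act_one],
          fun χ => by rw [← act_mul, mul_inv_cancel, act_one]⟩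
        map_one' := Equiv.ext act_one
        map_mul' := fun g h => Equiv.ext (act_mul g h) }
    rcases hnorm φ.ker inferInstance with h | h
    · exfalso
      obtain ⟨v, -, hv0, hv⟩ := exists_eig (fun a : A => ρ a) (fun a b => by rw [← map_mul, ← map_mul, hAc a a.2 b b.2])
        ⊤ top_ne_bot (fun _ _ _ => Submodule.mem_top)
      choose μ hμ using hv
      let χ : Wt := ⟨μ, v, hv0, hμ⟩
      rcases hirr (⨅ a : A, LinearMap.ker (ρ a - μ a • 1)) (fun g w hw => by
        simp only [Submodule.mem_iInf, LinearMap.mem_ker, LinearMap.sub_apply, LinearMap.smul_apply,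
          Module.End.one_apply, sub_eq_zero] at hw ⊢
        intro a
        have e : μ (cj g a) = μ a := by
          have h1 : g ∈ φ.ker := h ▸ Subgroup.mem_top g
          exact congrFun (congrArg Subtype.val (Equiv.ext_iff.1 h1 χ)) a
        have := congrArg (ρ g) (hw (cj g a))
        rw [map_smul, ← Module.End.mul_apply, ← map_mul, show g * (cj g a : H) = (a : H) * g by
          show g * (g⁻¹ * a * g) = a * g; group, map_mul, Module.End.mul_apply, e] at this
        exact this) with hb | hb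
      · have : v ∈ ⨅ a : A, LinearMap.ker (ρ a - μ a • 1) := by
          simp only [Submodule.mem_iInf, LinearMap.mem_ker, LinearMap.sub_apply, LinearMap.smul_apply,
            Module.End.one_apply, sub_eq_zero]
          exact hμ
        rw [hb, Submodule.mem_bot] at this
        exact hv0 this
      · refine hAs fun a ha => hcentral (μ := μ ⟨a, ha⟩) (sub_eq_zero.1 (LinearMap.ker_eq_top.1 ?_))
        exact eq_top_iff.2 (hb ▸ iInf_le (fun a : A => LinearMap.ker (ρ a - μ a • 1)) ⟨a, ha⟩)
    · have h1 : Nat.card (Alt r) ∣ Nat.card φ.range := by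
        let f : φ.range →* Alt r := φ.rangeRestrict.liftOfSurjective φ.rangeRestrict_surjective
          ⟨θ, by rw [φ.ker_rangeRestrict]; exact h⟩
        refine Subgroup.card_dvd_of_surjective f fun a => ?_
        obtain ⟨g, rfl⟩ := hsurj a
        exact ⟨φ.rangeRestrict g, MonoidHom.liftOfRightInverse_comp_apply _ _ _ _ g⟩
      have h2 : Nat.card φ.range ≤ (Nat.card Wt).factorial := by
        rw [← Nat.card_perm]
        exact Nat.card_le_card_of_injective _ φ.range.subtype_injective
      have h3 := Nat.le_of_dvd Nat.card_pos h1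
      by_contra hlt
      have := factorial_lt_card hr (show Nat.card Wt ≤ r - 2 by omega)
      omega
  -- extraspecial type
  push Not at hab
  let Z : Subgroup H := K ⊓ Subgroup.center H
  have hZc : ∀ {z}, z ∈ Z → ∀ g, g * z = z * g := fun {z} hz g => Subgroup.mem_center_iff.1 hz.2 g
  let C : Subgroup H :=
    { carrier := {x | x ∈ K ∧ ∀ y ∈ K, x * y * x⁻¹ * y⁻¹ ∈ Z}
      one_mem' := ⟨one_mem _, fun y _ => by simp⟩
      mul_mem' := by
        rintro a b ⟨ha, ha'⟩ ⟨hb, hb'⟩
        refine ⟨mul_mem ha hb, fun y hy => ?_⟩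
        have e : a * b * y * (a * b)⁻¹ * y⁻¹ = (b * y * b⁻¹ * y⁻¹) * (a * y * a⁻¹ * y⁻¹) := by
          calc a * b * y * (a * b)⁻¹ * y⁻¹ = a * (b * y * b⁻¹ * y⁻¹) * (y * a⁻¹ * y⁻¹) := by group
            _ = (b * y * b⁻¹ * y⁻¹) * a * (y * a⁻¹ * y⁻¹) := by rw [hZc (hb' y hy) a]
            _ = _ := by group
        rw [e]; exact mul_mem (hb' y hy) (ha' y hy)
      inv_mem' := by
        rintro a ⟨ha, ha'⟩
        refine ⟨inv_mem ha, fun y hy => ?_⟩
        have e : a⁻¹ * y * a⁻¹⁻¹ * y⁻¹ = (a * y * a⁻¹ * y⁻¹)⁻¹ := by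
          calc a⁻¹ * y * a⁻¹⁻¹ * y⁻¹ = a⁻¹ * (a * y * a⁻¹ * y⁻¹)⁻¹ * a := by group
            _ = _ := by rw [hZc (inv_mem (ha' y hy)) a⁻¹]; group
        rw [e]; exact inv_mem (ha' y hy) }
  have hpowC : ∀ a ∈ C, ∀ b ∈ K, ∀ m : ℕ, ∃ z ∈ Z, (a * b) ^ m = a ^ m * b ^ m * z := by
    intro a ha b hb m
    induction m with
    | zero => exact ⟨1, one_mem _, by simp⟩
    | succ m ih =>
      obtain ⟨z, hz, e⟩ := ih
      obtain ⟨c, hc⟩ : ∃ c, c = a * b ^ m * a⁻¹ * (b ^ m)⁻¹ := ⟨_, rfl⟩
      have hcZ : c ∈ Z := hc ▸ ha.2 _ (pow_mem hb m)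
      have hswap : b ^ m * a = a * b ^ m * c⁻¹ := by
        calc b ^ m * a = c⁻¹ * (a * b ^ m) := by rw [hc]; group
          _ = _ := (hZc (inv_mem hcZ) _).symm
      refine ⟨c⁻¹ * z, mul_mem (inv_mem hcZ) hz, ?_⟩
      calc (a * b) ^ (m + 1) = a ^ m * b ^ m * z * (a * b) := by rw [pow_succ, e]
        _ = a ^ m * b ^ m * (z * (a * b)) := by group
        _ = a ^ m * (b ^ m * a) * b * z := by rw [← hZc hz]; group
        _ = a ^ m * a * b ^ m * (c⁻¹ * b) * z := by rw [hswap]; group
        _ = a ^ m * a * (b ^ m * b) * (c⁻¹ * z) := by rw [← hZc (inv_mem hcZ)]; group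
        _ = a ^ (m + 1) * b ^ (m + 1) * (c⁻¹ * z) := by rw [← pow_succ, ← pow_succ]
  obtain ⟨q₁, hq₁C, hq₁Z⟩ : ∃ q, q ∈ C ∧ q ∉ Z := by
    rw [← hK, Subgroup.isNilpotent_iff_lowerCentralSeries] at hnil
    obtain ⟨m, hm⟩ := hnil
    have hex : ∃ m, K.lowerCentralSeries m ≤ Z := ⟨m, hm ▸ bot_le⟩
    let j := Nat.find hex
    have hj0 : j ≠ 0 := fun e => hZ fun x hx => by
      have h := Nat.find_spec hex
      rw [show Nat.find hex = 0 from e] at h
      exact (h hx).2
    obtain ⟨i, hi⟩ := Nat.exists_eq_succ_of_ne_zero hj0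
    obtain ⟨q, hq, hqZ⟩ := SetLike.not_le_iff_exists.1 (Nat.find_min hex (show i < j by omega))
    have hsub : ∀ l, K.lowerCentralSeries l ≤ K := by
      intro l
      induction l with
      | zero => exact le_rfl
      | succ l ih =>
        exact Subgroup.commutator_le.2 fun a ha b hb =>
          mul_mem (mul_mem (mul_mem (ih ha) hb) (inv_mem (ih ha))) (inv_mem hb)
    refine ⟨q, ⟨hsub i hq, fun y hy => ?_⟩, hqZ⟩
    have : q * y * q⁻¹ * y⁻¹ ∈ K.lowerCentralSeries (i + 1) := Subgroup.commutator_mem_commutator hq hy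
    have h := Nat.find_spec hex
    rw [show Nat.find hex = i + 1 from hi] at h
    exact h this
  obtain ⟨o, ho⟩ : ∃ o, o = orderOf (QuotientGroup.mk q₁ : H ⧸ Z) := ⟨_, rfl⟩
  have hZn : Z.Normal := ⟨fun z hz g => by rwa [hZc hz g, mul_inv_cancel_right]⟩
  have ho1 : o ≠ 1 := fun e => hq₁Z ((QuotientGroup.eq_one_iff q₁).1 (orderOf_eq_one_iff.1 (ho ▸ e)))
  obtain ⟨ℓ, hℓ, hℓd⟩ := Nat.exists_prime_and_dvd ho1
  haveI := Fact.mk hℓ
  let Q : Subgroup H :=
    { carrier := {x | x ∈ C ∧ x ^ ℓ ∈ Z}
      one_mem' := ⟨one_mem _, by simp⟩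
      mul_mem' := by
        rintro a b ⟨ha, ha'⟩ ⟨hb, hb'⟩
        refine ⟨mul_mem ha hb, ?_⟩
        obtain ⟨z, hz, e⟩ := hpowC a ha b hb.1 ℓ
        rw [e]; exact mul_mem (mul_mem ha' hb') hz
      inv_mem' := by
        rintro a ⟨ha, ha'⟩
        exact ⟨inv_mem ha, by rw [inv_pow]; exact inv_mem ha'⟩ }
  obtain ⟨q, hqQ, hqZ⟩ : ∃ q, q ∈ Q ∧ q ∉ Z := by
    refine ⟨q₁ ^ (o / ℓ), ⟨pow_mem hq₁C _, ?_⟩, fun h => ?_⟩
    · rw [← pow_mul, Nat.div_mul_cancel hℓd, ← QuotientGroup.eq_one_iff, QuotientGroup.mk_pow, ho, pow_orderOf_eq_one]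
    · rw [← QuotientGroup.eq_one_iff, QuotientGroup.mk_pow] at h
      have hop : 0 < o := ho ▸ orderOf_pos _
      have h2 := Nat.le_of_dvd (Nat.div_pos (Nat.le_of_dvd hop hℓd) hℓ.pos) (show o ∣ o / ℓ by have := orderOf_dvd_of_pow_eq_one h; rwa [← ho] at this)
      have h3 := Nat.div_lt_self hop hℓ.one_lt
      omega
  have hQK : Q ≤ K := fun x hx => hx.1.1
  have hQn : Q.Normal := ⟨fun x hx g => by
    refine ⟨⟨hKn.conj_mem x (hQK hx) g, fun y hy => ?_⟩, ?_⟩
    · have h := hx.1.2 (g⁻¹ * y * g) (by simpa using hKn.conj_mem y hy g⁻¹)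
      have := hZn.conj_mem _ h g
      convert this using 1; group
    · have := hZn.conj_mem _ hx.2 g
      convert this using 1
      rw [conj_pow]⟩
  have hcomm : ∀ x ∈ Q, ∀ y ∈ Q, ∃ μ : k, ρ (x * y * x⁻¹ * y⁻¹) = μ • 1 := fun x hx y hy =>
    hscal (hx.1.2 y (hQK hy)).2
  have hrad : ∀ x ∈ Q, (∀ y ∈ Q, x * y = y * x) → x ∈ Z := by
    intro x hx hxc
    let R : Subgroup H := Q ⊓ Subgroup.centralizer (Q : Set H)
    haveI := hQn
    have hR : R.Normal := inferInstance
    refine ⟨hQK hx, hab R hR (fun a ha => hQK ha.1) (fun a ha b hb => (Subgroup.mem_centralizer_iff.1 ha.2 b hb.1).symm) ?_⟩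
    exact ⟨hx, Subgroup.mem_centralizer_iff.2 fun y hy => (hxc y hy).symm⟩
  -- the symplectic space
  haveI : (Z.subgroupOf Q).Normal := inferInstance
  let E := Q ⧸ Z.subgroupOf Q
  have hmkE : ∀ a b : Q, (QuotientGroup.mk a : E) = QuotientGroup.mk b ↔ (a : H)⁻¹ * b ∈ Z := fun a b => by
    rw [QuotientGroup.eq, Subgroup.mem_subgroupOf, Subgroup.coe_mul, Subgroup.coe_inv]
  have hEcomm : ∀ a b : E, a * b = b * a := by
    intro a b
    obtain ⟨a, rfl⟩ := QuotientGroup.mk_surjective a
    obtain ⟨b, rfl⟩ := QuotientGroup.mk_surjective b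
    rw [← QuotientGroup.mk_mul, ← QuotientGroup.mk_mul, hmkE, Subgroup.coe_mul, Subgroup.coe_mul]
    have h := (b⁻¹).2.1.2 ((a⁻¹ : Q) : H) (hQK (a⁻¹).2)
    simp only [Subgroup.coe_inv, inv_inv] at h
    convert h using 1
    group
  letI : CommGroup E := { (inferInstance : Group E) with mul_comm := hEcomm }
  have hEexp : ∀ a : E, a ^ ℓ = 1 := by
    intro a
    obtain ⟨a, rfl⟩ := QuotientGroup.mk_surjective a
    rw [← QuotientGroup.mk_pow, QuotientGroup.eq_one_iff, Subgroup.mem_subgroupOf, Subgroup.coe_pow]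
    exact a.2.2
  letI i2 : Module (ZMod ℓ) (Additive E) := AddCommGroup.zmodModule fun a => hEexp a.toMul
  haveI hf : Module.Finite (ZMod ℓ) (Additive E) := Module.Finite.of_finite
  haveI hfree : @Module.Free (ZMod ℓ) (Additive E) _ _ i2 :=
    @Module.Free.of_divisionRing (ZMod ℓ) (Additive E) _ _ i2
  obtain ⟨d, hd⟩ : ∃ d, d = Module.finrank (ZMod ℓ) (Additive E) := ⟨_, rfl⟩
  have hEcard : Nat.card E = ℓ ^ d := by
    rw [Nat.card_congr (Additive.ofMul : E ≃ Additive E),
      @Module.natCard_eq_pow_finrank (ZMod ℓ) (Additive E) _ _ i2 hf, Nat.card_zmod, hd]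
  -- linear independence of representatives
  have hEn : Nat.card E ≤ Module.finrank k V * Module.finrank k V := by
    let rep : E → Q := fun e => (QuotientGroup.mk_surjective e).choose
    have hrep : ∀ e, (QuotientGroup.mk (rep e) : E) = e := fun e => (QuotientGroup.mk_surjective e).choose_spec
    have hχ : ∀ (e : E) (b : Q), ∃ μ : k, ρ ((b : H) * rep e * (b : H)⁻¹) = μ • ρ (rep e) := fun e b => by
      obtain ⟨μ, hμ⟩ := hcomm b b.2 (rep e) (rep e).2
      refine ⟨μ, ?_⟩
      rw [show (b : H) * rep e * (b : H)⁻¹ = (b * rep e * (b : H)⁻¹ * (rep e : H)⁻¹) * rep e by group, map_mul,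
        hμ, smul_mul_assoc, one_mul]
    choose χ hχ using hχ
    let T : Q → Module.End k (Module.End k V) := fun b =>
      (LinearMap.mulLeft k (ρ b)).comp (LinearMap.mulRight k (ρ (b : H)⁻¹))
    have hT : ∀ b X, T b X = ρ b * (X * ρ (b : H)⁻¹) := fun b X => rfl
    have hli : LinearIndependent k fun e : E => ρ (rep e) := by
      refine eig_independent T χ (fun e e' he => ?_) _ (fun e h0 => ?_) (fun e b => ?_)
      · rw [← hrep e, ← hrep e', hmkE]
        refine hrad _ (mul_mem (inv_mem (rep e).2) (rep e').2) fun b hb => ?_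
        have h1 := hχ e ⟨b, hb⟩
        have h2 := hχ e' ⟨b, hb⟩
        rw [congrFun he] at h1
        apply hfaith
        obtain ⟨x, hx⟩ : ∃ x, x = (rep e : H) := ⟨_, rfl⟩
        obtain ⟨y, hy⟩ : ∃ y, y = (rep e' : H) := ⟨_, rfl⟩
        rw [← hx] at h1 ⊢
        rw [← hy] at h2 ⊢
        have hμ0 : χ e' ⟨b, hb⟩ ≠ 0 := fun h0 => by
          rw [h0, zero_smul] at h2
          have := congrArg (ρ (b * y * b⁻¹)⁻¹ * ·) h2
          simp only [← map_mul, inv_mul_cancel, map_one, mul_zero] at this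
          exact one_ne_zero this
        obtain ⟨μ, hμ⟩ : ∃ μ, μ = χ e' ⟨b, hb⟩ := ⟨_, rfl⟩
        simp only at h1 h2
        rw [← hμ] at h1 h2 hμ0
        -- conjugation fixes the quotient of the representatives
        have hix : ρ (b * x⁻¹ * b⁻¹) = μ⁻¹ • ρ x⁻¹ := by
          have e1 : ρ (b * x⁻¹ * b⁻¹) * ρ (b * x * b⁻¹) = 1 := by
            rw [← map_mul, show b * x⁻¹ * b⁻¹ * (b * x * b⁻¹) = 1 by group, map_one]
          rw [h1, mul_smul_comm] at e1
          have e2 := congrArg (fun X => μ⁻¹ • (X * ρ x⁻¹)) e1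
          simp only [smul_mul_assoc, smul_smul, inv_mul_cancel₀ hμ0, one_smul, one_mul] at e2
          rwa [mul_assoc, ← map_mul, mul_inv_cancel, map_one, mul_one] at e2
        have e3 : ρ (b * (x⁻¹ * y) * b⁻¹) = ρ (x⁻¹ * y) := by
          rw [show b * (x⁻¹ * y) * b⁻¹ = b * x⁻¹ * b⁻¹ * (b * y * b⁻¹) by group, map_mul, hix, h2,
            smul_mul_smul_comm, inv_mul_cancel₀ hμ0, one_smul, ← map_mul]
        have e4 := hfaith e3
        have e5 := congrArg (ρ ·) (congrArg (· * b) e4)
        simp only [inv_mul_cancel_right] at e5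
        exact e5.symm
      · have := congrArg (ρ (rep e : H)⁻¹ * ·) h0
        simp only [← map_mul, inv_mul_cancel, map_one, mul_zero] at this
        exact one_ne_zero this
      · rw [hT, ← map_mul, ← map_mul, ← mul_assoc, hχ]
    letI := Fintype.ofFinite E
    have := hli.fintype_card_le_finrank
    rwa [Module.finrank_linearMap, ← Nat.card_eq_fintype_card] at this
  -- the action on the space
  have hZQ : ∀ g : H, ∀ a : Q, g * (a : H) * g⁻¹ ∈ Q := fun g a => hQn.conj_mem a a.2 g
  let cE : H → (Q →* E) := fun g =>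
    (QuotientGroup.mk' (Z.subgroupOf Q)).comp
      { toFun := fun a => ⟨g * (a : H) * g⁻¹, hZQ g a⟩
        map_one' := Subtype.ext (by simp)
        map_mul' := fun a b => Subtype.ext (by simp only [Subgroup.coe_mul]; group) }
  have hcE : ∀ g, Z.subgroupOf Q ≤ (cE g).ker := fun g a ha => by
    rw [MonoidHom.mem_ker]
    show (QuotientGroup.mk (⟨g * (a : H) * g⁻¹, hZQ g a⟩ : Q) : E) = 1
    rw [QuotientGroup.eq_one_iff, Subgroup.mem_subgroupOf]
    exact hZn.conj_mem _ ha g
  let φE : H → (Additive E →+ Additive E) := fun g =>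
    MonoidHom.toAdditive (QuotientGroup.lift (Z.subgroupOf Q) (cE g) (hcE g))
  have hφmk : ∀ g (a : Q), φE g (Additive.ofMul (QuotientGroup.mk a : E)) =
      Additive.ofMul (QuotientGroup.mk (⟨g * (a : H) * g⁻¹, hZQ g a⟩ : Q) : E) := fun g a => rfl
  have hind : ∀ x : Additive E, ∃ a : Q, x = Additive.ofMul (QuotientGroup.mk a : E) := fun x => by
    obtain ⟨a, ha⟩ := QuotientGroup.mk_surjective x.toMul
    exact ⟨a, by rw [ha]; rfl⟩
  let σ : H →* AddMonoid.End (Additive E) :=
    { toFun := φE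
      map_one' := AddMonoidHom.ext fun x => by
        obtain ⟨a, rfl⟩ := hind x
        show φE 1 _ = _
        rw [hφmk]
        exact congrArg (fun z : Q => Additive.ofMul (QuotientGroup.mk z : E))
          (Subtype.ext (show (1 : H) * (a : H) * (1 : H)⁻¹ = a by group))
      map_mul' := fun g g' => AddMonoidHom.ext fun x => by
        obtain ⟨a, rfl⟩ := hind x
        show φE (g * g') _ = φE g (φE g' _)
        rw [hφmk, hφmk, hφmk]
        exact congrArg (fun z : Q => Additive.ofMul (QuotientGroup.mk z : E))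
          (Subtype.ext (show g * g' * (a : H) * (g * g')⁻¹ = g * (g' * a * g'⁻¹) * g⁻¹ by group)) }
  rcases hnorm σ.ker inferInstance with h | h
  · exfalso
    refine hqZ (hrad q hqQ fun y hy => ?_)
    -- the commutator with a fixed element is a homomorphism to the scalars
    have hfix : ∀ g, (g * q * g⁻¹) * q⁻¹ ∈ Z := fun g => by
      have h1 : σ g = 1 := (show g ∈ MonoidHom.ker σ by rw [h]; trivial)
      have h2 := DFunLike.congr_fun h1 (Additive.ofMul (QuotientGroup.mk (⟨q, hqQ⟩ : Q) : E))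
      have h3 : (QuotientGroup.mk (⟨g * q * g⁻¹, hZQ g ⟨q, hqQ⟩⟩ : Q) : E) = QuotientGroup.mk (⟨q, hqQ⟩ : Q) := h2
      rw [eq_comm, hmkE] at h3
      have := hZn.conj_mem _ h3 q
      convert this using 1; group
    let ψ : H →* ↥(Subgroup.center H) :=
      { toFun := fun g => ⟨g * q * g⁻¹ * q⁻¹, (hfix g).2⟩
        map_one' := Subtype.ext (by simp)
        map_mul' := fun g g' => Subtype.ext (by
          show g * g' * q * (g * g')⁻¹ * q⁻¹ = g * q * g⁻¹ * q⁻¹ * (g' * q * g'⁻¹ * q⁻¹)
          calc g * g' * q * (g * g')⁻¹ * q⁻¹ = g * (g' * q * g'⁻¹ * q⁻¹) * (q * g⁻¹ * q⁻¹) := by group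
            _ = (g' * q * g'⁻¹ * q⁻¹) * g * (q * g⁻¹ * q⁻¹) := by rw [hZc (hfix g') g]
            _ = _ := by
              rw [show (g' * q * g'⁻¹ * q⁻¹) * g * (q * g⁻¹ * q⁻¹) = (g' * q * g'⁻¹ * q⁻¹) * (g * q * g⁻¹ * q⁻¹) by group,
                ← hZc (hfix g')]) }
    have hker : ψ.ker = ⊤ := by
      rw [eq_top_iff, ← hperf, _root_.commutator_def, Subgroup.commutator_le]
      intro a _ b _
      rw [MonoidHom.mem_ker, map_commutatorElement, commutatorElement_eq_one_iff_mul_comm]
      exact Subtype.ext ((Subgroup.mem_center_iff.1 (ψ b).2 _))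
    have hy' : ψ y = 1 := (show y ∈ ψ.ker by rw [hker]; trivial)
    have := congrArg Subtype.val hy'
    rw [show ((ψ y : ↥(Subgroup.center H)) : H) = y * q * y⁻¹ * q⁻¹ from rfl, OneMemClass.coe_one,
      mul_inv_eq_one, mul_inv_eq_iff_eq_mul] at this
    exact this.symm
  · let bs := @Module.finBasisOfFinrankEq (ZMod ℓ) (Additive E) _ _ i2 hfree _ hf _ hd.symm
    let τ : H →* Matrix (Fin d) (Fin d) (ZMod ℓ) :=
      { toFun := fun g => LinearMap.toMatrix bs bs (AddMonoidHom.toZModLinearMap ℓ (σ g))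
        map_one' := by
          rw [map_one, show AddMonoidHom.toZModLinearMap ℓ (1 : AddMonoid.End (Additive E)) = LinearMap.id from rfl,
            LinearMap.toMatrix_id]
        map_mul' := fun g g' => by
          rw [map_mul, show AddMonoidHom.toZModLinearMap ℓ (σ g * σ g') =
            (AddMonoidHom.toZModLinearMap ℓ (σ g)).comp (AddMonoidHom.toZModLinearMap ℓ (σ g')) from rfl,
            LinearMap.toMatrix_comp bs bs bs] }
    let L := AlgebraicClosure (ZMod ℓ)
    let τ' : Representation L H (Fin d → L) :=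
      (Matrix.toLinAlgEquiv' : Matrix (Fin d) (Fin d) L ≃ₐ[L] _).toAlgHom.toMonoidHom.comp
        ((algebraMap (ZMod ℓ) L).mapMatrix.toMonoidHom.comp τ)
    have hker : ∀ g, τ' g = 1 → θ g = 1 := fun g hg => h (by
      show σ g = 1
      apply AddMonoidHom.toZModLinearMap_injective ℓ
      apply (LinearMap.toMatrix bs bs).injective
      rw [show AddMonoidHom.toZModLinearMap ℓ (1 : AddMonoid.End (Additive E)) = LinearMap.id from rfl,
        LinearMap.toMatrix_id]
      have h1 : (algebraMap (ZMod ℓ) L).mapMatrix (τ g) = 1 :=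
        (Matrix.toLinAlgEquiv' : Matrix (Fin d) (Fin d) L ≃ₐ[L] _).injective (hg.trans (map_one _).symm)
      exact Matrix.map_injective (algebraMap (ZMod ℓ) L).injective
        (h1.trans (map_one (algebraMap (ZMod ℓ) L).mapMatrix).symm))
    let τu := τ'.toHomUnits
    haveI : Finite τu.range := Set.finite_range τu |>.to_subtype
    have hle : τu.rangeRestrict.ker ≤ θ.ker := fun g hg => by
      rw [MonoidHom.ker_rangeRestrict] at hg
      exact hker g (congrArg Units.val (hg : τu g = 1))
    let θ' : τu.range →* Alt r := τu.rangeRestrict.liftOfSurjective τu.rangeRestrict_surjective ⟨θ, hle⟩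
    have hθ' : ∀ g, θ' (τu.rangeRestrict g) = θ g := fun g =>
      MonoidHom.liftOfRightInverse_comp_apply _ _ _ _ g
    by_cases hdn : d < Module.finrank k V
    · have hb := IH d hdn ℓ L (Fin d → L) τu.range ((Units.coeHom _).comp τu.range.subtype) θ'
        (fun a => by obtain ⟨g, rfl⟩ := hsurj a; exact ⟨_, hθ' g⟩)
        (fun u hu => by
          rw [show u = 1 from Subtype.ext (Units.ext hu), map_one])
        (Module.finrank_fin_fun _)
      have hd2 : r - 2 ≤ d := by split_ifs at hb <;> omega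
      have h1 := sq_lt_two_pow (r - 2) (by omega)
      have h2 : 2 ^ (r - 2) ≤ ℓ ^ d :=
        (Nat.pow_le_pow_right (by omega) hd2).trans (Nat.pow_le_pow_left hℓ.two_le d)
      by_contra hlt
      have h3 : Module.finrank k V * Module.finrank k V ≤ (r - 2) * (r - 2) :=
        Nat.mul_le_mul (by omega) (by omega)
      omega
    · exfalso
      push Not at hdn
      have h1 : 2 ^ Module.finrank k V ≤ ℓ ^ d :=
        (Nat.pow_le_pow_right (by omega) hdn).trans (Nat.pow_le_pow_left hℓ.two_le d)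
      have hn4 : Module.finrank k V ≤ 4 := by
        by_contra h5
        have := sq_lt_two_pow _ (by omega : 5 ≤ Module.finrank k V)
        omega
      have h16 : ℓ ^ d ≤ 16 := by
        have := Nat.mul_le_mul hn4 hn4
        omega
      have hd4 : d ≤ 4 := by
        by_contra h5
        have := (Nat.pow_le_pow_right (by omega : 1 ≤ 2) (by omega : 5 ≤ d)).trans
          (Nat.pow_le_pow_left hℓ.two_le d)
        omega
      have hM : Nat.card (Matrix (Fin d) (Fin d) (ZMod ℓ)) = (ℓ ^ d) ^ d := by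
        rw [show Matrix (Fin d) (Fin d) (ZMod ℓ) = (Fin d → Fin d → ZMod ℓ) from rfl]
        simp [Nat.card_pi]
      have hcardA : Nat.card (Alt r) ≤ Nat.card (Matrix (Fin d) (Fin d) (ZMod ℓ)) := by
        have hfac : ∀ g g', τ g = τ g' → θ g = θ g' := fun g g' e => by
          have : τu g = τu g' := Units.ext (by
            show τ' g = τ' g'
            simp only [τ', MonoidHom.comp_apply, e])
          rw [← hθ' g, ← hθ' g']
          exact congrArg θ' (Subtype.ext this)
        refine Nat.card_le_card_of_injective (fun a => τ (hsurj a).choose) fun a a' e => ?_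
        have := hfac _ _ e
        rwa [(hsurj a).choose_spec, (hsurj a').choose_spec] at this
      have h4 : (ℓ ^ d) ^ d ≤ 16 ^ 4 :=
        (Nat.pow_le_pow_left h16 d).trans (Nat.pow_le_pow_right (by omega) hd4)
      have h9 : Nat.card (Alt 9) ≤ Nat.card (Alt r) := by
        haveI : Nontrivial (Fin r) := Fin.nontrivial_iff_two_le.2 (by omega)
        have a1 := two_mul_nat_card_alternatingGroup (α := Fin r)
        have a2 := two_mul_nat_card_alternatingGroup (α := Fin 9)
        rw [Nat.card_perm, Nat.card_fin] at a1 a2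
        have := Nat.factorial_le hr
        show Nat.card ↥(alternatingGroup (Fin 9)) ≤ Nat.card ↥(alternatingGroup (Fin r))
        omega
      have h9' : Nat.card (Alt 9) = 181440 := by
        have a2 := two_mul_nat_card_alternatingGroup (α := Fin 9)
        rw [Nat.card_perm, Nat.card_fin, show Nat.factorial 9 = 362880 by decide] at a2
        show Nat.card ↥(alternatingGroup (Fin 9)) = 181440
        omega
      norm_num at h4
      omega

end Irreducible

theorem cyc_ne_one {r : ℕ} (hr : 3 ≤ r) : cyc (r := r) ⟨0, by omega⟩ ⟨1, by omega⟩ ⟨2, by omega⟩ ≠ 1 := by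
  intro h
  have h0 := cyc_fst (r := r) (a := ⟨0, by omega⟩) (b := ⟨1, by omega⟩) (c := ⟨2, by omega⟩)
    (by simp) (by simp) (by simp)
  rw [h] at h0
  simp at h0

theorem commutator_alt {r : ℕ} (hr : 9 ≤ r) : commutator (Alt r) = ⊤ := by
  haveI : IsSimpleGroup (Alt r) := alternatingGroup.isSimpleGroup (by simp; omega)
  rcases (inferInstance : (commutator (Alt r)).Normal).eq_bot_or_eq_top with h | h
  · exfalso
    have hc : (cyc (r := r) ⟨0, by omega⟩ ⟨1, by omega⟩ ⟨2, by omega⟩) * cyc ⟨0, by omega⟩ ⟨1, by omega⟩ ⟨3, by omega⟩ =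
        cyc ⟨0, by omega⟩ ⟨1, by omega⟩ ⟨3, by omega⟩ * cyc ⟨0, by omega⟩ ⟨1, by omega⟩ ⟨2, by omega⟩ := by
      refine commutatorElement_eq_one_iff_mul_comm.1 ?_
      rw [← Subgroup.mem_bot, ← h, _root_.commutator_def]
      exact Subgroup.commutator_mem_commutator (Subgroup.mem_top _) (Subgroup.mem_top _)
    have h1 := congrArg (fun g : Alt r => (g : Perm (Fin r)) ⟨0, by omega⟩) hc
    simp only [Subgroup.coe_mul, Perm.mul_apply] at h1
    rw [cyc_fst (by simp) (by simp) (by simp), cyc_fst (by simp) (by simp) (by simp),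
      cyc_snd (by simp) (by simp) (by simp), cyc_snd (by simp) (by simp) (by simp)] at h1
    simp at h1
  · exact h

/-- The bound for a group minimal over the alternating group. -/
theorem minimal_bound {r : ℕ} (hr : 9 ≤ r) (p : ℕ) [Fact p.Prime] {k : Type u} [Field k] [CharP k p]
    [IsAlgClosed k] {H : Type w} [Group H] [Finite H] (θ : H →* Alt r) (hsurj : Function.Surjective θ)
    (hmin : ∀ N : Subgroup H, N.map θ = ⊤ → N = ⊤) :
    ∀ n, (∀ m, m < n → SmallBound r m) → ∀ (V : Type v) [AddCommGroup V] [Module k V] [FiniteDimensional k V]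
      (ρ : Representation k H V), (∀ h, ρ h = 1 → θ h = 1) → Module.finrank k V = n →
      r - 1 - (if p ∣ r then 1 else 0) ≤ n := by
  intro n IH V _ _ _ ρ hker hn
  have hperf : commutator H = ⊤ := hmin _ (by
    rw [_root_.commutator_def, Subgroup.map_commutator, Subgroup.map_top_of_surjective θ hsurj,
      ← _root_.commutator_def, commutator_alt hr])
  have hnorm : ∀ N : Subgroup H, N.Normal → N = ⊤ ∨ N ≤ θ.ker := fun N hN => by
    haveI : IsSimpleGroup (Alt r) := alternatingGroup.isSimpleGroup (by simp; omega)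
    rcases (hN.map θ hsurj).eq_bot_or_eq_top with h | h
    · exact Or.inr ((Subgroup.map_eq_bot_iff N).1 h)
    · exact Or.inl (hmin N h)
  by_cases hirr : ∀ U : Submodule k V, (∀ h, ∀ v ∈ U, ρ h v ∈ U) → U = ⊥ ∨ U = ⊤
  · -- the faithful quotient
    obtain ⟨N, hN⟩ : ∃ N, N = MonoidHom.ker ρ := ⟨_, rfl⟩
    haveI : N.Normal := hN ▸ inferInstance
    have hNK : N ≤ θ.ker := fun g hg => hker g (show g ∈ MonoidHom.ker ρ from hN ▸ hg)
    let ρ' : Representation k (H ⧸ N) V := QuotientGroup.lift N ρ (le_of_eq hN)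
    let θ' : H ⧸ N →* Alt r := QuotientGroup.lift N θ hNK
    have hfaith : Function.Injective ρ' := by
      intro a b e
      obtain ⟨a, rfl⟩ := QuotientGroup.mk_surjective a
      obtain ⟨b, rfl⟩ := QuotientGroup.mk_surjective b
      rw [QuotientGroup.eq, hN, MonoidHom.mem_ker, map_mul]
      have e' : ρ a = ρ b := e
      rw [← e', ← map_mul, inv_mul_cancel, map_one]
    have hsurj' : Function.Surjective θ' := fun a => let ⟨g, hg⟩ := hsurj a; ⟨g, hg⟩
    have hmin' : ∀ M : Subgroup (H ⧸ N), M.map θ' = ⊤ → M = ⊤ := fun M hM => by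
      have := hmin (M.comap (QuotientGroup.mk' N)) (by
        rw [eq_top_iff, ← hM]
        rintro _ ⟨x, hx, rfl⟩
        obtain ⟨g, rfl⟩ := QuotientGroup.mk_surjective x
        exact ⟨g, hx, rfl⟩)
      rw [eq_top_iff]
      intro x _
      obtain ⟨g, rfl⟩ := QuotientGroup.mk_surjective x
      exact (show g ∈ M.comap (QuotientGroup.mk' N) by rw [this]; trivial)
    have hfr : θ'.ker ≤ frattini (H ⧸ N) := by
      show θ'.ker ≤ Order.radical _
      refine le_iInf₂ fun C hC => ?_
      by_contra hnot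
      have e : C ⊔ θ'.ker = ⊤ := hC.2 _ (lt_of_le_of_ne le_sup_left fun e => hnot (e ▸ le_sup_right))
      refine hC.1 (hmin' C ?_)
      rw [← Subgroup.map_top_of_surjective θ' hsurj', ← e, Subgroup.map_sup,
        (Subgroup.map_eq_bot_iff _).2 le_rfl, sup_bot_eq]
    haveI := frattini_nilpotent (G := H ⧸ N)
    have hnil : Group.IsNilpotent θ'.ker := Group.nilpotent_of_mulEquiv (Subgroup.subgroupOfEquivOfLe hfr)
    refine irreducible_bound ρ' θ' p hr hn hsurj' hfaith (fun M hM => ?_) ?_ hnil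
      (fun U hU => hirr U fun g v hv => hU g v hv) IH
    · haveI : IsSimpleGroup (Alt r) := alternatingGroup.isSimpleGroup (by simp; omega)
      rcases (hM.map θ' hsurj').eq_bot_or_eq_top with h | h
      · exact Or.inr ((Subgroup.map_eq_bot_iff M).1 h)
      · exact Or.inl (hmin' M h)
    · exact hmin' _ (by
        rw [_root_.commutator_def, Subgroup.map_commutator, Subgroup.map_top_of_surjective θ' hsurj',
          ← _root_.commutator_def, commutator_alt hr])
  push Not at hirr
  obtain ⟨U, hU, hU0, hU1⟩ := hirr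
  let ρU : Representation k H U :=
    { toFun := fun g => (ρ g).restrict (hU g)
      map_one' := LinearMap.ext fun v => Subtype.ext (by
        show ρ 1 (v : V) = v; rw [map_one]; rfl)
      map_mul' := fun g g' => LinearMap.ext fun v => Subtype.ext (by
        show ρ (g * g') (v : V) = ρ g (ρ g' v); rw [map_mul]; rfl) }
  let ρQ : Representation k H (V ⧸ U) :=
    { toFun := fun g => U.mapQ U (ρ g) (fun v hv => hU g v hv)
      map_one' := LinearMap.ext fun v => by
        obtain ⟨v, rfl⟩ := U.mkQ_surjective v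
        simp [Submodule.mapQ_apply]
      map_mul' := fun g g' => LinearMap.ext fun v => by
        obtain ⟨v, rfl⟩ := U.mkQ_surjective v
        simp [Submodule.mapQ_apply, map_mul] }
  have hUlt : Module.finrank k U < n := hn ▸ Submodule.finrank_lt hU1
  have hQlt : Module.finrank k (V ⧸ U) < n := by
    have := U.finrank_quotient_add_finrank
    have : 0 < Module.finrank k U := by
      have := Submodule.nontrivial_iff_ne_bot.2 hU0
      exact Module.finrank_pos
    omega
  have hcase : (∀ h, ρU h = 1 → θ h = 1) ∨ (∀ h, ρQ h = 1 → θ h = 1) := by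
    rcases hnorm (MonoidHom.ker ρU) inferInstance with h | h
    · rcases hnorm (MonoidHom.ker ρQ) inferInstance with h' | h'
      · exfalso
        have hU' : ∀ g, ∀ v ∈ U, ρ g v = v := fun g v hv =>
          congrArg Subtype.val (LinearMap.congr_fun (show ρU g = 1 from
            (show g ∈ MonoidHom.ker ρU by rw [h]; trivial)) ⟨v, hv⟩)
        have hQ' : ∀ g v, ρ g v - v ∈ U := fun g v => by
          have h1 := LinearMap.congr_fun (show ρQ g = 1 from
            (show g ∈ MonoidHom.ker ρQ by rw [h']; trivial)) (U.mkQ v)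
          exact (Submodule.Quotient.eq U).1 h1
        have hcm : ∀ a b : H, ρ a * ρ b = ρ b * ρ a := fun a b => LinearMap.ext fun v => by
          rw [Module.End.mul_apply, Module.End.mul_apply]
          have e1 : ρ a (ρ b v) = (ρ b v - v) + ρ a v := by
            rw [← hU' a _ (hQ' b v), ← map_add, sub_add_cancel]
          have e2 : ρ b (ρ a v) = (ρ a v - v) + ρ b v := by
            rw [← hU' b _ (hQ' a v), ← map_add, sub_add_cancel]
          rw [e1, e2]; abel
        have hle : commutator H ≤ MonoidHom.ker ρ := by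
          rw [_root_.commutator_def, Subgroup.commutator_le]
          intro a _ b _
          rw [MonoidHom.mem_ker, commutatorElement_def, map_mul, map_mul, map_mul, hcm a b, mul_assoc (ρ b),
            ← map_mul, mul_inv_cancel, map_one, mul_one, ← map_mul, mul_inv_cancel, map_one]
        obtain ⟨g, hg⟩ := hsurj (cyc ⟨0, by omega⟩ ⟨1, by omega⟩ ⟨2, by omega⟩)
        have hg' : g ∈ commutator H := by rw [hperf]; trivial
        exact cyc_ne_one (r := r) (by omega) (hg ▸ hker g (hle hg'))
      · exact Or.inr fun g hg => h' hg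
    · exact Or.inl fun g hg => h hg
  rcases hcase with h | h
  · exact le_trans (minimal_bound hr p θ hsurj hmin _ (fun m hm => IH m (by omega)) U ρU h rfl) hUlt.le
  · exact le_trans (minimal_bound hr p θ hsurj hmin _ (fun m hm => IH m (by omega)) (V ⧸ U) ρQ h rfl) hQlt.le
termination_by n => n

/-- The bound, given the bound for smaller degrees. -/
theorem step {r : ℕ} (hr : 9 ≤ r) (p : ℕ) [Fact p.Prime] {k : Type u} [Field k] [CharP k p] [IsAlgClosed k]
    {H : Type w} [Group H] [Finite H] (n : ℕ) (IH : ∀ m, m < n → SmallBound r m) (V : Type v) [AddCommGroup V]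
    [Module k V] [FiniteDimensional k V] (ρ : Representation k H V) (θ : H →* Alt r)
    (hsurj : Function.Surjective θ) (hker : ∀ h, ρ h = 1 → θ h = 1) (hn : Module.finrank k V = n) :
    r - 1 - (if p ∣ r then 1 else 0) ≤ n := by
  obtain ⟨M, hM, hMmin⟩ : ∃ M : Subgroup H, M.map θ = ⊤ ∧ ∀ N : Subgroup H, N < M → N.map θ ≠ ⊤ := by
    obtain ⟨M, hM, hmin⟩ := (Set.toFinite {M : Subgroup H | M.map θ = ⊤}).exists_minimal
      ⟨⊤, Subgroup.map_top_of_surjective θ hsurj⟩
    exact ⟨M, hM, fun N hN h => hN.not_ge (hmin h hN.le)⟩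
  refine minimal_bound hr p (θ.comp M.subtype) (fun a => ?_) (fun N hN => ?_) n IH V (ρ.comp M.subtype)
    (fun g hg => hker g hg) hn
  · obtain ⟨g, hg, rfl⟩ : a ∈ M.map θ := by rw [hM]; trivial
    exact ⟨⟨g, hg⟩, rfl⟩
  · rw [← Subgroup.map_map] at hN
    rcases (show N.map M.subtype ≤ M from Subgroup.map_subtype_le _).lt_or_eq with h | h
    · exact absurd hN (hMmin _ h)
    · rw [eq_top_iff]
      intro x _
      obtain ⟨x', hx', e⟩ : (x : H) ∈ N.map M.subtype := by rw [h]; exact x.2
      rwa [← Subtype.ext e]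

theorem small_bound {r : ℕ} (hr : 9 ≤ r) : ∀ m, SmallBound r m := by
  intro m
  induction m using Nat.strong_induction_on with
  | _ m ih =>
    intro ℓ _ k _ _ _ V _ _ _ H _ _ ρ θ hs hk hn
    exact step hr ℓ m ih V ρ θ hs hk hn

/-- The bound for finite linear groups. -/
theorem section_bound {F : Type u} [Field F] [Finite F] (p : ℕ) [Fact p.Prime] [CharP F p] (n r : ℕ)
    (H : Subgroup (GL (Fin n) F)) (K : Subgroup H) [K.Normal] (e : H ⧸ K ≃* Alt r) (hr : 9 ≤ r) :
    r - 1 - (if p ∣ r then 1 else 0) ≤ n := by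
  let L := AlgebraicClosure F
  haveI : CharP L p := charP_of_injective_algebraMap (algebraMap F L).injective p
  let ρ : Representation L H (Fin n → L) :=
    (Matrix.toLinAlgEquiv' : Matrix (Fin n) (Fin n) L ≃ₐ[L] _).toAlgHom.toMonoidHom.comp
      ((algebraMap F L).mapMatrix.toMonoidHom.comp ((Units.coeHom _).comp H.subtype))
  let θ : H →* Alt r := e.toMonoidHom.comp (QuotientGroup.mk' K)
  refine step (H := H) (k := L) hr p n (fun m _ => small_bound hr m) (Fin n → L) ρ θ
    (e.surjective.comp (QuotientGroup.mk'_surjective K)) (fun h hh => ?_) (Module.finrank_fin_fun L)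
  have h1 : (algebraMap F L).mapMatrix ((h : GL (Fin n) F) : Matrix (Fin n) (Fin n) F) = 1 :=
    (Matrix.toLinAlgEquiv' : Matrix (Fin n) (Fin n) L ≃ₐ[L] _).injective (hh.trans (map_one _).symm)
  have h2 : h = 1 := Subtype.ext (Units.ext (Matrix.map_injective (algebraMap F L).injective
    (h1.trans (map_one (algebraMap F L).mapMatrix).symm)))
  rw [h2, map_one]

end CfsgLib.PGroup.AltDeg
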